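import Mathlib
import Cfsg.Agent.PGroups.Basic
import Cfsg.Agent.PGroups.MaxAbelian
import Cfsg.Agent.Derange.Fixed

/-!
# A four-group acting with fixed-point groups of 2-rank one

`G = AU` with `A` normal, `U` a four-group, and no non-identity element of `U` commutes with two
commuting involutions of `A`.  A Sylow 2-subgroup of `A` then has a cyclic self-centralising
subgroup on which every element outside it acts with exponent `3 mod 4`.
-/

set_option autoImplicit false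

namespace Cfsg.Agent.H7Four

open Subgroup

variable {G : Type*} [Group G]

/-- The hypotheses. -/
structure Ctx (G : Type*) [Group G] where
  A : Subgroup G
  U : Subgroup G
  T : Sylow 2 G
  normal : A.Normal
  perf : ⁅A, A⁆ = A
  hUT : U ≤ (T : Subgroup G)
  hU2 : ∀ u ∈ U, u * u = 1
  hU4 : Nat.card U = 4
  gen : ∀ g : G, ∃ a ∈ A, ∃ u ∈ U, g = a * u
  uniq : ∀ u ∈ U, u ≠ 1 → ∀ x ∈ A, ∀ y ∈ A, x * x = 1 → y * y = 1 → x ≠ 1 → y ≠ 1 →
    Commute u x → Commute u y → Commute x y → x = y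

/-- `z` is an involution of `A` central in `T`. -/
structure IsCentralInv (D : Ctx G) (z : G) : Prop where
  memT : z ∈ (D.T : Subgroup G)
  memA : z ∈ D.A
  ne : z ≠ 1
  sq : z * z = 1
  comm : ∀ t ∈ (D.T : Subgroup G), Commute t z

/-- `c` generates the self-centralising cyclic subgroup. -/
structure IsAxis (D : Ctx G) (z c : G) : Prop where
  memT : c ∈ (D.T : Subgroup G)
  memA : c ∈ D.A
  hz : ∃ i : ℤ, z = c ^ i
  norm : ∀ t ∈ (D.T : Subgroup G), ∃ r : ℤ, t * c * t⁻¹ = c ^ r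
  cent : ∀ x ∈ (D.T : Subgroup G), x ∈ D.A → Commute x c → ∃ j : ℤ, x = c ^ j
  inv : ∀ i : ℤ, c ^ i * c ^ i = 1 → c ^ i = 1 ∨ c ^ i = z

theorem exists_pair [Finite G] (D : Ctx G) :
    ∃ u₁ ∈ D.U, ∃ u₂ ∈ D.U, u₁ ≠ 1 ∧ u₂ ≠ 1 ∧ u₁ * u₂ ∈ D.U ∧ u₁ * u₂ ≠ 1 := by
  classical
  haveI := Fintype.ofFinite ↥D.U
  have h4 := D.hU4
  rw [Nat.card_eq_fintype_card] at h4
  obtain ⟨a, ha⟩ : ∃ a : ↥D.U, a ≠ 1 := by
    by_contra h
    push Not at h
    have : (Finset.univ : Finset ↥D.U) ⊆ {1} := fun x _ => by simp [h x]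
    have := Finset.card_le_card this
    rw [Finset.card_univ, h4, Finset.card_singleton] at this
    omega
  obtain ⟨b, hb1, hba⟩ : ∃ b : ↥D.U, b ≠ 1 ∧ b ≠ a := by
    by_contra h
    push Not at h
    have : (Finset.univ : Finset ↥D.U) ⊆ {1, a} := fun x _ => by
      rcases eq_or_ne x 1 with rfl | hx
      · simp
      · simp [h x hx]
    have := Finset.card_le_card this
    rw [Finset.card_univ, h4] at this
    have := this.trans Finset.card_le_two
    omega
  refine ⟨a.1, a.2, b.1, b.2, fun h => ha (Subtype.ext h), fun h => hb1 (Subtype.ext h),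
    mul_mem a.2 b.2, fun h => hba (Subtype.ext ?_)⟩
  have h1 := D.hU2 a.1 a.2
  exact mul_left_cancel (h.trans h1.symm)

variable {D : Ctx G} {z c : G}

theorem conj_eq_iff_commute {t x : G} : t * x * t⁻¹ = x ↔ Commute t x := by
  rw [mul_inv_eq_iff_eq_mul]
  exact Iff.rfl

theorem IsCentralInv.conjT (hz : IsCentralInv D z) {t : G} (ht : t ∈ (D.T : Subgroup G)) :
    t * z * t⁻¹ = z := conj_eq_iff_commute.2 (hz.comm t ht)

theorem fix_eq (hz : IsCentralInv D z) {u : G} (hu : u ∈ D.U) (hu1 : u ≠ 1) {x : G}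
    (hxT : x ∈ (D.T : Subgroup G)) (hxA : x ∈ D.A) (hx : x * x = 1) (hc : Commute u x) :
    x = 1 ∨ x = z := by
  rcases eq_or_ne x 1 with h | h
  · exact Or.inl h
  · exact Or.inr (D.uniq u hu hu1 x hxA z hz.memA hx hz.sq h hz.ne hc (hz.comm u (D.hUT hu))
      (hz.comm x hxT))

theorem moved_false [Finite G] (hz : IsCentralInv D z) {y : G} (hyT : y ∈ (D.T : Subgroup G))
    (hyA : y ∈ D.A) (hy : y * y = 1) (hy1 : y ≠ 1) (hyz : y ≠ z)
    (h : ∀ u ∈ D.U, u ≠ 1 → u * y * u⁻¹ = z * y) : False := by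
  obtain ⟨u₁, h₁, u₂, h₂, n₁, n₂, h₁₂, n₁₂⟩ := exists_pair D
  have e : u₁ * u₂ * y * (u₁ * u₂)⁻¹ = y :=
    calc u₁ * u₂ * y * (u₁ * u₂)⁻¹ = u₁ * (u₂ * y * u₂⁻¹) * u₁⁻¹ := by group
      _ = u₁ * (z * y) * u₁⁻¹ := by rw [h u₂ h₂ n₂]
      _ = (u₁ * z * u₁⁻¹) * (u₁ * y * u₁⁻¹) := by group
      _ = z * (z * y) := by rw [hz.conjT (D.hUT h₁), h u₁ h₁ n₁]
      _ = y := by rw [← mul_assoc, hz.sq, one_mul]
  rcases fix_eq hz h₁₂ n₁₂ hyT hyA hy (conj_eq_iff_commute.1 e) with h' | h'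
  · exact hy1 h'
  · exact hyz h'

theorem exists_centralInv [Finite G] (D : Ctx G)
    (h : ∃ x : G, x ∈ (D.T : Subgroup G) ∧ x ∈ D.A ∧ x ≠ 1) : ∃ z, IsCentralInv D z := by
  haveI := D.normal
  haveI := Fact.mk Nat.prime_two
  set N : Subgroup ↥(D.T : Subgroup G) := D.A.subgroupOf (D.T : Subgroup G)
  haveI : N.Normal := D.normal.subgroupOf _
  obtain ⟨x, hxT, hxA, hx1⟩ := h
  have hN : N ≠ ⊥ := by
    intro hb
    have hm : (⟨x, hxT⟩ : ↥(D.T : Subgroup G)) ∈ N := hxA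
    rw [hb, Subgroup.mem_bot] at hm
    exact hx1 (congrArg Subtype.val hm)
  obtain ⟨y, hyN, hyC, hy⟩ := PGroups.exists_mem_center_orderOf_eq D.T.2 N hN
  have hy2 : y * y = 1 := by
    have := pow_orderOf_eq_one y
    rwa [hy, pow_two] at this
  refine ⟨(y : G), y.2, hyN, fun hh => ?_, congrArg Subtype.val hy2, fun t ht => ?_⟩
  · rw [show y = 1 from Subtype.ext hh, orderOf_one] at hy
    omega
  · exact congrArg Subtype.val (Subgroup.mem_center_iff.1 hyC ⟨t, ht⟩)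

theorem exists_axis [Finite G] (hz : IsCentralInv D z) : ∃ c, IsAxis D z c := by
  haveI := D.normal
  haveI := Fact.mk Nat.prime_two
  set T' := (D.T : Subgroup G) with hT'
  let N : Subgroup ↥T' := D.A.subgroupOf T'
  haveI : N.Normal := D.normal.subgroupOf _
  let zT : ↥T' := ⟨z, hz.memT⟩
  have hzc : zT ∈ center ↥T' := mem_center_iff.2 fun g => Subtype.ext (hz.comm g.1 g.2)
  let fam : Set (Subgroup ↥T') := {B | B.Normal ∧ IsMulCommutative B ∧ B ≤ N ∧ zT ∈ B}
  have hzcom : IsMulCommutative (zpowers zT) := PGroups.isMulCommutative_of_comm fun x hx y hy => by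
    obtain ⟨i, rfl⟩ := hx
    obtain ⟨j, rfl⟩ := hy
    exact zpow_mul_comm zT i j
  obtain ⟨B, hBmax⟩ := (Set.toFinite fam).exists_maximal
    ⟨zpowers zT, PGroups.normal_of_le_center (zpowers_le.2 hzc), hzcom, zpowers_le.2 hz.memA,
      mem_zpowers zT⟩
  obtain ⟨hBn, hBc, hBN, hzB⟩ := hBmax.1
  haveI := hBn
  have hBcomm : ∀ x ∈ B, ∀ y ∈ B, (x : G) * y = y * x := fun x hx y hy =>
    congrArg Subtype.val (PGroups.comm_of_isMulCommutative hBc hx hy)
  have hself : centralizer (B : Set ↥T') ⊓ N ≤ B := by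
    by_contra hne
    have hle : B ≤ centralizer (B : Set ↥T') ⊓ N := le_inf (fun x hx =>
      mem_centralizer_iff.2 fun g hg => PGroups.comm_of_isMulCommutative hBc hg hx) hBN
    obtain ⟨M, hMn, hBM, hMC, hcard⟩ := PGroups.exists_normal_card_mul D.T.2 B
      (centralizer (B : Set ↥T') ⊓ N) (lt_of_le_not_ge hle hne)
    have hlt : B < M := lt_of_le_of_ne hBM fun h => by
      rw [← h] at hcard
      nlinarith [(Nat.card_pos : 0 < Nat.card B)]
    obtain ⟨x, hxM, hxB⟩ := SetLike.exists_of_lt hlt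
    have hMeq : B ⊔ zpowers x = M := by
      refine Subgroup.eq_of_le_of_card_ge (sup_le hBM (zpowers_le.mpr hxM)) ?_
      have h1 : B < B ⊔ zpowers x :=
        lt_of_le_of_ne le_sup_left fun h => hxB (h ▸ Subgroup.mem_sup_right (mem_zpowers x))
      obtain ⟨m, hm⟩ := Subgroup.card_dvd_of_le h1.le
      have hd := Subgroup.card_dvd_of_le (sup_le hBM (zpowers_le.mpr hxM))
      rw [hm, hcard, mul_comm 2] at hd
      rcases Nat.prime_two.eq_one_or_self_of_dvd m (Nat.dvd_of_mul_dvd_mul_left Nat.card_pos hd)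
        with h | h
      · rw [h, mul_one] at hm
        exact absurd (Subgroup.eq_of_le_of_card_ge h1.le hm.le) h1.ne
      · rw [hcard, hm, h, mul_comm]
    have hcomm := PGroups.isMulCommutative_sup_zpowers hBc (hMC hxM).1
    rw [hMeq] at hcomm
    exact hlt.not_ge (hBmax.2 ⟨hMn, hcomm, hMC.trans inf_le_right, hBM hzB⟩ hBM)
  have hinvB : ∀ b ∈ B, b * b = 1 → (b : G) = 1 ∨ (b : G) = z := by
    intro b hb hb2
    by_contra hbn
    push Not at hbn
    obtain ⟨hb1, hbz⟩ := hbn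
    have hb2' : (b : G) * b = 1 := congrArg Subtype.val hb2
    refine moved_false hz b.2 (hBN hb) hb2' hb1 hbz fun u hu hu1 => ?_
    let uT : ↥T' := ⟨u, D.hUT hu⟩
    have hbu : uT * b * uT⁻¹ ∈ B := hBn.conj_mem b hb uT
    have hu2 := D.hU2 u hu
    have hui : u⁻¹ = u := inv_eq_of_mul_eq_one_right hu2
    set p := u * (b : G) * u⁻¹ with hp
    have hpB : ∃ q ∈ B, (q : G) = p := ⟨_, hbu, rfl⟩
    obtain ⟨q, hq, hqp⟩ := hpB
    have hcm : p * (b : G) = b * p := by rw [← hqp]; exact hBcomm q hq b hb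
    have hp2 : p * p = 1 := by
      calc p * p = u * ((b : G) * b) * u⁻¹ := by rw [hp]; group
        _ = 1 := by rw [hb2', mul_one, mul_inv_cancel]
    have hpu : u * p * u⁻¹ = b := by
      rw [hp, hui]
      calc u * (u * (b : G) * u) * u = (u * u) * b * (u * u) := by group
        _ = b := by rw [hu2, one_mul, mul_one]
    have hd : (p * b) * (p * b) = 1 :=
      calc (p * b) * (p * b) = (b * p) * (p * b) := by rw [hcm]
        _ = (b : G) * (p * p) * b := by group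
        _ = 1 := by rw [hp2, mul_one, hb2']
    have hdu : Commute u (p * b) := conj_eq_iff_commute.1 <|
      calc u * (p * (b : G)) * u⁻¹ = (u * p * u⁻¹) * (u * b * u⁻¹) := by group
        _ = p * b := by rw [hpu, ← hp, hcm]
    have hpT : p ∈ T' := hqp ▸ q.2
    have hpA : p ∈ D.A := D.normal.conj_mem _ (hBN hb) u
    rcases fix_eq hz hu hu1 (mul_mem hpT b.2) (mul_mem hpA (hBN hb)) hd hdu with h | h
    · exfalso
      have : p = (b : G) := mul_right_cancel (h.trans hb2'.symm)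
      rcases fix_eq hz hu hu1 b.2 (hBN hb) hb2' (conj_eq_iff_commute.1 this) with h' | h'
      · exact hb1 h'
      · exact hbz h'
    · calc p = p * ((b : G) * b) := by rw [hb2', mul_one]
        _ = z * b := by rw [← mul_assoc, h]
  obtain ⟨g, hg, hBg⟩ := Derange.isCyclic_of_unique (q := 2) (A := B) (D.T.2.to_subgroup B)
    (fun x hx y hy => PGroups.comm_of_isMulCommutative hBc hx hy) fun x hx y hy hx2 hx1 hy2 => by
      rw [pow_two] at hx2 hy2
      have hxz : (x : G) = z := (hinvB x hx hx2).resolve_left fun h => hx1 (Subtype.ext h)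
      rcases hinvB y hy hy2 with h | h
      · rw [show y = 1 from Subtype.ext h]; exact one_mem _
      · rw [show y = x from Subtype.ext (h.trans hxz.symm)]; exact mem_zpowers x
  refine ⟨(g : G), g.2, hBN hg, ?_, fun t ht => ?_, fun x hxT hxA hxc => ?_, fun i hi => ?_⟩
  · rw [hBg] at hzB
    obtain ⟨i, hi⟩ := hzB
    exact ⟨i, by simpa using (congrArg Subtype.val hi).symm⟩
  · have := hBn.conj_mem g hg ⟨t, ht⟩
    nth_rewrite 1 [hBg] at this
    obtain ⟨r, hr⟩ := this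
    exact ⟨r, by simpa using (congrArg Subtype.val hr).symm⟩
  · have hm : (⟨x, hxT⟩ : ↥T') ∈ B := by
      refine hself ⟨mem_centralizer_iff.2 fun b hb => ?_, hxA⟩
      rw [SetLike.mem_coe, hBg] at hb
      obtain ⟨j, rfl⟩ := hb
      refine Subtype.ext ?_
      simpa using (hxc.symm.zpow_left j).eq
    rw [hBg] at hm
    obtain ⟨j, hj⟩ := hm
    exact ⟨j, by simpa using (congrArg Subtype.val hj).symm⟩
  · have hm : g ^ i ∈ B := zpow_mem hg i
    have := hinvB (g ^ i) hm (Subtype.ext (by simpa using hi))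
    simpa using this

namespace IsAxis

variable (hz : IsCentralInv D z) (hc : IsAxis D z c)
include hz hc

theorem conj_pow {t : G} {r : ℤ} (h : t * c * t⁻¹ = c ^ r) (i : ℤ) :
    t * c ^ i * t⁻¹ = c ^ (r * i) := by
  rw [← conj_zpow, h, zpow_mul]

theorem comp {s t : G} {r q : ℤ} (hs : s * c * s⁻¹ = c ^ r) (ht : t * c * t⁻¹ = c ^ q) :
    s * t * c * (s * t)⁻¹ = c ^ (r * q) := by
  rw [← IsAxis.conj_pow hz hc hs, ← ht]
  group

theorem eq_one_of_odd_pow {i s : ℤ} (hs : Odd s) (h : (c ^ i) ^ s = 1) : c ^ i = 1 := by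
  obtain ⟨n, hn⟩ := D.T.2 ⟨c ^ i, zpow_mem hc.memT i⟩
  have hn' : (c ^ i) ^ ((2 : ℤ) ^ n) = 1 := by
    have := congrArg Subtype.val hn
    rw [show ((2 : ℤ) ^ n) = ((2 ^ n : ℕ) : ℤ) by push_cast; rfl, zpow_natCast]
    simpa using this
  obtain ⟨q, hq⟩ := hs
  have hco : IsCoprime s ((2 : ℤ) ^ n) := IsCoprime.pow_right ⟨1, -q, by omega⟩
  obtain ⟨a, b, hab⟩ := hco
  calc c ^ i = (c ^ i) ^ (a * s + b * 2 ^ n) := by rw [hab, zpow_one]
    _ = 1 := by
      rw [zpow_add, mul_comm a, mul_comm b, zpow_mul (c ^ i) s a,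
        zpow_mul (c ^ i) ((2 : ℤ) ^ n) b, h, hn', one_zpow, one_zpow, mul_one]

theorem exists_root {i s : ℤ} (hs : Odd s) : ∃ j : ℤ, c ^ (s * j) = c ^ i := by
  obtain ⟨n, hn⟩ := D.T.2 ⟨c, hc.memT⟩
  have hn' : c ^ ((2 : ℤ) ^ n) = 1 := by
    have := congrArg Subtype.val hn
    rw [show ((2 : ℤ) ^ n) = ((2 ^ n : ℕ) : ℤ) by push_cast; rfl, zpow_natCast]
    simpa using this
  obtain ⟨q, hq⟩ := hs
  have hco : IsCoprime s ((2 : ℤ) ^ n) := IsCoprime.pow_right ⟨1, -q, by omega⟩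
  obtain ⟨a, b, hab⟩ := hco
  refine ⟨a * i, ?_⟩
  have : s * (a * i) = i - 2 ^ n * (b * i) := by
    have : a * s * i + b * 2 ^ n * i = i := by rw [← add_mul, hab, one_mul]
    linarith
  rw [this, zpow_sub, zpow_mul, hn', one_zpow, inv_one, mul_one]

theorem exp_odd {t : G} (ht : t ∈ (D.T : Subgroup G)) {r : ℤ} (h : t * c * t⁻¹ = c ^ r) : Odd r := by
  by_contra hr
  obtain ⟨q, hq⟩ := Int.not_odd_iff_even.1 hr
  obtain ⟨i, hi⟩ := hc.hz
  refine hz.ne ?_
  calc z = t * z * t⁻¹ := (hz.conjT ht).symm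
    _ = c ^ (r * i) := by rw [hi, IsAxis.conj_pow hz hc h]
    _ = c ^ i * c ^ i * 1 ^ (0 : ℤ) * (c ^ i * c ^ i) ^ (q - 1) := by
      rw [hq, ← zpow_add, ← zpow_mul, one_zpow, mul_one, ← zpow_add]
      congr 1
      ring
    _ = 1 := by rw [← hi, hz.sq, one_zpow, one_zpow]; group

theorem commute_of_four_dvd [Finite G] : ∀ (j : ℕ) (x : G), x ∈ (D.T : Subgroup G) → x ∈ D.A →
    Commute (x ^ 2 ^ j) c → ∀ r : ℤ, x * c * x⁻¹ = c ^ r → 4 ∣ r - 1 → Commute x c := by
  intro j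
  induction j with
  | zero => intro x _ _ h r _ _; simpa using h
  | succ j ih =>
    intro x hxT hxA hj r hr h4
    by_contra hxc
    obtain ⟨q, hq⟩ := h4
    have hsq : Commute (x * x) c := ih (x * x) (mul_mem hxT hxT) (mul_mem hxA hxA)
      (by rwa [← pow_two, ← pow_mul, ← pow_succ']) (r * r) (IsAxis.comp hz hc hr hr)
      ⟨q * (r + 1), by rw [show r = 4 * q + 1 by omega]; ring⟩
    obtain ⟨l, hl⟩ := hc.cent _ (mul_mem hxT hxT) (mul_mem hxA hxA) hsq
    have hrr : c ^ (r * r) = c := by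
      rw [← IsAxis.comp hz hc hr hr]; exact conj_eq_iff_commute.2 hsq
    have hv : c ^ (r - 1) * c ^ (r - 1) = 1 := by
      rw [← zpow_add]
      refine IsAxis.eq_one_of_odd_pow hz hc (s := 2 * q + 1) ⟨q, rfl⟩ ?_
      rw [← zpow_mul, show (r - 1 + (r - 1)) * (2 * q + 1) = r * r + -1 by
        rw [show r = 4 * q + 1 by omega]; ring, zpow_add, hrr, zpow_neg_one, mul_inv_cancel]
    rcases hc.inv _ hv with hv1 | hvz
    · refine hxc (conj_eq_iff_commute.1 ?_)
      rw [hr, show r = 1 + (r - 1) by ring, zpow_add, hv1, zpow_one, mul_one]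
    have hxcz : x * c * x⁻¹ = c * z := by
      rw [hr, show r = 1 + (r - 1) by ring, zpow_add, hvz, zpow_one]
    have hcz : Commute c z := hz.comm c hc.memT
    have hc4 : c ^ (4 : ℤ) ≠ 1 := fun h => hz.ne (by rw [← hvz, hq, zpow_mul, h, one_zpow])
    -- `x c^i = c^i z^i x`
    have hpow : ∀ {y : G}, y * c * y⁻¹ = c * z → ∀ i : ℤ, y * c ^ i = c ^ i * z ^ i * y :=
      fun {y} hy i => by rw [← mul_inv_eq_iff_eq_mul, ← conj_zpow, hy, hcz.mul_zpow]
    have hzz : ∀ i : ℤ, z ^ (2 * i) = 1 := fun i => by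
      rw [zpow_mul, zpow_two, hz.sq, one_zpow]
    have hzodd : ∀ i : ℤ, z ^ (2 * i + 1) = z := fun i => by rw [zpow_add, hzz, one_mul, zpow_one]
    obtain ⟨l', hl'⟩ : Even l := by
      by_contra hle
      obtain ⟨a, ha⟩ := Int.not_even_iff_odd.1 hle
      have h1 : x * c ^ l = c ^ l * x := by rw [← hl]; group
      rw [hpow hxcz l, ha, hzodd] at h1
      exact hz.ne (mul_left_cancel ((mul_right_cancel h1).trans (mul_one _).symm))
    have hy0 : (x * c ^ (-l')) * (x * c ^ (-l')) = z ^ (-l') := by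
      calc (x * c ^ (-l')) * (x * c ^ (-l'))
          = (x * c ^ (-l')) * x * c ^ (-l') := by group
        _ = c ^ (-l') * z ^ (-l') * (x * x) * c ^ (-l') := by rw [hpow hxcz]; group
        _ = z ^ (-l') := by
          rw [hl, hl', (hcz.zpow_zpow (-l') (-l')).eq]
          group
    have hy0c : (x * c ^ (-l')) * c * (x * c ^ (-l'))⁻¹ = c * z :=
      (show _ = x * c * x⁻¹ by group).trans hxcz
    -- an involution inducing `c ↦ c z`
    obtain ⟨y, hyT, hyA, hy2, hyc⟩ : ∃ y : G, y ∈ (D.T : Subgroup G) ∧ y ∈ D.A ∧ y * y = 1 ∧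
        y * c * y⁻¹ = c * z := by
      rcases Int.even_or_odd' (-l') with ⟨a, ha | ha⟩
      · exact ⟨_, mul_mem hxT (zpow_mem hc.memT _), mul_mem hxA (zpow_mem hc.memA _),
          by rw [hy0, ha, hzz], hy0c⟩
      · obtain ⟨i, hi⟩ := hc.hz
        obtain ⟨i', hi'⟩ : Even i := by
          by_contra hie
          refine hc4 ?_
          have h2 : c ^ (2 : ℤ) = 1 := IsAxis.eq_one_of_odd_pow hz hc (Int.not_even_iff_odd.1 hie)
            (by rw [← zpow_mul, mul_comm, zpow_mul, ← hi, zpow_two, hz.sq])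
          rw [show (4 : ℤ) = 2 * 2 by norm_num, zpow_mul, h2, one_zpow]
        obtain ⟨i'', hi''⟩ : Even i' := by
          by_contra hie
          refine hc4 (IsAxis.eq_one_of_odd_pow hz hc (Int.not_even_iff_odd.1 hie) ?_)
          rw [← zpow_mul, show (4 : ℤ) * i' = i * 2 by omega, zpow_mul, ← hi, zpow_two, hz.sq]
        set y₀ := x * c ^ (-l') with hy₀
        refine ⟨y₀ * c ^ i', mul_mem (mul_mem hxT (zpow_mem hc.memT _)) (zpow_mem hc.memT _),
          mul_mem (mul_mem hxA (zpow_mem hc.memA _)) (zpow_mem hc.memA _), ?_,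
          (show _ = y₀ * c * y₀⁻¹ by group).trans hy0c⟩
        have hw : y₀ * c ^ i' = c ^ i' * y₀ := by
          rw [hpow hy0c, hi'', show i'' + i'' = 2 * i'' by ring, hzz, mul_one]
        calc y₀ * c ^ i' * (y₀ * c ^ i') = (y₀ * y₀) * (c ^ i' * c ^ i') := by
              rw [mul_assoc, ← mul_assoc (c ^ i'), ← hw]; simp only [mul_assoc]
          _ = 1 := by rw [hy0, ha, hzodd, ← zpow_add, ← hi', ← hi, hz.sq]
    have hy1 : y ≠ 1 := by
      rintro rfl
      simp at hyc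
      exact hz.ne hyc
    have hyz : y ≠ z := by
      rintro rfl
      rw [conj_eq_iff_commute.2 hcz.symm] at hyc
      exact hz.ne (mul_left_cancel ((mul_one c).trans hyc)).symm
    refine moved_false hz hyT hyA hy2 hy1 hyz fun u hu hu1 => ?_
    haveI := D.normal
    obtain ⟨a, ha⟩ := hc.norm u (D.hUT hu)
    obtain ⟨a', ha'⟩ := IsAxis.exp_odd hz hc (D.hUT hu) ha
    have hu2 := D.hU2 u hu
    have hua : u * c ^ a * u⁻¹ = c := by
      rw [IsAxis.conj_pow hz hc ha, ← IsAxis.comp hz hc ha ha, hu2]; group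
    have hy' : (u * y * u⁻¹) * c * (u * y * u⁻¹)⁻¹ = c * z :=
      calc (u * y * u⁻¹) * c * (u * y * u⁻¹)⁻¹
          = u * (y * (u⁻¹ * c * u) * y⁻¹) * u⁻¹ := by group
        _ = u * (y * c ^ a * y⁻¹) * u⁻¹ := by
          rw [inv_eq_of_mul_eq_one_right hu2, ← ha, inv_eq_of_mul_eq_one_right hu2]
        _ = u * (c ^ a * z) * u⁻¹ := by
          rw [← conj_zpow, hyc, hcz.mul_zpow, ha', hzodd]
        _ = (u * c ^ a * u⁻¹) * (u * z * u⁻¹) := by group
        _ = c * z := by rw [hua, hz.conjT (D.hUT hu)]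
    have hy'T : u * y * u⁻¹ ∈ (D.T : Subgroup G) :=
      mul_mem (mul_mem (D.hUT hu) hyT) (inv_mem (D.hUT hu))
    have hy'A : u * y * u⁻¹ ∈ D.A := D.normal.conj_mem y hyA u
    obtain ⟨i, hi⟩ := hc.cent ((u * y * u⁻¹) * y⁻¹) (mul_mem hy'T (inv_mem hyT))
      (mul_mem hy'A (inv_mem hyA)) (conj_eq_iff_commute.1 <|
        calc u * y * u⁻¹ * y⁻¹ * c * (u * y * u⁻¹ * y⁻¹)⁻¹
            = (u * y * u⁻¹) * (y⁻¹ * c * y) * (u * y * u⁻¹)⁻¹ := by group
          _ = (u * y * u⁻¹) * (c * z) * (u * y * u⁻¹)⁻¹ := by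
            rw [← hyc, inv_eq_of_mul_eq_one_right hy2]
          _ = ((u * y * u⁻¹) * c * (u * y * u⁻¹)⁻¹) * ((u * y * u⁻¹) * z * (u * y * u⁻¹)⁻¹) := by
            group
          _ = c := by rw [hy', hz.conjT hy'T, mul_assoc, hz.sq, mul_one])
    have hey : u * y * u⁻¹ = c ^ i * y := mul_inv_eq_iff_eq_mul.1 hi
    have hsq' : (c ^ i * y) * (c ^ i * y) = 1 := by
      rw [← hey]
      calc u * y * u⁻¹ * (u * y * u⁻¹) = u * (y * y) * u⁻¹ := by group
        _ = 1 := by rw [hy2, mul_one, mul_inv_cancel]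
    have hsq'' : c ^ i * c ^ i * z ^ i = 1 :=
      calc c ^ i * c ^ i * z ^ i = c ^ i * (c ^ i * z ^ i * y) * y := by
            rw [mul_assoc (c ^ i), mul_assoc (c ^ i), mul_assoc (c ^ i * z ^ i), hy2, mul_one]
        _ = 1 := by
          rw [← hpow hyc]
          simpa only [mul_assoc] using hsq'
    rcases Int.even_or_odd' i with ⟨i', h | h⟩
    · rw [h, hzz, mul_one, ← h] at hsq''
      rcases hc.inv i hsq'' with h1 | h1
      · exfalso
        rw [h1, one_mul] at hey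
        rcases fix_eq hz hu hu1 hyT hyA hy2 (conj_eq_iff_commute.1 hey) with e | e
        · exact hy1 e
        · exact hyz e
      · rw [hey, h1]
    · exfalso
      refine hc4 (IsAxis.eq_one_of_odd_pow hz hc (s := i) ⟨i', h⟩ ?_)
      have h2 : c ^ (i + i) = z := by
        rw [zpow_add]
        calc c ^ i * c ^ i = c ^ i * c ^ i * (z * z) := by rw [hz.sq, mul_one]
          _ = c ^ i * c ^ i * z ^ i * z := by rw [h, hzodd, mul_assoc _ z z]
          _ = z := by rw [hsq'', one_mul]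
      rw [← zpow_mul, show (4 : ℤ) * i = (i + i) * 2 by ring, zpow_mul, h2, zpow_two, hz.sq]

theorem commute_of_mod [Finite G] {x : G} (hxT : x ∈ (D.T : Subgroup G)) (hxA : x ∈ D.A) {r : ℤ}
    (hr : x * c * x⁻¹ = c ^ r) (h4 : 4 ∣ r - 1) : Commute x c := by
  obtain ⟨n, hn⟩ := D.T.2 ⟨x, hxT⟩
  have hn' : x ^ 2 ^ n = 1 := by simpa using congrArg Subtype.val hn
  exact IsAxis.commute_of_four_dvd hz hc n x hxT hxA (hn' ▸ Commute.one_left c) r hr h4

end IsAxis

end Cfsg.Agent.H7Four
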