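import Cfsg.Agent.H7FourGroup.Axis
import Cfsg.Agent.H25.InvolutionTransfer

/-!
# Two commuting involutions of `A` coincide

Continuation of `H7FourGroup.Axis`: a second involution `e` of the Sylow subgroup is fused to the
central one by transfer, and an element `τ ∈ A u` centralising `⟨z, e⟩` with `τ ^ 2 = z` contradicts
this fusion.
-/

set_option autoImplicit false

namespace Cfsg.Agent.H7Four

open Subgroup

variable {G : Type*} [Group G] [Finite G]

/-- A 2-subgroup of `K` is conjugate within `K` into a Sylow subgroup of `G` contained in `K`. -/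
theorem exists_conj_le (K : Subgroup G) (T : Sylow 2 G) (hT : (T : Subgroup G) ≤ K) (P : Subgroup G)
    (hP : IsPGroup 2 P) (hPK : P ≤ K) : ∃ k ∈ K, ∀ x ∈ P, k * x * k⁻¹ ∈ (T : Subgroup G) := by
  haveI := Fact.mk Nat.prime_two
  obtain ⟨Q, hQ⟩ := (hP.of_equiv (Subgroup.subgroupOfEquivOfLe hPK).symm).exists_le_sylow
  obtain ⟨k, hk⟩ := MulAction.exists_smul_eq ↥K Q (T.subtype hT)
  refine ⟨k, k.2, fun x hx => ?_⟩
  have hmem : MulAut.conj k ⟨x, hPK hx⟩ ∈ ((k • Q : Sylow 2 ↥K) : Subgroup ↥K) :=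
    Subgroup.smul_mem_pointwise_smul (⟨x, hPK hx⟩ : ↥K) (MulAut.conj k) (Q : Subgroup ↥K)
      (hQ (show (⟨x, hPK hx⟩ : ↥K) ∈ P.subgroupOf K from hx))
  rw [hk] at hmem
  exact hmem

theorem isPGroup_two_zpowers {g : G} {n : ℕ} (h : g ^ 2 ^ n = 1) : IsPGroup 2 (zpowers g) := by
  obtain ⟨j, _, hj⟩ := (Nat.dvd_prime_pow Nat.prime_two).1 (orderOf_dvd_of_pow_eq_one h)
  exact IsPGroup.of_card (n := j) (by rw [Nat.card_zpowers, hj])

/-- A 2-subgroup of `K` is conjugate within `A ⊓ K` into `T`, when `T ≤ K`. -/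
theorem exists_conjA (D : Ctx G) (K : Subgroup G) (hT : (D.T : Subgroup G) ≤ K) (P : Subgroup G)
    (hP : IsPGroup 2 P) (hPK : P ≤ K) :
    ∃ a ∈ D.A, a ∈ K ∧ ∀ x ∈ P, a * x * a⁻¹ ∈ (D.T : Subgroup G) := by
  obtain ⟨k, hkK, hk⟩ := exists_conj_le K D.T hT P hP hPK
  obtain ⟨l, hl, u, hu, hlu⟩ := D.gen k⁻¹
  have hk' : k = (l * u)⁻¹ := by rw [← hlu, inv_inv]
  refine ⟨u * k, ?_, mul_mem (hT (D.hUT hu)) hkK, fun x hx => ?_⟩
  · rw [hk', mul_inv_rev, mul_inv_cancel_left]; exact inv_mem hl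
  · have := mul_mem (mul_mem (D.hUT hu) (hk x hx)) (inv_mem (D.hUT hu))
    convert this using 1
    group

variable {D : Ctx G} {z c : G}

/-- An involution of the Sylow subgroup of `A` different from the central one. -/
structure IsSecond (D : Ctx G) (z e : G) : Prop where
  memT : e ∈ (D.T : Subgroup G)
  memA : e ∈ D.A
  ne : e ≠ 1
  sq : e * e = 1
  ne_z : e ≠ z

namespace IsAxis

variable (hz : IsCentralInv D z) (hc : IsAxis D z c)
include hz hc

theorem commute_self_ne {e : G} (he : IsSecond D z e) : ¬ Commute e c := by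
  intro h
  obtain ⟨j, hj⟩ := hc.cent e he.memT he.memA h
  rcases hc.inv j (hj ▸ he.sq) with h' | h'
  · exact he.ne (hj.trans h')
  · exact he.ne_z (hj.trans h')

theorem second_exp {e : G} (he : IsSecond D z e) {r : ℤ} (hr : e * c * e⁻¹ = c ^ r) : 4 ∣ r + 1 := by
  have h1 := IsAxis.exp_odd hz hc he.memT hr
  have h2 : ¬ 4 ∣ r - 1 := fun h => IsAxis.commute_self_ne hz hc he
    (IsAxis.commute_of_mod hz hc he.memT he.memA hr h)
  obtain ⟨q, rfl⟩ := h1
  omega

theorem decomp {e : G} (he : IsSecond D z e) {x : G} (hxT : x ∈ (D.T : Subgroup G)) (hxA : x ∈ D.A) :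
    (∃ j : ℤ, x = c ^ j) ∨ ∃ j : ℤ, x = e * c ^ j := by
  obtain ⟨r, hr⟩ := hc.norm e he.memT
  have h4 := IsAxis.second_exp hz hc he hr
  obtain ⟨q, hq⟩ := hc.norm x hxT
  have hodd := IsAxis.exp_odd hz hc hxT hq
  by_cases h : 4 ∣ q - 1
  · exact Or.inl (hc.cent x hxT hxA (IsAxis.commute_of_mod hz hc hxT hxA hq h))
  · right
    obtain ⟨a, ha⟩ := h4
    obtain ⟨b, hb⟩ : 4 ∣ q + 1 := by obtain ⟨q', rfl⟩ := hodd; omega
    have h1 : 4 ∣ r * q - 1 := ⟨4 * a * b - a - b, by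
      rw [show r = 4 * a - 1 by omega, show q = 4 * b - 1 by omega]; ring⟩
    obtain ⟨j, hj⟩ := hc.cent (e * x) (mul_mem he.memT hxT) (mul_mem he.memA hxA)
      (IsAxis.commute_of_mod hz hc (mul_mem he.memT hxT) (mul_mem he.memA hxA)
        (IsAxis.comp hz hc hr hq) h1)
    exact ⟨j, by rw [← hj, ← mul_assoc, he.sq, one_mul]⟩

theorem centralizer_second {e : G} (he : IsSecond D z e) {x : G} (hxT : x ∈ (D.T : Subgroup G))
    (hxA : x ∈ D.A) (hxe : Commute x e) : x = 1 ∨ x = z ∨ x = e ∨ x = e * z := by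
  obtain ⟨r, hr⟩ := hc.norm e he.memT
  obtain ⟨a, ha⟩ := IsAxis.second_exp hz hc he hr
  have key : ∀ j : ℤ, Commute (c ^ j) e → c ^ j = 1 ∨ c ^ j = z := by
    intro j hj
    refine hc.inv j ?_
    rw [← zpow_add]
    refine IsAxis.eq_one_of_odd_pow hz hc (s := 2 * a - 1) ⟨a - 1, by ring⟩ ?_
    have h1 : c ^ (r * j) = c ^ j := (IsAxis.conj_pow hz hc hr j).symm.trans (conj_eq_iff_commute.2 hj.symm)
    rw [← zpow_mul, show (j + j) * (2 * a - 1) = r * j + -j by
      rw [show r = 4 * a - 1 by omega]; ring, zpow_add, h1, ← zpow_add, add_neg_cancel, zpow_zero]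
  rcases IsAxis.decomp hz hc he hxT hxA with ⟨j, rfl⟩ | ⟨j, rfl⟩
  · exact (key j hxe).elim Or.inl fun h => Or.inr (Or.inl h)
  · have h' : Commute (c ^ j) e := by
      have h2 := ((Commute.refl e).mul_left hxe)
      rwa [← mul_assoc, he.sq, one_mul] at h2
    rcases key j h' with h | h
    · exact Or.inr (Or.inr (Or.inl (by rw [h, mul_one])))
    · exact Or.inr (Or.inr (Or.inr (by rw [h])))

/-- Image of a second involution under an element of `U`. -/
theorem image_second {e : G} (he : IsSecond D z e) {u : G} (hu : u ∈ D.U) {a : ℤ}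
    (ha : u * c * u⁻¹ = c ^ a) :
    ∃ b : ℤ, u * e * u⁻¹ = e * c ^ b ∧ c ^ (b * (1 + a)) = 1 := by
  haveI := D.normal
  obtain ⟨r, hr⟩ := hc.norm e he.memT
  have hu2 := D.hU2 u hu
  have haa : c ^ (a * a) = c := by
    rw [← IsAxis.comp hz hc ha ha, hu2]; group
  have hu' : u⁻¹ * c * u = c ^ a := by
    rw [← ha, inv_eq_of_mul_eq_one_right hu2]
  have hT : u * e * u⁻¹ ∈ (D.T : Subgroup G) :=
    mul_mem (mul_mem (D.hUT hu) he.memT) (inv_mem (D.hUT hu))
  have hA : u * e * u⁻¹ ∈ D.A := D.normal.conj_mem e he.memA u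
  have hsame : (u * e * u⁻¹) * c * (u * e * u⁻¹)⁻¹ = c ^ r :=
    calc (u * e * u⁻¹) * c * (u * e * u⁻¹)⁻¹ = u * (e * (u⁻¹ * c * u) * e⁻¹) * u⁻¹ := by group
      _ = c ^ (a * (r * a)) := by rw [hu', IsAxis.conj_pow hz hc hr, IsAxis.conj_pow hz hc ha]
      _ = c ^ r := by rw [show a * (r * a) = a * a * r by ring, zpow_mul, haa]
  have hein : e⁻¹ = e := inv_eq_of_mul_eq_one_right he.sq
  have hcomm : Commute (e * (u * e * u⁻¹)) c := conj_eq_iff_commute.1 <| by
    rw [IsAxis.comp hz hc hr hsame, ← IsAxis.comp hz hc hr hr, he.sq]; group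
  obtain ⟨b, hb⟩ := hc.cent _ (mul_mem he.memT hT) (mul_mem he.memA hA) hcomm
  have hb' : u * e * u⁻¹ = e * c ^ b := by rw [← hb, ← mul_assoc, he.sq, one_mul]
  refine ⟨b, hb', ?_⟩
  have h2 : e = e * c ^ b * c ^ (a * b) :=
    calc e = (u * u) * e * (u * u)⁻¹ := by rw [hu2]; group
      _ = u * (u * e * u⁻¹) * u⁻¹ := by group
      _ = u * e * u⁻¹ * (u * c ^ b * u⁻¹) := by
        conv_lhs => rw [hb']
        group
      _ = e * c ^ b * c ^ (a * b) := by rw [hb', IsAxis.conj_pow hz hc ha]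
  rw [mul_add, mul_one, zpow_add, mul_comm b a]
  exact mul_left_cancel ((mul_assoc _ _ _).symm.trans (h2.symm.trans (mul_one e).symm))

/-- Elements of `U` acting as `1 mod 4` on the axis move every second involution by `z`. -/
theorem image_of_mod {e : G} (he : IsSecond D z e) {u : G} (hu : u ∈ D.U) (hu1 : u ≠ 1) {a : ℤ}
    (ha : u * c * u⁻¹ = c ^ a) (h4 : 4 ∣ a - 1) : u * e * u⁻¹ = e * z := by
  obtain ⟨b, hb, hb1⟩ := IsAxis.image_second hz hc he hu ha
  obtain ⟨q, hq⟩ := h4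
  have h2 : c ^ b * c ^ b = 1 := by
    rw [← zpow_add]
    refine IsAxis.eq_one_of_odd_pow hz hc (s := 2 * q + 1) ⟨q, rfl⟩ ?_
    rw [← zpow_mul, show (b + b) * (2 * q + 1) = b * (1 + a) by
      rw [show a = 4 * q + 1 by omega]; ring, hb1]
  rcases hc.inv b h2 with h | h
  · exfalso
    rw [h, mul_one] at hb
    rcases fix_eq hz hu hu1 he.memT he.memA he.sq (conj_eq_iff_commute.1 hb) with h' | h'
    · exact he.ne h'
    · exact he.ne_z h'
  · rw [hb, h]

theorem exists_mod {e : G} (he : IsSecond D z e) :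
    (∃ u ∈ D.U, u ≠ 1 ∧ ∃ a : ℤ, u * c * u⁻¹ = c ^ a ∧ 4 ∣ a - 1) ∧
    ∃ u ∈ D.U, u ≠ 1 ∧ ∃ a : ℤ, u * c * u⁻¹ = c ^ a ∧ 4 ∣ a + 1 := by
  obtain ⟨u₁, h₁, u₂, h₂, n₁, n₂, h₁₂, n₁₂⟩ := exists_pair D
  obtain ⟨a₁, ha₁⟩ := hc.norm u₁ (D.hUT h₁)
  obtain ⟨a₂, ha₂⟩ := hc.norm u₂ (D.hUT h₂)
  have o₁ := IsAxis.exp_odd hz hc (D.hUT h₁) ha₁
  have o₂ := IsAxis.exp_odd hz hc (D.hUT h₂) ha₂
  have c₁ : 4 ∣ a₁ - 1 ∨ 4 ∣ a₁ + 1 := by obtain ⟨q, rfl⟩ := o₁; omega
  have c₂ : 4 ∣ a₂ - 1 ∨ 4 ∣ a₂ + 1 := by obtain ⟨q, rfl⟩ := o₂; omega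
  refine ⟨?_, ?_⟩
  · rcases c₁ with h | h
    · exact ⟨u₁, h₁, n₁, a₁, ha₁, h⟩
    rcases c₂ with h' | h'
    · exact ⟨u₂, h₂, n₂, a₂, ha₂, h'⟩
    obtain ⟨p, hp⟩ := h
    obtain ⟨q, hq⟩ := h'
    exact ⟨_, h₁₂, n₁₂, a₁ * a₂, IsAxis.comp hz hc ha₁ ha₂, 4 * p * q - p - q,
      by rw [show a₁ = 4 * p - 1 by omega, show a₂ = 4 * q - 1 by omega]; ring⟩
  · rcases c₁ with h | h
    · rcases c₂ with h' | h'
      · exfalso
        have e₁ := IsAxis.image_of_mod hz hc he h₁ n₁ ha₁ h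
        have e₂ := IsAxis.image_of_mod hz hc he h₂ n₂ ha₂ h'
        have : u₁ * u₂ * e * (u₁ * u₂)⁻¹ = e :=
          calc u₁ * u₂ * e * (u₁ * u₂)⁻¹ = u₁ * (u₂ * e * u₂⁻¹) * u₁⁻¹ := by group
            _ = (u₁ * e * u₁⁻¹) * (u₁ * z * u₁⁻¹) := by rw [e₂]; group
            _ = e := by rw [e₁, hz.conjT (D.hUT h₁), mul_assoc, hz.sq, mul_one]
        rcases fix_eq hz h₁₂ n₁₂ he.memT he.memA he.sq (conj_eq_iff_commute.1 this) with h'' | h''
        · exact he.ne h''
        · exact he.ne_z h''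
      · exact ⟨u₂, h₂, n₂, a₂, ha₂, h'⟩
    · exact ⟨u₁, h₁, n₁, a₁, ha₁, h⟩

theorem shift {e : G} (he : IsSecond D z e) (i : ℤ) :
    ∃ j : ℤ, c ^ j * e * (c ^ j)⁻¹ = e * c ^ (2 * i) := by
  obtain ⟨r, hr⟩ := hc.norm e he.memT
  obtain ⟨a, ha⟩ := IsAxis.second_exp hz hc he hr
  obtain ⟨j, hj⟩ := IsAxis.exists_root hz hc (i := i) (s := 2 * a - 1) ⟨a - 1, by ring⟩
  refine ⟨j, ?_⟩
  have h1 : c ^ j * e = e * c ^ (r * j) := by
    rw [← IsAxis.conj_pow hz hc hr, inv_eq_of_mul_eq_one_right he.sq]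
    simp only [← mul_assoc, he.sq, one_mul]
  rw [h1, mul_assoc, ← zpow_neg, ← zpow_add,
    show r * j + -j = (2 * a - 1) * j * 2 by rw [show r = 4 * a - 1 by omega]; ring,
    zpow_mul, hj, ← zpow_mul, mul_comm i 2]

/-- `T` is transitive on the second involutions. -/
theorem exists_conj_second {e e' : G} (he : IsSecond D z e) (he' : IsSecond D z e') :
    ∃ t ∈ (D.T : Subgroup G), t * e * t⁻¹ = e' := by
  rcases IsAxis.decomp hz hc he he'.memT he'.memA with ⟨j, hj⟩ | ⟨i, hi⟩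
  · exact absurd (hj ▸ (Commute.refl c).zpow_left j) (IsAxis.commute_self_ne hz hc he')
  rcases Int.even_or_odd' i with ⟨i', hi' | hi'⟩
  · obtain ⟨j, hj⟩ := IsAxis.shift hz hc he i'
    exact ⟨c ^ j, zpow_mem hc.memT j, by rw [hj, hi, hi']⟩
  obtain ⟨r, hr⟩ := hc.norm e he.memT
  have hein : e⁻¹ = e := inv_eq_of_mul_eq_one_right he.sq
  have hprod : ∀ x : ℤ, e * c ^ x * (e * c ^ x) = c ^ (r * x + x) := fun x => by
    rw [zpow_add, ← IsAxis.conj_pow hz hc hr, hein]; simp only [mul_assoc]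
  have hr1 : c ^ (r + 1) = 1 := by
    refine IsAxis.eq_one_of_odd_pow hz hc (s := i) ⟨i', hi'⟩ ?_
    rw [← zpow_mul, add_mul, one_mul, ← hprod, ← hi, he'.sq]
  obtain ⟨u, hu, hu1, a, ha, q, hq⟩ := (IsAxis.exists_mod hz hc he).2
  obtain ⟨b, hb, -⟩ := IsAxis.image_second hz hc he hu ha
  rcases Int.even_or_odd' b with ⟨b', hb' | hb'⟩
  · exfalso
    obtain ⟨x, hx⟩ := IsAxis.exists_root hz hc (i := b') (s := 1 - 2 * q) ⟨-q, by ring⟩
    have hf2 : (e * c ^ x) * (e * c ^ x) = 1 := by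
      rw [hprod, show r * x + x = (r + 1) * x by ring, zpow_mul, hr1, one_zpow]
    have hfix : u * (e * c ^ x) * u⁻¹ = e * c ^ x :=
      calc u * (e * c ^ x) * u⁻¹ = (u * e * u⁻¹) * (u * c ^ x * u⁻¹) := by group
        _ = e * (c ^ b * c ^ (a * x)) := by rw [hb, IsAxis.conj_pow hz hc ha, mul_assoc]
        _ = e * c ^ x := by
          have h1 : c ^ b = c ^ ((1 - 2 * q) * x * 2) := by
            rw [zpow_mul c _ 2, hx, ← zpow_mul, hb', mul_comm b' 2]
          rw [h1, ← zpow_add, show (1 - 2 * q) * x * 2 + a * x = x by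
            rw [show a = 4 * q - 1 by omega]; ring]
    have hne : ¬ Commute (e * c ^ x) c := fun h => IsAxis.commute_self_ne hz hc he (by
      have := h.mul_left (((Commute.refl c).zpow_left x).inv_left)
      simpa using this)
    rcases fix_eq hz hu hu1 (mul_mem he.memT (zpow_mem hc.memT x))
      (mul_mem he.memA (zpow_mem hc.memA x)) hf2 (conj_eq_iff_commute.1 hfix) with h | h
    · exact hne (h ▸ Commute.one_left c)
    · exact hne (h ▸ (hz.comm c hc.memT).symm)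
  · haveI := D.normal
    have hf : IsSecond D z (u * e * u⁻¹) :=
      ⟨mul_mem (mul_mem (D.hUT hu) he.memT) (inv_mem (D.hUT hu)), D.normal.conj_mem e he.memA u,
        fun h => he.ne (by simpa using h),
        (show _ = u * (e * e) * u⁻¹ by group).trans (by rw [he.sq, mul_one, mul_inv_cancel]),
        fun h => he.ne_z (by
          rw [← hz.conjT (D.hUT hu)] at h
          exact mul_left_cancel (mul_right_cancel h))⟩
    obtain ⟨j, hj⟩ := IsAxis.shift hz hc hf (i' - b')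
    refine ⟨c ^ j * u, mul_mem (zpow_mem hc.memT j) (D.hUT hu), ?_⟩
    calc c ^ j * u * e * (c ^ j * u)⁻¹ = c ^ j * (u * e * u⁻¹) * (c ^ j)⁻¹ := by group
      _ = e' := by
        rw [hj, hb, mul_assoc, ← zpow_add, hi,
          show b + 2 * (i' - b') = i by omega]

end IsAxis

theorem false_of_second {e : G} (hz : IsCentralInv D z) (hc : IsAxis D z c) (he : IsSecond D z e) :
    False := by
  haveI := D.normal
  haveI := Fact.mk Nat.prime_two
  -- transfer: `e` is conjugate to `z` within `A`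
  obtain ⟨h, hhA, hh⟩ : ∃ h ∈ D.A, h * e * h⁻¹ = z := by
    let S : Subgroup ↥D.A := (D.T : Subgroup G).subgroupOf D.A
    have hS2 : IsPGroup 2 S := D.T.2.comap_of_injective D.A.subtype Subtype.val_injective
    let PA : Sylow 2 ↥D.A :=
      { toSubgroup := S
        isPGroup' := hS2
        is_maximal' := fun {Q} hQ hSQ => by
          obtain ⟨k, hk, -, hkT⟩ := exists_conjA D ⊤ le_top (Q.map D.A.subtype) (hQ.map _) le_top
          refine (Subgroup.eq_of_le_of_card_ge hSQ ?_).symm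
          refine Nat.card_le_card_of_injective
            (fun x : ↥Q => (⟨⟨k * (x.1 : G) * k⁻¹, mul_mem (mul_mem hk x.1.2) (inv_mem hk)⟩,
              hkT (x.1 : G) ⟨x.1, x.2, rfl⟩⟩ : ↥S)) fun x y hxy => ?_
          have h1 : k * (x.1 : G) * k⁻¹ = k * (y.1 : G) * k⁻¹ :=
            congrArg (fun s : ↥S => ((s : ↥D.A) : G)) hxy
          exact Subtype.ext (Subtype.ext (mul_left_cancel (mul_right_cancel h1))) }
    let eA : ↥D.A := ⟨e, he.memA⟩
    let Q : Subgroup ↥D.A := (zpowers c).subgroupOf D.A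
    have hQP : Q ≤ (PA : Subgroup ↥D.A) := fun x hx => zpowers_le.2 hc.memT hx
    have hnotC : ∀ j : ℤ, c ^ j ≠ e := fun j hj =>
      IsAxis.commute_self_ne hz hc he (hj ▸ (Commute.refl c).zpow_left j)
    have hQi : Q.relIndex (PA : Subgroup ↥D.A) = 2 := by
      rw [Subgroup.relIndex, Subgroup.index_eq_two_iff]
      refine ⟨⟨eA, he.memT⟩, fun b => ?_⟩
      simp only [Q, mem_subgroupOf, Subgroup.coe_mul]
      rcases IsAxis.decomp hz hc he (x := ((b : ↥D.A) : G)) b.2 b.1.2 with ⟨j, hj⟩ | ⟨j, hj⟩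
      · refine Or.inr ⟨⟨j, hj.symm⟩, fun ⟨i, hi⟩ => hnotC (-j + i) ?_⟩
        simp only [eA, hj] at hi
        rw [zpow_add, zpow_neg, show c ^ i = c ^ j * e from hi, inv_mul_cancel_left]
      · obtain ⟨r, hr⟩ := hc.norm e he.memT
        refine Or.inl ⟨⟨r * j, ?_⟩, fun ⟨i, hi⟩ => hnotC (i + -j) ?_⟩
        · simp only [eA, hj]
          rw [← IsAxis.conj_pow hz hc hr, inv_eq_of_mul_eq_one_right he.sq]
        · rw [zpow_add, zpow_neg, show c ^ i = e * c ^ j from hi.trans hj, mul_inv_cancel_right]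
    have he2 : orderOf eA = 2 := orderOf_eq_prime (by
      rw [pow_two]; exact Subtype.ext he.sq) fun h => he.ne (congrArg Subtype.val h)
    rcases H25.thompson_transfer PA Q hQP hQi eA he2 he.memT (fun ⟨j, hj⟩ => hnotC j hj) with
      ⟨M, hM, hMi, -⟩ | ⟨g, hg⟩
    · exfalso
      haveI := hM
      haveI : IsMulCommutative (↥D.A ⧸ M) :=
        (isCyclic_of_prime_card (p := 2) hMi).isMulCommutative
      have hle : (commutator ↥D.A : Subgroup ↥D.A) ≤ M :=
        Subgroup.Normal.quotient_commutative_iff_commutator_le.1 ‹_›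
      rw [commutator_def] at hle
      have h1 : Subgroup.map D.A.subtype ⁅(⊤ : Subgroup ↥D.A), ⊤⁆ = D.A := by
        rw [Subgroup.map_commutator, ← MonoidHom.range_eq_map, Subgroup.range_subtype, D.perf]
      have h2 : M = ⊤ := eq_top_iff.2 fun x _ => by
        have hx : (x : G) ∈ Subgroup.map D.A.subtype ⁅(⊤ : Subgroup ↥D.A), ⊤⁆ := by
          rw [h1]; exact x.2
        obtain ⟨y, hy, hyx⟩ := hx
        exact (Subtype.ext hyx : y = x) ▸ hle hy
      rw [h2, index_top] at hMi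
      omega
    · obtain ⟨j, hj⟩ := hg
      have hj' : c ^ j = (g : G) * e * (g : G)⁻¹ := hj
      refine ⟨g, g.2, ?_⟩
      rcases hc.inv j (by
        rw [hj']
        calc (g : G) * e * (g : G)⁻¹ * ((g : G) * e * (g : G)⁻¹) = (g : G) * (e * e) * (g : G)⁻¹ := by
              group
          _ = 1 := by rw [he.sq, mul_one, mul_inv_cancel]) with h | h
      · rw [h] at hj'
        exact absurd (by simpa using hj'.symm) he.ne
      · rw [← hj', h]
  -- swap `z` and `e`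
  have hze : Commute e z := hz.comm e he.memT
  set z' := h * z * h⁻¹ with hz'
  have hz'2 : z' * z' = 1 := (show _ = h * (z * z) * h⁻¹ by rw [hz']; group).trans
    (by rw [hz.sq, mul_one, mul_inv_cancel])
  have hz'z : Commute z' z := by
    rw [← hh]
    exact conj_eq_iff_commute.1 ((show _ = h * (z * e * z⁻¹) * h⁻¹ by rw [hz']; group).trans
      (by rw [conj_eq_iff_commute.2 hze.symm]))
  obtain ⟨k, hkA, hkC, hk⟩ := exists_conjA D (centralizer {z})
    (fun t ht => mem_centralizer_singleton_iff.2 (hz.comm t ht)) (zpowers z')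
    (isPGroup_two_zpowers (n := 1) (by rw [pow_one, pow_two, hz'2]))
    (zpowers_le.2 (mem_centralizer_singleton_iff.2 hz'z))
  have hkz : k * z * k⁻¹ = z := conj_eq_iff_commute.2 (mem_centralizer_singleton_iff.1 hkC)
  have hle : IsSecond D z (k * z' * k⁻¹) := by
    refine ⟨hk z' (mem_zpowers z'), D.normal.conj_mem _ (D.normal.conj_mem z hz.memA h) k,
      fun hh' => hz.ne (by rw [hz'] at hh'; simpa using hh'),
      (show _ = k * (z' * z') * k⁻¹ by group).trans (by rw [hz'2, mul_one, mul_inv_cancel]),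
      fun hh' => ?_⟩
    have : z' = z := mul_left_cancel (a := k) (mul_right_cancel (b := k⁻¹) (hh'.trans hkz.symm))
    refine he.ne_z (mul_left_cancel (a := h) (mul_right_cancel (b := h⁻¹) ?_))
    rw [hh, ← hz', this]
  obtain ⟨t, ht, hte⟩ := IsAxis.exists_conj_second hz hc he hle
  set g := t⁻¹ * k * h with hg
  have htz : t⁻¹ * z * t = z := by simpa using hz.conjT (inv_mem ht)
  have hge : g * e * g⁻¹ = z :=
    calc g * e * g⁻¹ = t⁻¹ * (k * (h * e * h⁻¹) * k⁻¹) * t := by rw [hg]; group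
      _ = z := by rw [hh, hkz, htz]
  have hgz : g * z * g⁻¹ = e :=
    calc g * z * g⁻¹ = t⁻¹ * (k * z' * k⁻¹) * t := by rw [hg, hz']; group
      _ = e := by rw [← hte]; group
  -- an element `τ ∈ A u` centralising `⟨z, e⟩` with square `z`
  obtain ⟨v, hv, hv1, a, ha, q, hq⟩ := (IsAxis.exists_mod hz hc he).1
  obtain ⟨r, hr⟩ := hc.norm e he.memT
  obtain ⟨p, hp⟩ := IsAxis.second_exp hz hc he hr
  obtain ⟨i, hi⟩ := hc.hz
  obtain ⟨i', hi'⟩ : Even i := by
    by_contra hie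
    have h2 : c ^ (2 : ℤ) = 1 := IsAxis.eq_one_of_odd_pow hz hc (Int.not_even_iff_odd.1 hie)
      (by rw [← zpow_mul, mul_comm, zpow_mul, ← hi, zpow_two, hz.sq])
    refine IsAxis.commute_self_ne hz hc he ?_
    rcases hc.inv 1 (by rw [zpow_one, ← zpow_two, h2]) with h | h
    · rw [zpow_one] at h; exact h ▸ Commute.one_right e
    · rw [zpow_one] at h; exact h ▸ hze
  set w := c ^ i' with hw
  have hw2 : w * w = z := by rw [hw, ← zpow_add, ← hi', ← hi]
  have hw4 : ∀ m : ℤ, c ^ (i' * (4 * m)) = 1 := fun m => by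
    rw [show i' * (4 * m) = i * (2 * m) by rw [hi']; ring, zpow_mul, ← hi, zpow_mul, zpow_two, hz.sq,
      one_zpow]
  have hvw : v * w * v⁻¹ = w := by
    rw [hw, IsAxis.conj_pow hz hc ha, show a * i' = i' * (4 * q) + i' by
      rw [show a = 4 * q + 1 by omega]; ring, zpow_add, hw4, one_mul]
  have hew : e * w * e⁻¹ = w⁻¹ := by
    rw [hw, IsAxis.conj_pow hz hc hr, show r * i' = i' * (4 * p) + -i' by
      rw [show r = 4 * p - 1 by omega]; ring, zpow_add, hw4, one_mul, zpow_neg]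
  have hwT : w ∈ (D.T : Subgroup G) := zpow_mem hc.memT _
  set τ := w⁻¹ * v with hτ
  have hτz : Commute τ z := hz.comm τ (mul_mem (inv_mem hwT) (D.hUT hv))
  have hτ2 : τ * τ = z :=
    calc τ * τ = w⁻¹ * (v * w⁻¹ * v⁻¹) * (v * v) := by rw [hτ]; group
      _ = w⁻¹ * w⁻¹ := by rw [← conj_inv, hvw, D.hU2 v hv, mul_one]
      _ = z := by rw [← mul_inv_rev, hw2, inv_eq_of_mul_eq_one_right hz.sq]
  have hτe : Commute τ e := conj_eq_iff_commute.1 <|
    calc τ * e * τ⁻¹ = w⁻¹ * (v * e * v⁻¹) * w := by rw [hτ]; group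
      _ = w⁻¹ * (e * (z * w)) := by
        rw [IsAxis.image_of_mod hz hc he hv hv1 ha ⟨q, hq⟩]; group
      _ = w⁻¹ * ((e * w * e⁻¹) * (e * z)) := by rw [(hz.comm w hwT).symm.eq]; group
      _ = w⁻¹ * w⁻¹ * (e * z) := by rw [hew, mul_assoc]
      _ = e := by
        rw [← mul_inv_rev, hw2, inv_eq_of_mul_eq_one_right hz.sq, ← mul_assoc, ← hze.eq, mul_assoc,
          hz.sq, mul_one]
  -- compare `τ` with a conjugate of square `e` in a Sylow subgroup of `C(z, e)`
  set Y := centralizer ({z, e} : Set G) with hY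
  have memY : ∀ {x : G}, Commute x z → Commute x e → x ∈ Y := fun {x} h1 h2 =>
    mem_centralizer_iff.2 fun m hm => by
      rcases hm with rfl | rfl
      · exact h1.symm.eq
      · exact h2.symm.eq
  have commY : ∀ {x : G}, x ∈ Y → Commute x z ∧ Commute x e := fun {x} hx =>
    ⟨(mem_centralizer_iff.1 hx z (Or.inl rfl)).symm, (mem_centralizer_iff.1 hx e (Or.inr rfl)).symm⟩
  have hτY : τ ∈ Y := memY hτz hτe
  set τ' := g * τ * g⁻¹ with hτ'
  have hcj : ∀ {x y : G}, Commute x y → Commute (g * x * g⁻¹) (g * y * g⁻¹) := fun {x y} h =>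
    (Commute.map h (MulAut.conj g).toMonoidHom)
  have hτ'Y : τ' ∈ Y := memY (hge ▸ hcj hτe) (hgz ▸ hcj hτz)
  have hτ'2 : τ' * τ' = e := by rw [hτ', ← hgz, ← hτ2]; group
  let τY : ↥Y := ⟨τ, hτY⟩
  let τY' : ↥Y := ⟨τ', hτ'Y⟩
  have e4 : ∀ {x : G}, x * x * (x * x) = x ^ 2 ^ 2 := fun {x} => by
    rw [show (2 : ℕ) ^ 2 = 2 + 2 from rfl, pow_add, pow_two]
  have hτY4 : τY ^ 2 ^ 2 = 1 := Subtype.ext (by
    rw [Subgroup.coe_pow, ← e4]; show τ * τ * (τ * τ) = 1; rw [hτ2, hz.sq])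
  have hτY'4 : τY' ^ 2 ^ 2 = 1 := Subtype.ext (by
    rw [Subgroup.coe_pow, ← e4]; show τ' * τ' * (τ' * τ') = 1; rw [hτ'2, he.sq])
  let eY : ↥Y := ⟨e, memY hze.symm.symm (Commute.refl e)⟩
  let zY : ↥Y := ⟨z, memY (Commute.refl z) hze.symm⟩
  obtain ⟨Q₁, hQ₁⟩ := (isPGroup_two_zpowers hτY4).exists_le_sylow
  obtain ⟨Q₂, hQ₂⟩ := (isPGroup_two_zpowers hτY'4).exists_le_sylow
  obtain ⟨y, hy⟩ := MulAction.exists_smul_eq ↥Y Q₂ Q₁
  have hτ'' : MulAut.conj y τY' ∈ (Q₁ : Subgroup ↥Y) := by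
    rw [← hy]
    exact Subgroup.smul_mem_pointwise_smul τY' (MulAut.conj y) (Q₂ : Subgroup ↥Y)
      (hQ₂ (mem_zpowers τY'))
  have heQ : eY ∈ (Q₁ : Subgroup ↥Y) := by
    haveI : (zpowers eY).Normal := PGroups.normal_of_le_center (zpowers_le.2
      (mem_center_iff.2 fun x => Subtype.ext (commY x.2).2.eq))
    exact IsPGroup.le_sylow_of_normal (isPGroup_two_zpowers (n := 1)
      (by rw [pow_one, pow_two]; exact Subtype.ext he.sq)) Q₁ (mem_zpowers eY)
  set dY := τY⁻¹ * MulAut.conj y τY' with hdY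
  have hdQ : dY ∈ (Q₁ : Subgroup ↥Y) := mul_mem (inv_mem (hQ₁ (mem_zpowers τY))) hτ''
  set d := (dY : G) with hd
  have hmod : ∀ x y : G, x * y * x⁻¹ * y⁻¹ ∈ D.A := by
    intro x y
    haveI := D.normal
    rw [← QuotientGroup.eq_one_iff]
    obtain ⟨a, ha, u, hu, rfl⟩ := D.gen x
    obtain ⟨a', ha', u', hu', rfl⟩ := D.gen y
    have hcu : Commute u u' := by
      have h1 := D.hU2 _ (mul_mem hu hu')
      have h2 : (u * u')⁻¹ = u * u' := inv_eq_of_mul_eq_one_right h1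
      rw [mul_inv_rev, inv_eq_of_mul_eq_one_right (D.hU2 u hu),
        inv_eq_of_mul_eq_one_right (D.hU2 u' hu')] at h2
      exact h2.symm
    simp only [QuotientGroup.mk_mul, QuotientGroup.mk_inv, (QuotientGroup.eq_one_iff a).2 ha,
      (QuotientGroup.eq_one_iff a').2 ha', one_mul]
    rw [← QuotientGroup.mk_inv, ← QuotientGroup.mk_inv, ← QuotientGroup.mk_mul,
      ← QuotientGroup.mk_mul, ← QuotientGroup.mk_mul, conj_eq_iff_commute.2 hcu,
      mul_inv_cancel, QuotientGroup.mk_one]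
  have hdA : d ∈ D.A := by
    have h1 : (y : G) * τ' * (y : G)⁻¹ * τ'⁻¹ * (τ' * τ⁻¹) ∈ D.A :=
      mul_mem (hmod _ _) (hmod g τ)
    have h2 := D.normal.conj_mem _ h1 τ⁻¹
    convert h2 using 1
    simp only [hd, hdY, τY, τY', Subgroup.coe_mul, Subgroup.coe_inv, MulAut.conj_apply]
    group
  let P : Subgroup G := ((Q₁ : Subgroup ↥Y).map Y.subtype) ⊓ D.A
  have hP : IsPGroup 2 P := (Q₁.2.map Y.subtype).to_le inf_le_left
  obtain ⟨k', -, hk'C, hk'⟩ := exists_conjA D (centralizer {z})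
    (fun t ht => mem_centralizer_singleton_iff.2 (hz.comm t ht)) P hP (fun x hx => by
      obtain ⟨⟨x', -, rfl⟩, -⟩ := hx
      exact mem_centralizer_singleton_iff.2 (commY x'.2).1)
  have hk'z : k' * z * k'⁻¹ = z := conj_eq_iff_commute.2 (mem_centralizer_singleton_iff.1 hk'C)
  have hke : IsSecond D z (k' * e * k'⁻¹) := by
    refine ⟨hk' e ⟨⟨eY, heQ, rfl⟩, he.memA⟩, D.normal.conj_mem e he.memA k', fun h => he.ne (by
      simpa using h), (show _ = k' * (e * e) * k'⁻¹ by group).trans (by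
      rw [he.sq, mul_one, mul_inv_cancel]), fun h => he.ne_z (mul_left_cancel (a := k')
        (mul_right_cancel (b := k'⁻¹) (h.trans hk'z.symm)))⟩
  have hde : Commute d e := (commY dY.2).2
  have hd4 := IsAxis.centralizer_second hz hc hke (hk' d ⟨⟨dY, hdQ, rfl⟩, hdA⟩)
    (D.normal.conj_mem d hdA k') (Commute.map hde (MulAut.conj k').toMonoidHom)
  have hd' : d = 1 ∨ d = z ∨ d = e ∨ d = e * z := by
    rcases hd4 with h | h | h | h
    · left; simpa using h
    · right; left; exact mul_left_cancel (a := k') (mul_right_cancel (b := k'⁻¹) (h.trans hk'z.symm))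
    · right; right; left; exact mul_left_cancel (mul_right_cancel h)
    · right; right; right
      refine mul_left_cancel (a := k') (mul_right_cancel (b := k'⁻¹) (h.trans ?_))
      nth_rewrite 1 [← hk'z]
      group
  have hcd : Commute τ d := by
    rcases hd' with h | h | h | h <;> rw [h]
    · exact Commute.one_right τ
    · exact hτz
    · exact hτe
    · exact hτe.mul_right hτz
  have hd2 : d * d = 1 := by
    rcases hd' with h | h | h | h <;> rw [h]
    · exact one_mul 1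
    · exact hz.sq
    · exact he.sq
    · rw [hze.symm.mul_mul_mul_comm, he.sq, hz.sq, one_mul]
  have hfin : ((MulAut.conj y τY' : ↥Y) : G) = τ * d := by
    simp only [hd, hdY, Subgroup.coe_mul, Subgroup.coe_inv, τY]
    group
  have : e = z :=
    calc e = (y : G) * (τ' * τ') * (y : G)⁻¹ := by
          rw [hτ'2]; exact (conj_eq_iff_commute.2 (commY y.2).2).symm
      _ = τ * d * (τ * d) := by
          rw [← hfin]; simp only [τY', MulAut.conj_apply, Subgroup.coe_mul, Subgroup.coe_inv]; group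
      _ = z := by rw [hcd.symm.mul_mul_mul_comm, hd2, mul_one, hτ2]
  exact he.ne_z this

/-- Two commuting involutions of `A` are equal. -/
theorem involution_unique (D : Ctx G) {x y : G} (hx : x ∈ D.A) (hy : y ∈ D.A) (hx2 : x * x = 1)
    (hy2 : y * y = 1) (hx1 : x ≠ 1) (hy1 : y ≠ 1) (hxy : Commute x y) : x = y := by
  haveI := D.normal
  have h2 : ∀ {g : G}, g * g = 1 → IsPGroup 2 (zpowers g) := fun {g} hg =>
    isPGroup_two_zpowers (n := 1) (by rw [pow_one, pow_two, hg])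
  obtain ⟨a, ha, -, haT⟩ := exists_conjA D ⊤ le_top (zpowers x) (h2 hx2) le_top
  have hx' := haT x (mem_zpowers x)
  have hcsq : ∀ {k g : G}, g * g = 1 → (k * g * k⁻¹) * (k * g * k⁻¹) = 1 := fun {k g} hg =>
    (show _ = k * (g * g) * k⁻¹ by group).trans (by rw [hg, mul_one, mul_inv_cancel])
  have hne : ∀ {k g : G}, g ≠ 1 → k * g * k⁻¹ ≠ 1 := fun {k g} hg h => hg (by simpa using h)
  obtain ⟨z, hz⟩ := exists_centralInv D ⟨_, hx', D.normal.conj_mem x hx a, hne hx1⟩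
  obtain ⟨c, hc⟩ := exists_axis hz
  have huniq : ∀ {g : G}, g ∈ (D.T : Subgroup G) → g ∈ D.A → g * g = 1 → g ≠ 1 → g = z :=
    fun {g} hgT hgA hg hg1 => by
      by_contra hgz
      exact false_of_second hz hc ⟨hgT, hgA, hg1, hg, hgz⟩
  have hxz : a * x * a⁻¹ = z := huniq hx' (D.normal.conj_mem x hx a) (hcsq hx2) (hne hx1)
  have hyz : Commute (a * y * a⁻¹) z := hxz ▸ Commute.map hxy.symm (MulAut.conj a).toMonoidHom
  obtain ⟨b, -, hbC, hbT⟩ := exists_conjA D (centralizer {z})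
    (fun t ht => mem_centralizer_singleton_iff.2 (hz.comm t ht)) (zpowers (a * y * a⁻¹))
    (h2 (hcsq hy2)) (zpowers_le.2 (mem_centralizer_singleton_iff.2 hyz))
  have hbz : b * z * b⁻¹ = z := conj_eq_iff_commute.2 (mem_centralizer_singleton_iff.1 hbC)
  have h3 : b * (a * y * a⁻¹) * b⁻¹ = z := huniq (hbT _ (mem_zpowers _))
    (D.normal.conj_mem _ (D.normal.conj_mem y hy a) b) (hcsq (hcsq hy2)) (hne (hne hy1))
  have h4 : a * y * a⁻¹ = z := mul_left_cancel (mul_right_cancel (h3.trans hbz.symm))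
  exact mul_left_cancel (mul_right_cancel (hxz.trans h4.symm))

end Cfsg.Agent.H7Four
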