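import Cfsg.Agent.H7FourGroup.FourDicho

/-!
# The axis case

An axis excludes a second involution: transfer fuses it to `z`, and if `r` is off the axis, transfer
of `r` replaces `t` by an involution centralising an element of order four on the axis.
-/

set_option autoImplicit false

namespace Cfsg.Agent.H7Four

open Subgroup

variable {G : Type*} [Group G] [Finite G] {C : Ctx4 G} {c e : G}

namespace IsAxis4

variable (hc : IsAxis4 C c)
include hc

theorem commute_self_ne {e : G} (he : IsSecond4 C e) : ¬ Commute e c := by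
  intro h
  obtain ⟨j, hj⟩ := hc.cent e he.memT he.memA h
  rcases hc.inv j (hj ▸ he.sq) with h' | h'
  · exact he.ne (hj.trans h')
  · exact he.ne_z (hj.trans h')

theorem second_exp {e : G} (he : IsSecond4 C e) {r : ℤ} (hr : e * c * e⁻¹ = c ^ r) : 4 ∣ r + 1 := by
  have h1 := hc.toIsPreAxis4.exp_odd he.memT hr
  have h2 : ¬ 4 ∣ r - 1 := fun h => hc.commute_self_ne he (hc.mod e he.memT he.memA r hr h)
  obtain ⟨q, rfl⟩ := h1
  omega

theorem decomp {e : G} (he : IsSecond4 C e) {x : G} (hxT : x ∈ (C.T : Subgroup G)) (hxA : x ∈ C.A) :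
    (∃ j : ℤ, x = c ^ j) ∨ ∃ j : ℤ, x = e * c ^ j := by
  obtain ⟨r, hr⟩ := hc.norm e he.memT
  have h4 := hc.second_exp he hr
  obtain ⟨q, hq⟩ := hc.norm x hxT
  have hodd := hc.toIsPreAxis4.exp_odd hxT hq
  by_cases h : 4 ∣ q - 1
  · exact Or.inl (hc.cent x hxT hxA (hc.mod x hxT hxA q hq h))
  · right
    obtain ⟨a, ha⟩ := h4
    obtain ⟨b, hb⟩ : 4 ∣ q + 1 := by obtain ⟨q', rfl⟩ := hodd; omega
    have h1 : 4 ∣ r * q - 1 := ⟨4 * a * b - a - b, by
      rw [show r = 4 * a - 1 by omega, show q = 4 * b - 1 by omega]; ring⟩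
    obtain ⟨j, hj⟩ := hc.cent (e * x) (mul_mem he.memT hxT) (mul_mem he.memA hxA)
      (hc.mod _ (mul_mem he.memT hxT) (mul_mem he.memA hxA) _ (IsPreAxis4.comp hr hq) h1)
    exact ⟨j, by rw [← hj, ← mul_assoc, he.sq, one_mul]⟩

theorem centralizer_second {e : G} (he : IsSecond4 C e) {x : G} (hxT : x ∈ (C.T : Subgroup G))
    (hxA : x ∈ C.A) (hxe : Commute x e) : x = 1 ∨ x = C.z ∨ x = e ∨ x = e * C.z := by
  obtain ⟨r, hr⟩ := hc.norm e he.memT
  obtain ⟨a, ha⟩ := hc.second_exp he hr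
  have key : ∀ j : ℤ, Commute (c ^ j) e → c ^ j = 1 ∨ c ^ j = C.z := by
    intro j hj
    refine hc.inv j ?_
    rw [← zpow_add]
    refine hc.toIsPreAxis4.eq_one_of_odd_pow (s := 2 * a - 1) ⟨a - 1, by ring⟩ ?_
    have h1 : c ^ (r * j) = c ^ j :=
      (IsPreAxis4.conj_pow hr j).symm.trans (conj_eq_iff_commute.2 hj.symm)
    rw [← zpow_mul, show (j + j) * (2 * a - 1) = r * j + -j by
      rw [show r = 4 * a - 1 by omega]; ring, zpow_add, h1, ← zpow_add, add_neg_cancel, zpow_zero]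
  rcases hc.decomp he hxT hxA with ⟨j, rfl⟩ | ⟨j, rfl⟩
  · exact (key j hxe).elim Or.inl fun h => Or.inr (Or.inl h)
  · have h' : Commute (c ^ j) e := by
      have h2 := ((Commute.refl e).mul_left hxe)
      rwa [← mul_assoc, he.sq, one_mul] at h2
    rcases key j h' with h | h
    · exact Or.inr (Or.inr (Or.inl (by rw [h, mul_one])))
    · exact Or.inr (Or.inr (Or.inr (by rw [h])))

/-- If `t` acts as `1 mod 4` on the axis it moves every second involution by `z`. -/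
theorem image_of_mod {e : G} (he : IsSecond4 C e) {a : ℤ} (ha : C.t * c * C.t⁻¹ = c ^ a)
    (h4 : 4 ∣ a - 1) : C.t * e * C.t⁻¹ = e * C.z := by
  obtain ⟨r, hr⟩ := hc.norm e he.memT
  have hti : C.t⁻¹ = C.t := inv_eq_of_mul_eq_one_right C.ht2
  have haa : c ^ (a * a) = c := by
    rw [← IsPreAxis4.comp ha ha, C.ht2]; group
  set e' := C.t * e * C.t⁻¹ with he'
  have heT : e' ∈ (C.T : Subgroup G) := mul_mem (mul_mem C.htT he.memT) (inv_mem C.htT)
  have heA : e' ∈ C.A := C.conjA he.memA _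
  have hsame : e' * c * e'⁻¹ = c ^ r :=
    calc e' * c * e'⁻¹ = C.t * (e * (C.t⁻¹ * c * C.t) * e⁻¹) * C.t⁻¹ := by rw [he']; group
      _ = c ^ (a * (r * a)) := by
        rw [show C.t⁻¹ * c * C.t = C.t * c * C.t⁻¹ by rw [hti], ha, IsPreAxis4.conj_pow hr,
          IsPreAxis4.conj_pow ha]
      _ = c ^ r := by rw [show a * (r * a) = a * a * r by ring, zpow_mul, haa]
  have hcomm : Commute (e * e') c := conj_eq_iff_commute.1 <| by
    rw [IsPreAxis4.comp hr hsame, ← IsPreAxis4.comp hr hr, he.sq]; group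
  obtain ⟨b, hb⟩ := hc.cent _ (mul_mem he.memT heT) (mul_mem he.memA heA) hcomm
  have hb' : e' = e * c ^ b := by rw [← hb, ← mul_assoc, he.sq, one_mul]
  have h2 : c ^ b * c ^ (a * b) = 1 := by
    have h3 : e = e * c ^ b * c ^ (a * b) :=
      calc e = (C.t * C.t) * e * (C.t * C.t)⁻¹ := by rw [C.ht2]; group
        _ = C.t * e' * C.t⁻¹ := by rw [he']; group
        _ = (C.t * e * C.t⁻¹) * (C.t * c ^ b * C.t⁻¹) := by rw [hb']; group
        _ = e * c ^ b * c ^ (a * b) := by rw [← he', hb', IsPreAxis4.conj_pow ha]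
    exact mul_left_cancel ((mul_assoc _ _ _).symm.trans (h3.symm.trans (mul_one e).symm))
  obtain ⟨q, hq⟩ := h4
  have h3 : c ^ b * c ^ b = 1 := by
    rw [← zpow_add]
    refine hc.toIsPreAxis4.eq_one_of_odd_pow (s := 2 * q + 1) ⟨q, rfl⟩ ?_
    rw [← zpow_mul, show (b + b) * (2 * q + 1) = b + a * b by
      rw [show a = 4 * q + 1 by omega]; ring, zpow_add, h2]
  rcases hc.inv b h3 with h | h
  · exact absurd (conj_eq_iff_commute.1 (by rw [← he', hb', h, mul_one])) he.not_fixed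
  · rw [hb', h]

/-- A second involution is fused to `z` in `A`. -/
theorem fused_to_z {e : G} (he : IsSecond4 C e) : ∃ g ∈ C.A, g * e * g⁻¹ = C.z := by
  haveI := Fact.mk Nat.prime_two
  obtain ⟨P, hP⟩ := C.exists_sylow
  have hnot : ∀ j : ℤ, c ^ j ≠ e := fun j hj =>
    hc.commute_self_ne he (hj ▸ (Commute.refl c).zpow_left j)
  obtain ⟨r, hr⟩ := hc.norm e he.memT
  let M : Subgroup ↥(P : Subgroup ↥C.A) :=
    (zpowers c).comap (C.A.subtype.comp (P : Subgroup ↥C.A).subtype)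
  let eA : ↥C.A := ⟨e, he.memA⟩
  have hM : M.index = 2 := by
    rw [Subgroup.index_eq_two_iff]
    refine ⟨⟨eA, (hP eA).2 he.memT⟩, fun b => ?_⟩
    simp only [M, mem_comap, MonoidHom.comp_apply, Subgroup.coe_subtype, Subgroup.coe_mul, eA]
    rcases hc.decomp he (x := ((b : ↥C.A) : G)) ((hP _).1 b.2) b.1.2 with ⟨j, hj⟩ | ⟨j, hj⟩
    · refine Or.inr ⟨⟨j, hj.symm⟩, fun ⟨i, hi⟩ => hnot (-j + i) ?_⟩
      rw [zpow_add, zpow_neg, show c ^ i = c ^ j * e from hi.trans (by rw [hj]), inv_mul_cancel_left]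
    · refine Or.inl ⟨⟨r * j, ?_⟩, fun ⟨i, hi⟩ => hnot (i + -j) ?_⟩
      · dsimp only
        rw [hj, ← IsPreAxis4.conj_pow hr, inv_eq_of_mul_eq_one_right he.sq]
      · rw [zpow_add, zpow_neg, show c ^ i = e * c ^ j from hi.trans hj, mul_inv_cancel_right]
  have he2 : orderOf eA = 2 := orderOf_eq_prime (by
    rw [pow_two]; exact Subtype.ext he.sq) fun h => he.ne (congrArg Subtype.val h)
  obtain ⟨g, hg, hgM⟩ := H83.SmallCent.conj_into C.hom_one P M hM he2 ((hP eA).2 he.memT)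
    (fun hh => by
      obtain ⟨j, hj⟩ := hh
      exact hnot j hj)
  obtain ⟨i, hi⟩ := hgM
  refine ⟨(g : G)⁻¹, inv_mem g.2, ?_⟩
  rw [inv_inv]
  have hi' : c ^ i = (g : G)⁻¹ * e * g := hi
  have hsq : c ^ i * c ^ i = 1 := by
    rw [hi', show (g : G)⁻¹ * e * g * ((g : G)⁻¹ * e * g) = (g : G)⁻¹ * (e * e) * g by group, he.sq,
      mul_one, inv_mul_cancel]
  rcases hc.inv i hsq with h | h
  · rw [hi'] at h
    exact absurd (mul_left_cancel (a := (g : G)⁻¹) (mul_right_cancel (b := (g : G))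
      (h.trans (by group)))) he.ne
  · rw [← hi', h]

/-- No second involution when `r` is on the axis. -/
theorem false_of_r_mem (hr : ∃ i : ℤ, C.r = c ^ i) {e : G} (he : IsSecond4 C e) : False := by
  haveI := Fact.mk Nat.prime_two
  obtain ⟨i, hi⟩ := hr
  obtain ⟨a, ha⟩ := hc.norm C.t C.htT
  have h4 : 4 ∣ a - 1 := by
    obtain ⟨b, hb⟩ := hc.toIsPreAxis4.exp_odd C.htT ha
    by_contra h
    obtain ⟨k, hk⟩ : ∃ k, b = 2 * k + 1 := ⟨b / 2, by omega⟩
    refine C.z_ne ?_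
    have h1 : c ^ (a * i) = c ^ i := by
      rw [← IsPreAxis4.conj_pow ha, ← hi]; exact conj_eq_iff_commute.2 C.htr
    have h2 : c ^ (i + i) = 1 := hc.toIsPreAxis4.eq_one_of_odd_pow (s := 2 * k + 1) ⟨k, rfl⟩ <| by
      rw [← zpow_mul, show (i + i) * (2 * k + 1) = a * i + -i by
        rw [hb, hk]; ring, zpow_add, h1, zpow_neg, mul_inv_cancel]
    rw [Ctx4.z, hi, ← zpow_add, h2]
  set τ := C.r⁻¹ * C.t with hτ
  have htr' : Commute C.t C.r⁻¹ := C.htr.inv_right
  have hrr : C.r⁻¹ * C.r⁻¹ = C.z := by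
    rw [← mul_inv_rev]; exact inv_eq_of_mul_eq_one_right C.z_sq
  have hτ2 : τ * τ = C.z := by
    rw [hτ, htr'.mul_mul_mul_comm, C.ht2, mul_one, hrr]
  have hτz : Commute τ C.z :=
    (C.z_comm _ (mul_mem (inv_mem C.hrT) C.htT))
  have hτf : ∀ {f : G}, IsSecond4 C f → Commute τ f := by
    intro f hf
    obtain ⟨q, hq⟩ := hc.norm f hf.memT
    obtain ⟨k, hk⟩ := hc.second_exp hf hq
    have hfr : f * C.r * f⁻¹ = C.r⁻¹ := by
      have hr4 : c ^ ((i + i) * 2) = 1 := by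
        rw [zpow_mul, zpow_add, ← hi, zpow_two, C.z_sq]
      rw [hi, IsPreAxis4.conj_pow hq, ← zpow_neg, show q * i = -i + (i + i) * 2 * k by
        rw [show q = 4 * k - 1 by omega]; ring, zpow_add, zpow_mul, hr4, one_zpow, mul_one]
    refine conj_eq_iff_commute.1 ?_
    calc τ * f * τ⁻¹ = C.r⁻¹ * (C.t * f * C.t⁻¹) * C.r := by rw [hτ]; group
      _ = C.r⁻¹ * (f * C.r * f⁻¹) * f * C.z := by
        rw [hc.image_of_mod hf ha h4, mul_assoc C.r⁻¹ (f * C.z) C.r,
          mul_assoc f, (C.z_comm C.r C.hrT).eq.symm]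
        group
      _ = f := by
        rw [hfr, hrr, ← (C.z_comm f hf.memT).eq, mul_assoc, C.z_sq, mul_one]
  -- push a conjugate of `z` to a second involution
  obtain ⟨g₀, hg₀, hg₀e⟩ := hc.fused_to_z he
  have hze : Commute C.z e := (C.z_comm e he.memT).symm
  have hy : Commute (g₀ * C.z * g₀⁻¹) C.z := by
    have := Commute.map hze (MulAut.conj g₀).toMonoidHom
    simp only [MulEquiv.coe_toMonoidHom, MulAut.conj_apply, hg₀e] at this
    exact this
  have hy2 : (g₀ * C.z * g₀⁻¹) ^ 2 ^ 1 = 1 := by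
    rw [pow_one, pow_two, show g₀ * C.z * g₀⁻¹ * (g₀ * C.z * g₀⁻¹) = g₀ * (C.z * C.z) * g₀⁻¹ by group,
      C.z_sq, mul_one, mul_inv_cancel]
  obtain ⟨k₀, hk₀, hk₀z, hk₀T⟩ := C.push hy2 hy
  set g := k₀ * g₀ with hg
  have hge : g * e * g⁻¹ = C.z := by
    rw [hg, show k₀ * g₀ * e * (k₀ * g₀)⁻¹ = k₀ * (g₀ * e * g₀⁻¹) * k₀⁻¹ by group, hg₀e]
    exact conj_eq_iff_commute.2 hk₀z
  set e' := g * C.z * g⁻¹ with he'def
  have hgA : g ∈ C.A := mul_mem hk₀ hg₀
  have he' : IsSecond4 C e' := by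
    refine ⟨?_, C.conjA C.z_memA g, fun h => C.z_ne (by simpa [he'def] using h), ?_, fun h => ?_⟩
    · rw [he'def, hg, show k₀ * g₀ * C.z * (k₀ * g₀)⁻¹ = k₀ * (g₀ * C.z * g₀⁻¹) * k₀⁻¹ by group]
      exact hk₀T
    · rw [he'def, show g * C.z * g⁻¹ * (g * C.z * g⁻¹) = g * (C.z * C.z) * g⁻¹ by group, C.z_sq,
        mul_one, mul_inv_cancel]
    · exact he.ne_z (mul_left_cancel (mul_right_cancel (h.trans hge.symm))).symm
  have hze' : Commute C.z e' := (C.z_comm e' he'.memT).symm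
  set Y : Subgroup G := centralizer {C.z} ⊓ centralizer {e'} with hY
  have memY : ∀ {x : G}, Commute x C.z → Commute x e' → x ∈ Y := fun h1 h2 =>
    ⟨mem_centralizer_singleton_iff.2 h1, mem_centralizer_singleton_iff.2 h2⟩
  have commY : ∀ {x : G}, x ∈ Y → Commute x C.z ∧ Commute x e' := fun hx =>
    ⟨mem_centralizer_singleton_iff.1 hx.1, mem_centralizer_singleton_iff.1 hx.2⟩
  set τ' := g * τ * g⁻¹ with hτ'
  have hcj : ∀ {x y : G}, Commute x y → Commute (g * x * g⁻¹) (g * y * g⁻¹) := fun {x y} h =>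
    (Commute.map h (MulAut.conj g).toMonoidHom)
  have hτ'Y : τ' ∈ Y := memY (hge ▸ hcj (hτf he)) (hcj hτz)
  have hτ'2 : τ' * τ' = e' := by rw [hτ', he'def, ← hτ2]; group
  let τY : ↥Y := ⟨τ, memY hτz (hτf he')⟩
  let τY' : ↥Y := ⟨τ', hτ'Y⟩
  let eY : ↥Y := ⟨e', memY hze'.symm (Commute.refl e')⟩
  have hτY4 : τY ^ 2 ^ 2 = 1 := Subtype.ext (by
    show τ ^ 2 ^ 2 = 1
    rw [show (2 : ℕ) ^ 2 = 2 + 2 from rfl, pow_add, pow_two, hτ2, C.z_sq])
  have hτY'4 : τY' ^ 2 ^ 2 = 1 := Subtype.ext (by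
    show τ' ^ 2 ^ 2 = 1
    rw [show (2 : ℕ) ^ 2 = 2 + 2 from rfl, pow_add, pow_two, hτ'2, he'.sq])
  obtain ⟨Q₁, hQ₁⟩ := (isPGroup_two_zpowers hτY4).exists_le_sylow
  obtain ⟨Q₂, hQ₂⟩ := (isPGroup_two_zpowers hτY'4).exists_le_sylow
  obtain ⟨y, hy'⟩ := MulAction.exists_smul_eq ↥Y Q₂ Q₁
  have hτ'' : MulAut.conj y τY' ∈ (Q₁ : Subgroup ↥Y) := by
    rw [← hy']
    exact Subgroup.smul_mem_pointwise_smul τY' (MulAut.conj y) (Q₂ : Subgroup ↥Y)
      (hQ₂ (mem_zpowers τY'))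
  have heQ : eY ∈ (Q₁ : Subgroup ↥Y) := by
    haveI : (zpowers eY).Normal := PGroups.normal_of_le_center (zpowers_le.2
      (mem_center_iff.2 fun x => Subtype.ext (commY x.2).2.eq))
    exact IsPGroup.le_sylow_of_normal (isPGroup_two_zpowers (n := 1)
      (by rw [pow_one, pow_two]; exact Subtype.ext he'.sq)) Q₁ (mem_zpowers eY)
  set dY := τY⁻¹ * MulAut.conj y τY' with hdY
  have hdQ : dY ∈ (Q₁ : Subgroup ↥Y) := mul_mem (inv_mem (hQ₁ (mem_zpowers τY))) hτ''
  set d := (dY : G) with hd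
  have hdA : d ∈ C.A := by
    have h1 : (y : G) * τ' * (y : G)⁻¹ * τ'⁻¹ * (τ' * τ⁻¹) ∈ C.A :=
      mul_mem (C.comm_mem _ _) (C.comm_mem g τ)
    have h2 := C.conjA h1 τ⁻¹
    convert h2 using 1
    simp only [hd, hdY, τY, τY', Subgroup.coe_mul, Subgroup.coe_inv, MulAut.conj_apply]
    group
  let P : Subgroup G := ((Q₁ : Subgroup ↥Y).map Y.subtype) ⊓ C.A
  have hP : IsPGroup 2 P := (Q₁.2.map Y.subtype).to_le inf_le_left
  obtain ⟨k, -, hkC, hk⟩ := C.exists_conjA (centralizer {C.z})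
    (fun t ht => mem_centralizer_singleton_iff.2 (C.z_comm t ht)) P hP (fun x hx => by
      obtain ⟨⟨x', -, rfl⟩, -⟩ := hx
      exact mem_centralizer_singleton_iff.2 (commY x'.2).1)
  have hkz : k * C.z * k⁻¹ = C.z := conj_eq_iff_commute.2 (mem_centralizer_singleton_iff.1 hkC)
  have hke : IsSecond4 C (k * e' * k⁻¹) := by
    refine ⟨hk e' ⟨⟨eY, heQ, rfl⟩, he'.memA⟩, C.conjA he'.memA k, fun h => he'.ne (by simpa using h),
      ?_, fun h => he'.ne_z (mul_left_cancel (a := k) (mul_right_cancel (b := k⁻¹) (h.trans hkz.symm)))⟩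
    rw [show k * e' * k⁻¹ * (k * e' * k⁻¹) = k * (e' * e') * k⁻¹ by group, he'.sq, mul_one,
      mul_inv_cancel]
  have hde : Commute d e' := (commY dY.2).2
  have hd4 := hc.centralizer_second hke (hk d ⟨⟨dY, hdQ, rfl⟩, hdA⟩)
    (C.conjA hdA k) (Commute.map hde (MulAut.conj k).toMonoidHom)
  have hd' : d = 1 ∨ d = C.z ∨ d = e' ∨ d = e' * C.z := by
    rcases hd4 with h | h | h | h
    · left; simpa using h
    · right; left; exact mul_left_cancel (a := k) (mul_right_cancel (b := k⁻¹) (h.trans hkz.symm))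
    · right; right; left; exact mul_left_cancel (mul_right_cancel h)
    · right; right; right
      refine mul_left_cancel (a := k) (mul_right_cancel (b := k⁻¹) (h.trans ?_))
      nth_rewrite 1 [← hkz]
      group
  have hcd : Commute τ d := by
    rcases hd' with h | h | h | h <;> rw [h]
    · exact Commute.one_right τ
    · exact hτz
    · exact hτf he'
    · exact (hτf he').mul_right hτz
  have hd2 : d * d = 1 := by
    rcases hd' with h | h | h | h <;> rw [h]
    · exact one_mul 1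
    · exact C.z_sq
    · exact he'.sq
    · rw [hze'.mul_mul_mul_comm, he'.sq, C.z_sq, one_mul]
  have hfin : ((MulAut.conj y τY' : ↥Y) : G) = τ * d := by
    simp only [hd, hdY, Subgroup.coe_mul, Subgroup.coe_inv, τY]
    group
  refine he'.ne_z ?_
  calc e' = (y : G) * (τ' * τ') * (y : G)⁻¹ := by
        rw [hτ'2]; exact (conj_eq_iff_commute.2 (commY y.2).2).symm
    _ = τ * d * (τ * d) := by
        rw [← hfin]; simp only [τY', MulAut.conj_apply, Subgroup.coe_mul, Subgroup.coe_inv]; group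
    _ = C.z := by rw [hcd.symm.mul_mul_mul_comm, hd2, mul_one, hτ2]

end IsAxis4

/-- An axis excludes second involutions. -/
theorem false_of_axis (hc : IsAxis4 C c) (he : IsSecond4 C e) : False := by
  haveI := Fact.mk Nat.prime_two
  rcases hc.decomp he C.hrT C.hrA with hr | ⟨j, hj⟩
  · exact hc.false_of_r_mem hr he
  obtain ⟨q, hq⟩ := hc.norm e he.memT
  obtain ⟨a, ha⟩ := hc.second_exp he hq
  have hei : e⁻¹ = e := inv_eq_of_mul_eq_one_right he.sq
  have hprod : ∀ x : ℤ, e * c ^ x * (e * c ^ x) = c ^ ((q + 1) * x) := fun x => by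
    rw [add_mul, one_mul, zpow_add, ← IsPreAxis4.conj_pow hq, hei]; simp only [mul_assoc]
  have hz : c ^ (q + 1) = C.z := by
    have h1 : C.z = c ^ ((q + 1) * j) := by rw [Ctx4.z, hj, hprod]
    have h2 : c ^ (q + 1) * c ^ (q + 1) = 1 := by
      rw [← zpow_add]
      refine hc.toIsPreAxis4.eq_one_of_odd_pow (s := 2 * a - 1) ⟨a - 1, by ring⟩ ?_
      rw [← zpow_mul, show (q + 1 + (q + 1)) * (2 * a - 1) = q * q + -1 by
        rw [show q = 4 * a - 1 by omega]; ring, zpow_add, ← IsPreAxis4.comp hq hq, he.sq,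
        zpow_neg_one]
      group
    refine (hc.inv _ h2).resolve_left fun h => C.z_ne ?_
    rw [h1, zpow_mul, h, one_zpow]
  have hzz : ∀ k : ℤ, C.z ^ (2 * k) = 1 := fun k => by rw [zpow_mul, zpow_two, C.z_sq, one_zpow]
  have hzodd : ∀ k : ℤ, C.z ^ (2 * k + 1) = C.z := fun k => by rw [zpow_add, hzz, one_mul, zpow_one]
  have hc1 : ∀ k : ℤ, c ^ (2 * k + 1) ≠ 1 := fun k h => C.z_ne (by
    have hc0 : c ^ (1 : ℤ) = 1 := hc.toIsPreAxis4.eq_one_of_odd_pow ⟨k, rfl⟩ (by rwa [zpow_one])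
    rw [← hz, ← one_mul (q + 1), zpow_mul, hc0, one_zpow])
  have hpar : ∀ m n : ℤ, c ^ m = c ^ n → ∃ k, m = n + 2 * k := by
    intro m n h
    rcases Int.even_or_odd' (m - n) with ⟨k, hk | hk⟩
    · exact ⟨k, by omega⟩
    · exact absurd (by rw [← hk, zpow_sub, h, mul_inv_cancel]) (hc1 k)
  have hne : ∀ m n : ℤ, c ^ m ≠ e * c ^ n := fun m n h =>
    hc.commute_self_ne he (by
      rw [show e = c ^ (m - n) by rw [zpow_sub, h, mul_inv_cancel_right]]
      exact (Commute.refl c).zpow_left _)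
  have hsw : ∀ m : ℤ, c ^ m * e = e * c ^ (q * m) := fun m => by
    rw [← IsPreAxis4.conj_pow hq, hei]
    simp only [← mul_assoc, he.sq, one_mul]
  obtain ⟨P, hP⟩ := C.exists_sylow
  let M : Subgroup ↥(P : Subgroup ↥C.A) :=
    { carrier := {x | ∃ i : ℤ, ((x : ↥C.A) : G) = c ^ (2 * i) ∨ ((x : ↥C.A) : G) = e * c ^ (2 * i)}
      one_mem' := ⟨0, Or.inl (by simp)⟩
      mul_mem' := by
        rintro x y ⟨i, hi | hi⟩ ⟨k, hk | hk⟩ <;> simp only [Set.mem_setOf_eq, Subgroup.coe_mul, hi, hk]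
        · exact ⟨i + k, Or.inl (by rw [← zpow_add, mul_add])⟩
        · exact ⟨q * i + k, Or.inr (by
            rw [← mul_assoc, hsw, mul_assoc, ← zpow_add]; congr 2; ring)⟩
        · exact ⟨i + k, Or.inr (by rw [mul_assoc, ← zpow_add, mul_add])⟩
        · exact ⟨q * i + k, Or.inl (by
            rw [mul_assoc e, ← mul_assoc (c ^ (2 * i)), hsw, mul_assoc e, ← mul_assoc, he.sq, one_mul,
              ← zpow_add]
            congr 1; ring)⟩
      inv_mem' := by
        rintro x ⟨i, hi | hi⟩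
        · exact ⟨-i, Or.inl (by simp only [Subgroup.coe_inv, hi, ← zpow_neg, mul_neg])⟩
        · refine ⟨q * -i, Or.inr ?_⟩
          simp only [Subgroup.coe_inv, hi, mul_inv_rev, hei, ← zpow_neg]
          rw [hsw]
          congr 2; ring }
  let cA : ↥C.A := ⟨c, hc.memA⟩
  have hM : M.index = 2 := by
    rw [Subgroup.index_eq_two_iff]
    refine ⟨⟨cA, (hP cA).2 hc.memT⟩, fun b => ?_⟩
    rcases hc.decomp he (x := ((b : ↥C.A) : G)) ((hP _).1 b.2) b.1.2 with ⟨k, hk⟩ | ⟨k, hk⟩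
    · have h1 : ((b : ↥C.A) : G) * c = c ^ (k + 1) := by rw [hk, zpow_add_one]
      rcases Int.even_or_odd' k with ⟨k', rfl | rfl⟩
      · refine Or.inr ⟨⟨k', Or.inl hk⟩, ?_⟩
        rintro ⟨i, hi | hi⟩ <;> simp only [Subgroup.coe_mul, cA, h1] at hi
        · obtain ⟨d, hd⟩ := hpar _ _ hi; omega
        · exact hne _ _ hi
      · refine Or.inl ⟨⟨k' + 1, Or.inl ?_⟩, ?_⟩
        · simp only [Subgroup.coe_mul, cA, h1]; congr 1; ring
        · rintro ⟨i, hi | hi⟩ <;> rw [hk] at hi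
          · obtain ⟨d, hd⟩ := hpar _ _ hi; omega
          · exact hne _ _ hi
    · have h1 : ((b : ↥C.A) : G) * c = e * c ^ (k + 1) := by rw [hk, zpow_add_one, mul_assoc]
      rcases Int.even_or_odd' k with ⟨k', rfl | rfl⟩
      · refine Or.inr ⟨⟨k', Or.inr hk⟩, ?_⟩
        rintro ⟨i, hi | hi⟩ <;> simp only [Subgroup.coe_mul, cA, h1] at hi
        · exact hne _ _ hi.symm
        · obtain ⟨d, hd⟩ := hpar _ _ (mul_left_cancel hi); omega
      · refine Or.inl ⟨⟨k' + 1, Or.inr ?_⟩, ?_⟩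
        · simp only [Subgroup.coe_mul, cA, h1]; congr 2; ring
        · rintro ⟨i, hi | hi⟩ <;> rw [hk] at hi
          · exact hne _ _ hi.symm
          · obtain ⟨d, hd⟩ := hpar _ _ (mul_left_cancel hi); omega
  -- some conjugate of `r` lies in `M`
  obtain ⟨g, hgP, hgM⟩ : ∃ g : ↥C.A, ∃ h : g⁻¹ * (⟨C.r, C.hrA⟩ : ↥C.A) * g ∈ (P : Subgroup ↥C.A),
      (⟨_, h⟩ : ↥(P : Subgroup ↥C.A)) ∈ M := by
    by_contra hno
    push Not at hno
    refine H83.SmallCent.transfer_four P (H83.SmallCent.signHom M hM) C.hom_one _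
      (by rw [Subgroup.orderOf_mk, C.hr4]) (fun g h h' => hno g h ((H83.SmallCent.signHom_eq_one hM).1 h'))
      fun g h => (H83.SmallCent.signHom_eq_one hM).2 ?_
    set x : G := ((g⁻¹ * (⟨C.r, C.hrA⟩ : ↥C.A) ^ 2 * g : ↥C.A) : G) with hx
    have hxsq : x * x = 1 := by
      simp only [hx, pow_two, Subgroup.coe_mul, Subgroup.coe_inv]
      calc _ = ((g : G))⁻¹ * (C.z * C.z) * g := by simp only [Ctx4.z]; group
        _ = 1 := by rw [C.z_sq, mul_one, inv_mul_cancel]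
    rcases hc.decomp he (x := x) ((hP _).1 h) (g⁻¹ * (⟨C.r, C.hrA⟩ : ↥C.A) ^ 2 * g).2 with
      ⟨k, hk⟩ | ⟨k, hk⟩
    · rcases hc.inv k (by rw [← hk]; exact hxsq) with h' | h'
      · exact ⟨0, Or.inl (by rw [mul_zero, zpow_zero, ← h', ← hk])⟩
      · exact ⟨2 * a, Or.inl (by
          rw [show 2 * (2 * a) = q + 1 by omega, hz, ← h', ← hk])⟩
    · rw [hk, hprod, zpow_mul, hz] at hxsq
      rcases Int.even_or_odd' k with ⟨k', rfl | rfl⟩
      · exact ⟨k', Or.inr hk⟩
      · exact absurd (by rw [← hzodd k', hxsq]) C.z_ne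
  set w : G := (g : G)⁻¹ * C.r * g with hw
  have hw4 : w * w = (g : G)⁻¹ * C.z * g := by simp only [hw, Ctx4.z]; group
  have hw1 : w * w ≠ 1 := fun h => C.z_ne (mul_left_cancel (a := (g : G)⁻¹)
    (mul_right_cancel (b := (g : G)) ((hw4.symm.trans h).trans (by group))))
  obtain ⟨i, hi⟩ : ∃ i : ℤ, w = c ^ (2 * i) := by
    obtain ⟨i, hi | hi⟩ := hgM
    · exact ⟨i, hi⟩
    · refine absurd ?_ hw1
      rw [show w = e * c ^ (2 * i) from hi, hprod, show (q + 1) * (2 * i) = (q + 1) * 2 * i by ring,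
        zpow_mul, zpow_mul, hz, zpow_two, C.z_sq, one_zpow]
  have hwz : w * w = C.z := by
    have h2 : w * w * (w * w) = 1 := by
      rw [hw4, show (g : G)⁻¹ * C.z * g * ((g : G)⁻¹ * C.z * g) = (g : G)⁻¹ * (C.z * C.z) * g by group,
        C.z_sq, mul_one, inv_mul_cancel]
    rw [hi, ← zpow_add] at h2 hw1 ⊢
    exact (hc.inv _ h2).resolve_left hw1
  set t' : G := (g : G)⁻¹ * C.t * g with ht'
  have ht'2 : t' * t' = 1 := by
    rw [ht', show (g : G)⁻¹ * C.t * g * ((g : G)⁻¹ * C.t * g) = (g : G)⁻¹ * (C.t * C.t) * g by group,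
      C.ht2, mul_one, inv_mul_cancel]
  have htw : Commute t' w := by
    have := Commute.map C.htr (MulAut.conj (g : G)⁻¹).toMonoidHom
    simpa only [MulEquiv.coe_toMonoidHom, MulAut.conj_apply, inv_inv] using this
  -- a Sylow 2-subgroup of `C(w)` with `t'` and a conjugate of the axis
  let Y : Subgroup G := centralizer {w}
  let tY : ↥Y := ⟨t', mem_centralizer_singleton_iff.2 htw⟩
  let cY : ↥Y := ⟨c, mem_centralizer_singleton_iff.2 (hi ▸ (Commute.refl c).zpow_right _)⟩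
  obtain ⟨n, hn⟩ := C.T.2 ⟨c, hc.memT⟩
  have hn' : c ^ 2 ^ n = 1 := by simpa using congrArg Subtype.val hn
  obtain ⟨Q₁, hQ₁⟩ := (isPGroup_two_zpowers (g := tY) (n := 1)
    (Subtype.ext (by show t' ^ 2 ^ 1 = 1; rw [pow_one, pow_two, ht'2]))).exists_le_sylow
  obtain ⟨Q₂, hQ₂⟩ := (isPGroup_two_zpowers (g := cY) (Subtype.ext hn')).exists_le_sylow
  obtain ⟨m, hm⟩ := MulAction.exists_smul_eq ↥Y Q₂ Q₁
  have hcQ : MulAut.conj m cY ∈ (Q₁ : Subgroup ↥Y) := by
    rw [← hm]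
    exact Subgroup.smul_mem_pointwise_smul cY (MulAut.conj m) (Q₂ : Subgroup ↥Y)
      (hQ₂ (mem_zpowers cY))
  have hmw : Commute (m : G) w := mem_centralizer_singleton_iff.1 m.2
  obtain ⟨k, hkA, hkK, hk⟩ := C.exists_conjA (centralizer {C.z})
    (fun x hx => mem_centralizer_singleton_iff.2 (C.z_comm x hx)) ((Q₁ : Subgroup ↥Y).map Y.subtype)
    (Q₁.2.map _) (fun x hx => by
      obtain ⟨x', -, rfl⟩ := hx
      refine mem_centralizer_singleton_iff.2 ?_
      rw [← hwz]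
      exact (Commute.mul_right (mem_centralizer_singleton_iff.1 x'.2)
        (mem_centralizer_singleton_iff.1 x'.2)))
  have hkz : k * C.z * k⁻¹ = C.z := conj_eq_iff_commute.2 (mem_centralizer_singleton_iff.1 hkK)
  set d : G := k * ((m : G) * c * (m : G)⁻¹) * k⁻¹ with hd
  set w' : G := k * w * k⁻¹ with hw'
  set t'' : G := k * t' * k⁻¹ with ht''
  have hdT : d ∈ (C.T : Subgroup G) := hk _ ⟨_, hcQ, rfl⟩
  have hw'T : w' ∈ (C.T : Subgroup G) := by
    refine hk w ⟨(MulAut.conj m cY) ^ (2 * i), zpow_mem hcQ _, ?_⟩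
    show (((MulAut.conj m cY) ^ (2 * i) : ↥Y) : G) = w
    simp only [Subgroup.coe_zpow, MulAut.conj_apply, Subgroup.coe_mul, Subgroup.coe_inv, cY]
    rw [conj_zpow, ← hi]
    exact conj_eq_iff_commute.2 hmw
  have hwA : w ∈ C.A := hi ▸ zpow_mem hc.memA _
  have hw'A : w' ∈ C.A := C.conjA hwA k
  have hw'2 : w' * w' = C.z := by
    rw [hw', show k * w * k⁻¹ * (k * w * k⁻¹) = k * (w * w) * k⁻¹ by group, hwz, hkz]
  rcases hc.decomp he hw'T hw'A with hw'c | ⟨l, hl⟩
  · -- the new involution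
    have hsq1 : w' ^ 4 = 1 := by
      rw [show (4 : ℕ) = 2 + 2 from rfl, pow_add, pow_two, hw'2, C.z_sq]
    let C' : Ctx4 G :=
      { A := C.A, T := C.T, t := t'', r := w', normal := C.normal, perf := C.perf, core := C.core
        htT := hk t' ⟨tY, hQ₁ (mem_zpowers tY), rfl⟩
        ht2 := by
          rw [ht'', show k * t' * k⁻¹ * (k * t' * k⁻¹) = k * (t' * t') * k⁻¹ by group, ht'2, mul_one,
            mul_inv_cancel]
        hrT := hw'T
        hrA := hw'A
        hr4 := by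
          refine orderOf_eq_prime_pow (p := 2) (n := 1) ?_ hsq1
          rw [pow_one, pow_two, hw'2]
          exact C.z_ne
        htr := Commute.map htw (MulAut.conj k).toMonoidHom
        gen := fun x => by
          rcases C.gen x with hx | hx
          · exact Or.inl hx
          · right
            set h := k * (g : G)⁻¹ with hh
            rw [show t'' * x = (h * C.t * h⁻¹ * C.t⁻¹) * (C.t * x) by
              simp only [ht'', ht', hh]; group]
            exact mul_mem (C.comm_mem h C.t) hx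
        fix := fun S hS hS2 hcomm => by
          set h := (k * (g : G)⁻¹)⁻¹ with hh
          let S' : Subgroup G := S.map (MulAut.conj h).toMonoidHom
          have := C.fix S' (by rintro _ ⟨x, hx, rfl⟩; exact C.conjA (hS hx) h) (hS2.map _) (by
            rintro _ ⟨x, hx, rfl⟩
            have := Commute.map (hcomm x hx) (MulAut.conj h).toMonoidHom
            simp only [MulEquiv.coe_toMonoidHom, MulAut.conj_apply] at this ⊢
            rwa [show h * t'' * h⁻¹ = C.t by simp only [hh, ht'', ht']; group] at this)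
          rwa [Subgroup.card_map_of_injective (MulAut.conj h).injective] at this }
    have hz' : C'.z = C.z := hw'2
    have hc' : IsAxis4 C' c :=
      ⟨⟨hc.memT, hc.memA, hz'.symm ▸ hc.hz, hc.norm, hc.cent, hz'.symm ▸ hc.inv⟩, hc.mod⟩
    exact hc'.false_of_r_mem hw'c ⟨he.memT, he.memA, he.ne, he.sq, hz'.symm ▸ he.ne_z⟩
  · -- elements of `T ⊓ A` commuting with `w'` have exponent four
    have hdA : d ∈ C.A := C.conjA (C.conjA hc.memA _) k
    have hd4 : d ^ (4 : ℤ) ≠ 1 := fun h => C.z_ne (by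
      rw [hd, conj_zpow, conj_zpow, conj_eq_one_iff, conj_eq_one_iff] at h
      rw [← hz, ha, zpow_mul, h, one_zpow])
    have hdw : Commute d w' := by
      have h1 : Commute ((m : G) * c * (m : G)⁻¹) w :=
        mem_centralizer_singleton_iff.1 ((MulAut.conj m cY : ↥Y)).2
      exact Commute.map h1 (MulAut.conj k).toMonoidHom
    rcases hc.decomp he hdT hdA with ⟨i', hi'⟩ | ⟨i', hi'⟩
    · refine hd4 ?_
      have h1 : c ^ (q * i') = c ^ i' := by
        have h2 : Commute (c ^ i') e := by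
          have := (hi' ▸ hdw).mul_right (((Commute.refl c).zpow_zpow i' l).inv_right)
          rwa [hl, mul_inv_cancel_right] at this
        rw [← IsPreAxis4.conj_pow hq]
        exact conj_eq_iff_commute.2 h2.symm
      have h2 : c ^ (i' + i') = 1 :=
        hc.toIsPreAxis4.eq_one_of_odd_pow (s := 2 * a - 1) ⟨a - 1, by ring⟩ (by
          rw [← zpow_mul, show (i' + i') * (2 * a - 1) = q * i' + -i' by
            rw [show q = 4 * a - 1 by omega]; ring, zpow_add, h1, zpow_neg, mul_inv_cancel])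
      rw [hi', ← zpow_mul, show i' * 4 = (i' + i') * 2 by ring, zpow_mul, h2, one_zpow]
    · refine hd4 ?_
      rw [show (4 : ℤ) = 2 * 2 by norm_num, zpow_mul, zpow_two d, hi', hprod, zpow_mul, hz,
        ← zpow_mul, mul_comm, hzz]

end Cfsg.Agent.H7Four
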