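import Cfsg.Agent.H7FourGroup.Core
import Cfsg.Agent.S0215
import Cfsg.Agent.H83.SmallCent.Sylow

/-!
# An involution with fixed Sylow subgroup cyclic of order four

`G = A⟨t⟩` with `A` normal, perfect, of trivial odd core, `r ∈ A` of order four commutes with the
involution `t`, and no 2-subgroup of `A` centralised by `t` has more than four elements.  A Sylow
2-subgroup of `A` either has a self-centralising cyclic axis or a four-group normal in `T` and
centralised by `r`.
-/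

set_option autoImplicit false

namespace Cfsg.Agent.H7Four

open Subgroup

variable {G : Type*} [Group G]

/-- The hypotheses. -/
structure Ctx4 (G : Type*) [Group G] where
  A : Subgroup G
  T : Sylow 2 G
  t : G
  r : G
  normal : A.Normal
  perf : ⁅A, A⁆ = A
  core : Cfsg.oddCore ↥A = ⊥
  htT : t ∈ (T : Subgroup G)
  ht2 : t * t = 1
  hrT : r ∈ (T : Subgroup G)
  hrA : r ∈ A
  hr4 : orderOf r = 4
  htr : Commute t r
  gen : ∀ g : G, g ∈ A ∨ t * g ∈ A
  fix : ∀ P : Subgroup G, P ≤ A → IsPGroup 2 P → (∀ x ∈ P, Commute t x) → Nat.card P ≤ 4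

/-- The involution in `⟨r⟩`. -/
abbrev Ctx4.z (C : Ctx4 G) : G := C.r * C.r

namespace Ctx4

variable [Finite G] (C : Ctx4 G)

theorem z_sq : C.z * C.z = 1 := by
  rw [← pow_orderOf_eq_one C.r, C.hr4, pow_succ, pow_succ, pow_succ, pow_one, Ctx4.z]
  simp only [mul_assoc]

theorem z_ne : C.z ≠ 1 := fun h => by
  have := orderOf_dvd_of_pow_eq_one (n := 2) ((pow_two C.r).trans h)
  rw [C.hr4] at this
  omega

theorem z_memT : C.z ∈ (C.T : Subgroup G) := mul_mem C.hrT C.hrT

theorem z_memA : C.z ∈ C.A := mul_mem C.hrA C.hrA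

theorem comm_mem (x y : G) : x * y * x⁻¹ * y⁻¹ ∈ C.A := by
  haveI := C.normal
  have hA : ∀ {a : G}, a ∈ C.A → ∀ g : G, g * a * g⁻¹ ∈ C.A := fun {a} h g => C.normal.conj_mem a h g
  have hti : C.t⁻¹ = C.t := inv_eq_of_mul_eq_one_right C.ht2
  rcases C.gen x with hx | hx
  · rw [show x * y * x⁻¹ * y⁻¹ = x * (y * x⁻¹ * y⁻¹) by group]
    exact mul_mem hx (hA (inv_mem hx) y)
  rcases C.gen y with hy | hy
  · exact mul_mem (hA hy x) (inv_mem hy)
  set a := C.t * x with ha
  set b := C.t * y with hb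
  have hx' : x = C.t * a := by rw [ha, ← mul_assoc, C.ht2, one_mul]
  have hy' : y = C.t * b := by rw [hb, ← mul_assoc, C.ht2, one_mul]
  rw [hx', hy', show C.t * a * (C.t * b) * (C.t * a)⁻¹ * (C.t * b)⁻¹
      = (C.t * a * C.t⁻¹) * (C.t * C.t) * (b * a⁻¹) * (C.t * C.t)⁻¹ * (C.t * b⁻¹ * C.t⁻¹) * 1 by group,
    C.ht2, mul_one, mul_one, inv_one, mul_one]
  exact mul_mem (mul_mem (hA hx C.t) (mul_mem hy (inv_mem hx))) (hA (inv_mem hy) C.t)

/-- The `2`-elements of `A` in `T` fixed by `t`. -/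
theorem fixed {x : G} (hxT : x ∈ (C.T : Subgroup G)) (hxA : x ∈ C.A) (hx : Commute C.t x) :
    x = 1 ∨ x = C.r ∨ x = C.z ∨ x = C.r * C.z := by
  set P : Subgroup G := ((C.T : Subgroup G) ⊓ C.A) ⊓ centralizer {C.t} with hP
  have h4 : Nat.card P ≤ 4 := C.fix P (inf_le_left.trans inf_le_right)
    (C.T.2.to_le (inf_le_left.trans inf_le_left))
    fun y hy => (mem_centralizer_singleton_iff.1 hy.2).symm
  have hr : zpowers C.r = P := Subgroup.eq_of_le_of_card_ge
    (zpowers_le.2 ⟨⟨C.hrT, C.hrA⟩, mem_centralizer_singleton_iff.2 C.htr.symm⟩)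
    (by rw [Nat.card_zpowers, C.hr4]; exact h4)
  have hxP : x ∈ zpowers C.r := hr ▸ ⟨⟨hxT, hxA⟩, mem_centralizer_singleton_iff.2 hx.symm⟩
  classical
  obtain ⟨k, hk, rfl⟩ := Finset.mem_image.1
    (((isOfFinOrder_of_finite C.r).mem_zpowers_iff_mem_range_orderOf).1 hxP)
  rw [C.hr4, Finset.mem_range] at hk
  interval_cases k
  · simp
  · simp
  · simp [Ctx4.z, pow_two]
  · simp [Ctx4.z, pow_succ, mul_assoc]

theorem fixed_inv {x : G} (hxT : x ∈ (C.T : Subgroup G)) (hxA : x ∈ C.A) (hx2 : x * x = 1)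
    (hx : Commute C.t x) : x = 1 ∨ x = C.z := by
  rcases C.fixed hxT hxA hx with h | h | h | h
  · exact Or.inl h
  · exact absurd (by rw [h] at hx2; exact hx2) C.z_ne
  · exact Or.inr h
  · refine absurd ?_ C.z_ne
    have h2 : C.r * C.z * (C.r * C.z) = C.z * (C.z * C.z) := by simp only [Ctx4.z]; group
    rw [h, h2, C.z_sq, mul_one] at hx2
    exact hx2

theorem z_comm : ∀ x ∈ (C.T : Subgroup G), Commute x C.z := by
  haveI := C.normal
  haveI := Fact.mk Nat.prime_two
  let N : Subgroup ↥(C.T : Subgroup G) := C.A.subgroupOf (C.T : Subgroup G)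
  haveI : N.Normal := C.normal.subgroupOf _
  have hN : N ≠ ⊥ := by
    intro hb
    have hm : (⟨C.z, C.z_memT⟩ : ↥(C.T : Subgroup G)) ∈ N := C.z_memA
    rw [hb, Subgroup.mem_bot] at hm
    exact C.z_ne (congrArg Subtype.val hm)
  obtain ⟨y, hyN, hyC, hy⟩ := PGroups.exists_mem_center_orderOf_eq C.T.2 N hN
  have hy2 : (y : G) * y = 1 := by
    have := pow_orderOf_eq_one y
    rw [hy, pow_two] at this
    exact congrArg Subtype.val this
  have hyt : ∀ x ∈ (C.T : Subgroup G), Commute x (y : G) := fun x hx =>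
    congrArg Subtype.val (Subgroup.mem_center_iff.1 hyC ⟨x, hx⟩)
  rcases C.fixed_inv y.2 hyN hy2 (hyt _ C.htT) with h | h
  · rw [show y = 1 from Subtype.ext h, orderOf_one] at hy
    omega
  · exact fun x hx => h ▸ hyt x hx

theorem conj_z {x : G} (hx : x ∈ (C.T : Subgroup G)) : x * C.z * x⁻¹ = C.z :=
  conj_eq_iff_commute.2 (C.z_comm x hx)

theorem split {x : G} (hx : x ∈ (C.T : Subgroup G)) :
    x ∈ C.A ∨ C.t * x ∈ (C.T : Subgroup G) ∧ C.t * x ∈ C.A :=
  (C.gen x).imp id fun h => ⟨mul_mem C.htT hx, h⟩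

theorem conjA {x : G} (hx : x ∈ C.A) (g : G) : g * x * g⁻¹ ∈ C.A := C.normal.conj_mem x hx g

/-- A 2-subgroup of `K` is conjugate within `A ⊓ K` into `T`, when `T ≤ K`. -/
theorem exists_conjA (K : Subgroup G) (hT : (C.T : Subgroup G) ≤ K) (P : Subgroup G)
    (hP : IsPGroup 2 P) (hPK : P ≤ K) :
    ∃ a ∈ C.A, a ∈ K ∧ ∀ x ∈ P, a * x * a⁻¹ ∈ (C.T : Subgroup G) := by
  obtain ⟨k, hkK, hk⟩ := exists_conj_le K C.T hT P hP hPK
  rcases C.gen k with h | h
  · exact ⟨k, h, hkK, hk⟩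
  · refine ⟨C.t * k, h, mul_mem (hT C.htT) hkK, fun x hx => ?_⟩
    have := mul_mem (mul_mem C.htT (hk x hx)) (inv_mem C.htT)
    convert this using 1
    group

/-- A 2-element of `C_A(z)` is conjugate into `T` within `C_A(z)`. -/
theorem push {x : G} {n : ℕ} (hx2 : x ^ 2 ^ n = 1) (hxz : Commute x C.z) :
    ∃ a ∈ C.A, Commute a C.z ∧ a * x * a⁻¹ ∈ (C.T : Subgroup G) := by
  obtain ⟨a, haA, haK, ha⟩ := C.exists_conjA (centralizer {C.z})
    (fun y hy => mem_centralizer_singleton_iff.2 (C.z_comm y hy)) (zpowers x)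
    (isPGroup_two_zpowers hx2) (zpowers_le.2 (mem_centralizer_singleton_iff.2 hxz))
  exact ⟨a, haA, mem_centralizer_singleton_iff.1 haK, ha x (mem_zpowers x)⟩

theorem exists_sylow : ∃ P : Sylow 2 ↥C.A, ∀ x : ↥C.A, x ∈ (P : Subgroup ↥C.A) ↔ (x : G) ∈ (C.T : Subgroup G) := by
  haveI := Fact.mk Nat.prime_two
  let S : Subgroup ↥C.A := (C.T : Subgroup G).subgroupOf C.A
  refine ⟨{ toSubgroup := S
            isPGroup' := C.T.2.comap_of_injective C.A.subtype Subtype.val_injective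
            is_maximal' := fun {Q} hQ hSQ => ?_ }, fun x => Iff.rfl⟩
  obtain ⟨k, hk, -, hkT⟩ := C.exists_conjA ⊤ le_top (Q.map C.A.subtype) (hQ.map _) le_top
  refine (Subgroup.eq_of_le_of_card_ge hSQ ?_).symm
  refine Nat.card_le_card_of_injective
    (fun x : ↥Q => (⟨⟨k * (x.1 : G) * k⁻¹, mul_mem (mul_mem hk x.1.2) (inv_mem hk)⟩,
      hkT (x.1 : G) ⟨x.1, x.2, rfl⟩⟩ : ↥S)) fun x y hxy => ?_
  have h1 : k * (x.1 : G) * k⁻¹ = k * (y.1 : G) * k⁻¹ :=
    congrArg (fun s : ↥S => ((s : ↥C.A) : G)) hxy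
  exact Subtype.ext (Subtype.ext (mul_left_cancel (mul_right_cancel h1)))

omit [Finite G] in
theorem commutator_eq_top : commutator ↥C.A = ⊤ := by
  apply Subgroup.map_injective C.A.subtype_injective
  rw [commutator_def, Subgroup.map_commutator, ← MonoidHom.range_eq_map, Subgroup.range_subtype,
    C.perf]

omit [Finite G] in
theorem hom_one {H : Type*} [CommGroup H] (f : ↥C.A →* H) : f = 1 := by
  refine MonoidHom.ext fun x => ?_
  have hx : x ∈ commutator ↥C.A := by rw [C.commutator_eq_top]; trivial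
  exact Abelianization.commutator_subset_ker f hx

omit [Finite G] in
theorem index_ne_two (H : Subgroup ↥C.A) : H.index ≠ 2 := by
  intro h
  have h1 : H = ⊤ := eq_top_iff.2 fun g _ =>
    (H83.SmallCent.signHom_eq_one h).1 (by rw [C.hom_one (H83.SmallCent.signHom H h)]; rfl)
  rw [h1, Subgroup.index_top] at h
  omega

/-- By the Z*-theorem, `z` is central in `A` when it is isolated. -/
theorem z_central (hiso : ∀ g ∈ C.A, g * C.z * g⁻¹ ∈ (C.T : Subgroup G) → g * C.z * g⁻¹ = C.z) :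
    ∀ g ∈ C.A, Commute g C.z := by
  haveI := Fact.mk Nat.prime_two
  obtain ⟨P, hP⟩ := C.exists_sylow
  let u : ↥C.A := ⟨C.z, C.z_memA⟩
  have hu : orderOf u = 2 := orderOf_eq_prime (by rw [pow_two]; exact Subtype.ext C.z_sq)
    fun h => C.z_ne (congrArg Subtype.val h)
  obtain ⟨N, hN, hNodd, hNc⟩ := S0215.result P u hu ((hP u).2 C.z_memT)
    fun g hg => Subtype.ext (hiso g g.2 ((hP _).1 hg))
  haveI := hN
  have hbot : N = ⊥ := le_bot_iff.1 ((Cores.le_oddCore hNodd).trans C.core.le)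
  intro g hg
  have h := hNc ⟨g, hg⟩
  rw [hbot, mem_bot, mul_inv_eq_one, mul_inv_eq_iff_eq_mul] at h
  exact (congrArg Subtype.val h : C.z * g = g * C.z).symm

end Ctx4

/-- An involution of `T ⊓ A` different from `z`. -/
structure IsSecond4 (C : Ctx4 G) (e : G) : Prop where
  memT : e ∈ (C.T : Subgroup G)
  memA : e ∈ C.A
  ne : e ≠ 1
  sq : e * e = 1
  ne_z : e ≠ C.z

/-- A four-group `⟨z, e⟩` normal in `T` and centralised by `r`. -/
structure IsFour (C : Ctx4 G) (e : G) : Prop where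
  second : IsSecond4 C e
  norm : ∀ x ∈ (C.T : Subgroup G), x * e * x⁻¹ = e ∨ x * e * x⁻¹ = e * C.z
  comm : Commute C.r e

/-- `c` generates a self-centralising cyclic subgroup normal in `T`. -/
structure IsPreAxis4 (C : Ctx4 G) (c : G) : Prop where
  memT : c ∈ (C.T : Subgroup G)
  memA : c ∈ C.A
  hz : ∃ i : ℤ, C.z = c ^ i
  norm : ∀ x ∈ (C.T : Subgroup G), ∃ q : ℤ, x * c * x⁻¹ = c ^ q
  cent : ∀ x ∈ (C.T : Subgroup G), x ∈ C.A → Commute x c → ∃ j : ℤ, x = c ^ j
  inv : ∀ i : ℤ, c ^ i * c ^ i = 1 → c ^ i = 1 ∨ c ^ i = C.z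

/-- Moreover elements outside it act with exponent `3 mod 4`. -/
structure IsAxis4 (C : Ctx4 G) (c : G) : Prop extends IsPreAxis4 C c where
  mod : ∀ x ∈ (C.T : Subgroup G), x ∈ C.A → ∀ q : ℤ, x * c * x⁻¹ = c ^ q → 4 ∣ q - 1 → Commute x c

variable [Finite G]

theorem IsSecond4.not_fixed {C : Ctx4 G} {e : G} (he : IsSecond4 C e) : ¬ Commute C.t e := fun h =>
  (C.fixed_inv he.memT he.memA he.sq h).elim he.ne he.ne_z

/-- An involution commuting with all its `T`-conjugates generates with `z` a normal four-group. -/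
theorem norm_of_commute {C : Ctx4 G} {e : G} (he : IsSecond4 C e)
    (h : ∀ x ∈ (C.T : Subgroup G), Commute (x * e * x⁻¹) e) :
    ∀ x ∈ (C.T : Subgroup G), x * e * x⁻¹ = e ∨ x * e * x⁻¹ = e * C.z := by
  have hti : C.t⁻¹ = C.t := inv_eq_of_mul_eq_one_right C.ht2
  have key : ∀ {p : G}, IsSecond4 C p → Commute (C.t * p * C.t⁻¹) p → C.t * p * C.t⁻¹ = p * C.z := by
    intro p hp hc
    set q := C.t * p * C.t⁻¹ with hq
    have hq2 : q * q = 1 := by
      rw [hq, show C.t * p * C.t⁻¹ * (C.t * p * C.t⁻¹) = C.t * (p * p) * C.t⁻¹ by group, hp.sq,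
        mul_one, mul_inv_cancel]
    have hfix : Commute C.t (q * p) := conj_eq_iff_commute.1 <|
      calc C.t * (q * p) * C.t⁻¹ = (C.t * C.t) * p * (C.t * C.t)⁻¹ * q := by rw [hq]; group
        _ = q * p := by rw [C.ht2, inv_one, one_mul, mul_one, hc.eq]
    rcases C.fixed_inv (x := q * p) (mul_mem (mul_mem (mul_mem C.htT hp.memT) (inv_mem C.htT)) hp.memT)
      (mul_mem (C.conjA hp.memA _) hp.memA) (by rw [hc.symm.mul_mul_mul_comm, hq2, hp.sq, mul_one])
      hfix with h' | h'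
    · exfalso
      refine hp.not_fixed (conj_eq_iff_commute.1 ?_)
      rw [← hq]
      exact mul_right_cancel (h'.trans hp.sq.symm)
    · calc q = q * (p * p) := by rw [hp.sq, mul_one]
        _ = C.z * p := by rw [← mul_assoc, h']
        _ = p * C.z := (C.z_comm p hp.memT).eq.symm
  intro x hx
  set p := x * e * x⁻¹ with hp
  have hpT : p ∈ (C.T : Subgroup G) := mul_mem (mul_mem hx he.memT) (inv_mem hx)
  have hp2 : p * p = 1 := by
    rw [hp, show x * e * x⁻¹ * (x * e * x⁻¹) = x * (e * e) * x⁻¹ by group, he.sq, mul_one,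
      mul_inv_cancel]
  have hps : IsSecond4 C p := ⟨hpT, C.conjA he.memA x, fun h' => he.ne (by simpa [hp] using h'), hp2,
    fun h' => he.ne_z (by
      rw [hp, ← C.conj_z hx] at h'
      exact mul_left_cancel (mul_right_cancel h'))⟩
  have hpc : Commute (C.t * p * C.t⁻¹) p := by
    have h' := h (x⁻¹ * C.t * x) (mul_mem (mul_mem (inv_mem hx) C.htT) hx)
    have h'' := Commute.map h' (MulAut.conj x).toMonoidHom
    simp only [MulEquiv.coe_toMonoidHom, MulAut.conj_apply] at h''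
    rw [hp]
    convert h'' using 1
    group
  have h1 := key he (h C.t C.htT)
  have h2 := key hps hpc
  have hpe : Commute p e := h x hx
  have hfix : Commute C.t (p * e) := conj_eq_iff_commute.1 <|
    calc C.t * (p * e) * C.t⁻¹ = (C.t * p * C.t⁻¹) * (C.t * e * C.t⁻¹) := by group
      _ = p * C.z * (e * C.z) := by rw [h1, h2]
      _ = p * e := by rw [(C.z_comm e he.memT).symm.mul_mul_mul_comm, C.z_sq, mul_one]
  rcases C.fixed_inv (x := p * e) (mul_mem hpT he.memT) (mul_mem (C.conjA he.memA x) he.memA)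
    (by rw [hpe.symm.mul_mul_mul_comm, hp2, he.sq, mul_one]) hfix with h' | h'
  · exact Or.inl (mul_right_cancel (h'.trans he.sq.symm))
  · right
    calc p = p * (e * e) := by rw [he.sq, mul_one]
      _ = C.z * e := by rw [← mul_assoc, h']
      _ = e * C.z := (C.z_comm e he.memT).eq.symm

/-- The subgroup `{1, z, e, e z}`. -/
def fourSub {C : Ctx4 G} {e : G} (he : IsSecond4 C e) : Subgroup G where
  carrier := {g | g = 1 ∨ g = C.z ∨ g = e ∨ g = e * C.z}
  one_mem' := Or.inl rfl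
  mul_mem' := by
    have e1 : C.z * e = e * C.z := (C.z_comm e he.memT).eq.symm
    have e2 : C.z * (e * C.z) = e := by rw [← mul_assoc, e1, mul_assoc, C.z_sq, mul_one]
    have e3 : e * C.z * C.z = e := by rw [mul_assoc, C.z_sq, mul_one]
    have e4 : e * (e * C.z) = C.z := by rw [← mul_assoc, he.sq, one_mul]
    have e5 : e * C.z * e = C.z := by rw [mul_assoc, e1, e4]
    have e6 : e * C.z * (e * C.z) = 1 := by rw [mul_assoc, e2, he.sq]
    rintro a b (rfl | rfl | rfl | rfl) (rfl | rfl | rfl | rfl) <;>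
      simp only [Set.mem_setOf_eq, one_mul, mul_one, C.z_sq, he.sq, e1, e2, e3, e4, e5, e6, true_or,
        or_true]
  inv_mem' := by
    have hz := inv_eq_of_mul_eq_one_right C.z_sq
    have hei := inv_eq_of_mul_eq_one_right he.sq
    have e1 : C.z * e = e * C.z := (C.z_comm e he.memT).eq.symm
    rintro a (rfl | rfl | rfl | rfl) <;>
      simp only [Set.mem_setOf_eq, inv_one, mul_inv_rev, hz, hei, e1, true_or, or_true]

theorem mem_fourSub {C : Ctx4 G} {e : G} (he : IsSecond4 C e) {g : G} :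
    g ∈ fourSub he ↔ g = 1 ∨ g = C.z ∨ g = e ∨ g = e * C.z := Iff.rfl

theorem fourSub_le {C : Ctx4 G} {e : G} (he : IsSecond4 C e) :
    fourSub he ≤ (C.T : Subgroup G) ⊓ C.A := by
  rintro g (rfl | rfl | rfl | rfl)
  exacts [one_mem _, ⟨C.z_memT, C.z_memA⟩, ⟨he.memT, he.memA⟩,
    ⟨mul_mem he.memT C.z_memT, mul_mem he.memA C.z_memA⟩]

theorem fourSub_conj {C : Ctx4 G} {e : G} (he : IsSecond4 C e)
    (hn : ∀ x ∈ (C.T : Subgroup G), x * e * x⁻¹ = e ∨ x * e * x⁻¹ = e * C.z)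
    {x : G} (hx : x ∈ (C.T : Subgroup G)) {g : G} (hg : g ∈ fourSub he) :
    x * g * x⁻¹ ∈ fourSub he := by
  have hzm : C.z ∈ fourSub he := Or.inr (Or.inl rfl)
  have hem : x * e * x⁻¹ ∈ fourSub he := (hn x hx).elim (fun h => Or.inr (Or.inr (Or.inl h)))
    fun h => Or.inr (Or.inr (Or.inr h))
  rcases (mem_fourSub he).1 hg with rfl | rfl | rfl | rfl
  · simp only [mul_one, mul_inv_cancel, one_mem]
  · rwa [C.conj_z hx]
  · exact hem
  · rw [show x * (e * C.z) * x⁻¹ = (x * e * x⁻¹) * (x * C.z * x⁻¹) by group, C.conj_z hx]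
    exact mul_mem hem hzm

/-- Fixed points of `t` modulo a normal four-group. -/
theorem fixed_mod {C : Ctx4 G} {e : G} (he : IsSecond4 C e)
    (hn : ∀ x ∈ (C.T : Subgroup G), x * e * x⁻¹ = e ∨ x * e * x⁻¹ = e * C.z)
    {x : G} (hxT : x ∈ (C.T : Subgroup G)) (hxA : x ∈ C.A)
    (h : x⁻¹ * (C.t * x * C.t⁻¹) ∈ fourSub he) : x ∈ fourSub he ∨ C.r⁻¹ * x ∈ fourSub he := by
  have hti : C.t⁻¹ = C.t := inv_eq_of_mul_eq_one_right C.ht2
  have hte : C.t * e * C.t⁻¹ = e * C.z :=
    (hn C.t C.htT).resolve_left fun h' => he.not_fixed (conj_eq_iff_commute.1 h')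
  have hzm : C.z ∈ fourSub he := Or.inr (Or.inl rfl)
  have key : ∀ y ∈ (C.T : Subgroup G), y ∈ C.A → Commute C.t y →
      y ∈ fourSub he ∨ C.r⁻¹ * y ∈ fourSub he := by
    intro y hyT hyA hy
    rcases C.fixed hyT hyA hy with h | h | h | h <;> rw [h]
    · exact Or.inl (one_mem _)
    · exact Or.inr (by rw [inv_mul_cancel]; exact one_mem _)
    · exact Or.inl hzm
    · exact Or.inr (by rw [inv_mul_cancel_left]; exact hzm)
  have htt : C.t * (C.t * x * C.t⁻¹) * C.t⁻¹ = x := by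
    rw [hti, show C.t * (C.t * x * C.t) * C.t = (C.t * C.t) * x * (C.t * C.t) by group, C.ht2,
      one_mul, mul_one]
  set f := x⁻¹ * (C.t * x * C.t⁻¹) with hf
  have htx : C.t * x * C.t⁻¹ = x * f := by rw [hf, mul_inv_cancel_left]
  have hff : f * (C.t * f * C.t⁻¹) = 1 := by
    rw [htx, show C.t * (x * f) * C.t⁻¹ = (C.t * x * C.t⁻¹) * (C.t * f * C.t⁻¹) by group, htx,
      mul_assoc] at htt
    exact mul_left_cancel (htt.trans (mul_one x).symm)
  rcases (mem_fourSub he).1 h with h' | h' | h' | h'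
  · exact key x hxT hxA (conj_eq_iff_commute.1 (by rw [htx, h', mul_one]))
  · have hc : Commute C.t (x * e) := conj_eq_iff_commute.1 <|
      calc C.t * (x * e) * C.t⁻¹ = (C.t * x * C.t⁻¹) * (C.t * e * C.t⁻¹) := by group
        _ = x * (C.z * e * C.z) := by rw [htx, h', hte]; group
        _ = x * e := by rw [← (C.z_comm e he.memT).eq, mul_assoc, C.z_sq, mul_one]
    have hem : e ∈ fourSub he := Or.inr (Or.inr (Or.inl rfl))
    rcases key _ (mul_mem hxT he.memT) (mul_mem hxA he.memA) hc with h'' | h''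
    · exact Or.inl (by simpa [mul_assoc, he.sq] using mul_mem h'' hem)
    · exact Or.inr (by simpa [mul_assoc, he.sq] using mul_mem h'' hem)
  · rw [h', hte, ← mul_assoc, he.sq, one_mul] at hff
    exact absurd hff C.z_ne
  · rw [h', show C.t * (e * C.z) * C.t⁻¹ = (C.t * e * C.t⁻¹) * (C.t * C.z * C.t⁻¹) by group, hte,
      C.conj_z C.htT, mul_assoc e C.z C.z, C.z_sq, mul_one, mul_assoc,
      (C.z_comm e he.memT).symm.eq, ← mul_assoc, he.sq, one_mul] at hff
    exact absurd hff C.z_ne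

/-- If `r` moves a normal four-group, `T ⊓ A` is dihedral of order eight with axis `r`. -/
theorem axis_of_not_commute {C : Ctx4 G} {e : G} (he : IsSecond4 C e)
    (hn : ∀ x ∈ (C.T : Subgroup G), x * e * x⁻¹ = e ∨ x * e * x⁻¹ = e * C.z)
    (hre : ¬ Commute C.r e) :
    IsAxis4 C C.r ∧ ∀ x ∈ (C.T : Subgroup G), x ∈ C.A → Commute x e → x ∈ fourSub he := by
  haveI := C.normal
  haveI := Fact.mk Nat.prime_two
  set T' := (C.T : Subgroup G) with hT'
  have hze : Commute C.z e := (C.z_comm e he.memT).symm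
  have hre' : C.r * e * C.r⁻¹ = e * C.z :=
    (hn C.r C.hrT).resolve_left fun h => hre (conj_eq_iff_commute.1 h)
  have hEc : ∀ g ∈ fourSub he, Commute g e := by
    intro g hg
    rcases (mem_fourSub he).1 hg with h | h | h | h <;> subst g
    exacts [Commute.one_left e, hze, Commute.refl e, (Commute.refl e).mul_left hze]
  -- the centralizer of the four-group inside `T ⊓ A`
  have hK : ∀ x ∈ T', x ∈ C.A → Commute x e → x ∈ fourSub he := by
    let K : Subgroup ↥T' := (C.A ⊓ centralizer {e}).subgroupOf T'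
    let E : Subgroup ↥T' := (fourSub he).subgroupOf T'
    have hEn : E.Normal := ⟨fun k hk g => fourSub_conj he hn g.2 hk⟩
    have hKn : K.Normal := ⟨fun k hk g => by
      obtain ⟨hkA, hke⟩ := (hk : (k : G) ∈ C.A ⊓ centralizer {e})
      refine ⟨C.conjA hkA _, mem_centralizer_singleton_iff.2 ?_⟩
      have hke' : Commute (k : G) e := mem_centralizer_singleton_iff.1 hke
      have hkz : Commute (k : G) C.z := C.z_comm k k.2
      have hc : Commute (k : G) ((g : G)⁻¹ * e * g) := by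
        rcases hn (g : G)⁻¹ (inv_mem g.2) with h | h <;> rw [inv_inv] at h <;> rw [h]
        · exact hke'
        · exact hke'.mul_right hkz
      have := Commute.map hc (MulAut.conj (g : G)).toMonoidHom
      simp only [MulEquiv.coe_toMonoidHom, MulAut.conj_apply] at this
      rw [show (g : G) * ((g : G)⁻¹ * e * g) * (g : G)⁻¹ = e by group] at this
      exact this⟩
    have hEK : E ≤ K := fun y hy =>
      ⟨(fourSub_le he hy).2, mem_centralizer_singleton_iff.2 (hEc _ hy)⟩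
    intro x hxT hxA hxe
    by_contra hx
    have hxK : (⟨x, hxT⟩ : ↥T') ∈ K := ⟨hxA, mem_centralizer_singleton_iff.2 hxe⟩
    obtain ⟨M, hMn, hEM, hMK, hcard⟩ := PGroups.exists_normal_card_mul C.T.2 E K
      (lt_of_le_of_ne hEK fun h => hx (h ▸ hxK : (⟨x, hxT⟩ : ↥T') ∈ E))
    obtain ⟨m, hmM, hmE⟩ := SetLike.exists_of_lt (lt_of_le_of_ne hEM fun h => by
      rw [← h] at hcard; nlinarith [(Nat.card_pos : 0 < Nat.card E)])
    let tT : ↥T' := ⟨C.t, C.htT⟩
    have hidx : (E.subgroupOf M).index = 2 := by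
      have h1 := (E.subgroupOf M).index_mul_card
      rw [Nat.card_congr (subgroupOfEquivOfLe hEM).toEquiv, hcard] at h1
      exact Nat.eq_of_mul_eq_mul_right Nat.card_pos h1
    have h1 : tT * m * tT⁻¹ ∉ E := fun hh => hmE (by
      have := hEn.conj_mem _ hh tT⁻¹
      convert this using 1; group)
    have hq := (Subgroup.mul_mem_iff_of_index_two hidx (a := (⟨m, hmM⟩ : ↥M)⁻¹)
      (b := ⟨tT * m * tT⁻¹, hMn.conj_mem m hmM tT⟩)).2
        ⟨fun hh => absurd hh (fun hh' => hmE (by simpa [mem_subgroupOf] using hh')),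
          fun hh => absurd hh (by simpa [mem_subgroupOf] using h1)⟩
    obtain ⟨hmA, hme⟩ := (hMK hmM : (m : G) ∈ C.A ⊓ centralizer {e})
    rcases fixed_mod he hn m.2 hmA (by simpa [E, mem_subgroupOf, tT] using hq) with h | h
    · exact hmE h
    · refine hre ?_
      have hme' : Commute (m : G) e := mem_centralizer_singleton_iff.1 hme
      simpa [mul_assoc] using hme'.mul_left (hEc _ h).inv_left
  have hr3 : C.r ^ (3 : ℤ) = C.z * C.r := by
    rw [show (3 : ℤ) = 2 + 1 by norm_num, zpow_add, zpow_one, zpow_two]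
  have hcov : ∀ x ∈ T', x ∈ C.A → (∃ i : ℤ, x = C.r ^ i) ∨ ∃ i : ℤ, x = e * C.r ^ i := by
    intro x hxT hxA
    have hru : C.r⁻¹ * e * C.r = e * C.z := by
      rcases hn C.r⁻¹ (inv_mem C.hrT) with h | h
      · exact absurd (Commute.inv_left_iff.1 (conj_eq_iff_commute.1 h)) hre
      · rwa [inv_inv] at h
    have hx' : Commute x e ∨ Commute (C.r⁻¹ * x) e := by
      rcases hn x hxT with h | h
      · exact Or.inl (conj_eq_iff_commute.1 h)
      · right
        refine conj_eq_iff_commute.1 ?_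
        calc C.r⁻¹ * x * e * (C.r⁻¹ * x)⁻¹ = C.r⁻¹ * (x * e * x⁻¹) * C.r := by group
          _ = (C.r⁻¹ * e * C.r) * C.z := by rw [h]; simp only [Ctx4.z]; group
          _ = e := by rw [hru, mul_assoc, C.z_sq, mul_one]
    have hz2 : C.z = C.r ^ (2 : ℤ) := (zpow_two C.r).symm
    rcases hx' with h | h
    · rcases (mem_fourSub he).1 (hK x hxT hxA h) with h' | h' | h' | h'
      · exact Or.inl ⟨0, by simp [h']⟩
      · exact Or.inl ⟨2, by rw [h', hz2]⟩
      · exact Or.inr ⟨0, by simp [h']⟩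
      · exact Or.inr ⟨2, by rw [h', hz2]⟩
    · have hr' : C.r * e = e * C.r ^ (3 : ℤ) := by
        rw [hr3, ← mul_assoc,
          ← mul_inv_eq_iff_eq_mul]
        exact hre'
      have hx : x = C.r * (C.r⁻¹ * x) := by group
      rcases (mem_fourSub he).1 (hK _ (mul_mem (inv_mem C.hrT) hxT) (mul_mem (inv_mem C.hrA) hxA) h) with h' | h' | h' | h' <;>
        rw [h'] at hx
      · exact Or.inl ⟨1, by simpa using hx⟩
      · exact Or.inl ⟨3, by rw [hx, hr3]; simp only [Ctx4.z, mul_assoc]⟩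
      · exact Or.inr ⟨3, by rw [hx, hr']⟩
      · exact Or.inr ⟨5, by rw [hx, ← mul_assoc, hr', hz2, mul_assoc, ← zpow_add]; norm_num⟩
  refine ⟨?_, hK⟩
  refine ⟨⟨C.hrT, C.hrA, ⟨2, (zpow_two C.r).symm⟩, fun x hx => ?_, fun x hxT hxA hxc => ?_,
    fun i hi => ?_⟩, fun x hxT hxA q hq h4 => ?_⟩
  · have main : ∀ y ∈ T', y ∈ C.A → ∃ q : ℤ, y * C.r * y⁻¹ = C.r ^ q := by
      intro y hyT hyA
      rcases hcov y hyT hyA with ⟨i, rfl⟩ | ⟨i, rfl⟩
      · exact ⟨1, by group⟩
      · refine ⟨3, ?_⟩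
        have hei : e⁻¹ = e := inv_eq_of_mul_eq_one_right he.sq
        calc e * C.r ^ i * C.r * (e * C.r ^ i)⁻¹ = e * C.r * e := by rw [mul_inv_rev, hei]; group
          _ = e * ((C.r * e * C.r⁻¹) * C.r) := by group
          _ = C.z * C.r := by rw [hre', ← mul_assoc, ← mul_assoc, he.sq, one_mul]
          _ = C.r ^ (3 : ℤ) := hr3.symm
    rcases C.split hx with h | ⟨hT2, hA2⟩
    · exact main x hx h
    · obtain ⟨q, hq⟩ := main _ hT2 hA2
      refine ⟨q, ?_⟩
      calc x * C.r * x⁻¹ = C.t⁻¹ * (C.t * x * C.r * (C.t * x)⁻¹) * C.t := by group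
        _ = C.r ^ q := by
          rw [hq, mul_assoc, ← (C.htr.zpow_right q).eq]
          group
  · rcases hcov x hxT hxA with h | ⟨i, rfl⟩
    · exact h
    · refine absurd ?_ hre
      have := hxc.mul_left (((Commute.refl C.r).zpow_left i).inv_left)
      simp only [mul_inv_cancel_right] at this
      exact this.symm
  · have h4 : C.r ^ i = 1 ∨ C.r ^ i = C.r ∨ C.r ^ i = C.z ∨ C.r ^ i = C.r * C.z :=
      C.fixed (zpow_mem C.hrT i) (zpow_mem C.hrA i) (C.htr.zpow_right i)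
    exact C.fixed_inv (zpow_mem C.hrT i) (zpow_mem C.hrA i) hi (C.htr.zpow_right i)
  · obtain ⟨k, hk⟩ := h4
    refine conj_eq_iff_commute.1 ?_
    rw [hq, show q = 1 + (4 : ℤ) * k by omega, zpow_add, zpow_one, zpow_mul,
      show C.r ^ (4 : ℤ) = C.z * C.z by rw [show (4 : ℤ) = 2 + 2 by norm_num, zpow_add, zpow_two], C.z_sq, one_zpow, mul_one]

end Cfsg.Agent.H7Four
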