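import Cfsg.Agent.H7FourGroup.FourCtx

/-!
# Axis or normal four-group

A Sylow 2-subgroup of `A` has either a normal four-group centralised by `r` or an axis.
-/

set_option autoImplicit false

namespace Cfsg.Agent.H7Four

open Subgroup

variable {G : Type*} [Group G] [Finite G] {C : Ctx4 G} {c : G}

theorem exists_preAxis_or_second (C : Ctx4 G) :
    (∃ c, IsPreAxis4 C c) ∨ ∃ e, IsSecond4 C e ∧ ∀ x ∈ (C.T : Subgroup G), Commute (x * e * x⁻¹) e := by
  haveI := C.normal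
  haveI := Fact.mk Nat.prime_two
  set T' := (C.T : Subgroup G) with hT'
  let N : Subgroup ↥T' := C.A.subgroupOf T'
  haveI : N.Normal := C.normal.subgroupOf _
  let zT : ↥T' := ⟨C.z, C.z_memT⟩
  have hzc : zT ∈ center ↥T' := mem_center_iff.2 fun g => Subtype.ext (C.z_comm g.1 g.2)
  let fam : Set (Subgroup ↥T') := {B | B.Normal ∧ IsMulCommutative B ∧ B ≤ N ∧ zT ∈ B}
  have hzcom : IsMulCommutative (zpowers zT) := PGroups.isMulCommutative_of_comm fun x hx y hy => by
    obtain ⟨i, rfl⟩ := hx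
    obtain ⟨j, rfl⟩ := hy
    exact zpow_mul_comm zT i j
  obtain ⟨B, hBmax⟩ := (Set.toFinite fam).exists_maximal
    ⟨zpowers zT, PGroups.normal_of_le_center (zpowers_le.2 hzc), hzcom, zpowers_le.2 C.z_memA,
      mem_zpowers zT⟩
  obtain ⟨hBn, hBc, hBN, hzB⟩ := hBmax.1
  haveI := hBn
  have hBcomm : ∀ x ∈ B, ∀ y ∈ B, Commute (x : G) y := fun x hx y hy =>
    congrArg Subtype.val (PGroups.comm_of_isMulCommutative hBc hx hy)
  have hself : centralizer (B : Set ↥T') ⊓ N ≤ B := by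
    by_contra hne
    have hle : B ≤ centralizer (B : Set ↥T') ⊓ N := le_inf (fun x hx =>
      mem_centralizer_iff.2 fun g hg => PGroups.comm_of_isMulCommutative hBc hg hx) hBN
    obtain ⟨M, hMn, hBM, hMC, hcard⟩ := PGroups.exists_normal_card_mul C.T.2 B
      (centralizer (B : Set ↥T') ⊓ N) (lt_of_le_not_ge hle hne)
    have hlt : B < M := lt_of_le_of_ne hBM fun h => by
      rw [← h] at hcard
      nlinarith [(Nat.card_pos : 0 < Nat.card B)]
    obtain ⟨x, hxM, hxB⟩ := SetLike.exists_of_lt hlt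
    have hMeq : B ⊔ zpowers x = M := by
      refine Subgroup.eq_of_le_of_card_ge (sup_le hBM (zpowers_le.mpr hxM)) ?_
      have h1 : B < B ⊔ zpowers x :=
        lt_of_le_of_ne le_sup_left fun h => hxB (h ▸ Subgroup.mem_sup_right (mem_zpowers x))
      obtain ⟨m, hm⟩ := Subgroup.card_dvd_of_le h1.le
      have hd := Subgroup.card_dvd_of_le (sup_le hBM (zpowers_le.mpr hxM))
      rw [hm, hcard, mul_comm 2] at hd
      rcases Nat.prime_two.eq_one_or_self_of_dvd m (Nat.dvd_of_mul_dvd_mul_left Nat.card_pos hd)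
        with h | h
      · rw [h, mul_one] at hm
        exact absurd (Subgroup.eq_of_le_of_card_ge h1.le hm.le) h1.ne
      · rw [hcard, hm, h, mul_comm]
    have hcomm := PGroups.isMulCommutative_sup_zpowers hBc (hMC hxM).1
    rw [hMeq] at hcomm
    exact hlt.not_ge (hBmax.2 ⟨hMn, hcomm, hMC.trans inf_le_right, hBM hzB⟩ hBM)
  refine or_iff_not_imp_right.2 fun hno => ?_
  push Not at hno
  have hinvB : ∀ b ∈ B, b * b = 1 → (b : G) = 1 ∨ (b : G) = C.z := by
    intro b hb hb2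
    by_contra hbn
    push Not at hbn
    obtain ⟨x, hx, hxb⟩ := hno b ⟨b.2, hBN hb, hbn.1, congrArg Subtype.val hb2, hbn.2⟩
    exact hxb (hBcomm _ (hBn.conj_mem b hb ⟨x, hx⟩) b hb)
  obtain ⟨g, hg, hBg⟩ := Derange.isCyclic_of_unique (q := 2) (A := B) (C.T.2.to_subgroup B)
    (fun x hx y hy => PGroups.comm_of_isMulCommutative hBc hx hy) fun x hx y hy hx2 hx1 hy2 => by
      rw [pow_two] at hx2 hy2
      have hxz : (x : G) = C.z := (hinvB x hx hx2).resolve_left fun h => hx1 (Subtype.ext h)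
      rcases hinvB y hy hy2 with h | h
      · rw [show y = 1 from Subtype.ext h]; exact one_mem _
      · rw [show y = x from Subtype.ext (h.trans hxz.symm)]; exact mem_zpowers x
  refine ⟨(g : G), g.2, hBN hg, ?_, fun t ht => ?_, fun x hxT hxA hxc => ?_, fun i hi => ?_⟩
  · rw [hBg] at hzB
    obtain ⟨i, hi⟩ := hzB
    exact ⟨i, by simpa using (congrArg Subtype.val hi).symm⟩
  · have := hBn.conj_mem g hg ⟨t, ht⟩
    nth_rewrite 1 [hBg] at this
    obtain ⟨r, hr⟩ := this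
    exact ⟨r, by simpa using (congrArg Subtype.val hr).symm⟩
  · have hm : (⟨x, hxT⟩ : ↥T') ∈ B := by
      refine hself ⟨mem_centralizer_iff.2 fun b hb => ?_, hxA⟩
      rw [SetLike.mem_coe, hBg] at hb
      obtain ⟨j, rfl⟩ := hb
      refine Subtype.ext ?_
      simpa using (hxc.symm.zpow_left j).eq
    rw [hBg] at hm
    obtain ⟨j, hj⟩ := hm
    exact ⟨j, by simpa using (congrArg Subtype.val hj).symm⟩
  · have hm : g ^ i ∈ B := zpow_mem hg i
    have := hinvB (g ^ i) hm (Subtype.ext (by simpa using hi))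
    simpa using this

namespace IsPreAxis4

theorem conj_pow {t : G} {q : ℤ} (h : t * c * t⁻¹ = c ^ q) (i : ℤ) :
    t * c ^ i * t⁻¹ = c ^ (q * i) := by
  rw [← conj_zpow, h, zpow_mul]

theorem comp {s t : G} {r q : ℤ} (hs : s * c * s⁻¹ = c ^ r) (ht : t * c * t⁻¹ = c ^ q) :
    s * t * c * (s * t)⁻¹ = c ^ (r * q) := by
  rw [← conj_pow hs, ← ht]
  group

variable (hc : IsPreAxis4 C c)
include hc

theorem comm_z : Commute c C.z := C.z_comm c hc.memT

theorem eq_one_of_odd_pow {i s : ℤ} (hs : Odd s) (h : (c ^ i) ^ s = 1) : c ^ i = 1 := by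
  obtain ⟨n, hn⟩ := C.T.2 ⟨c ^ i, zpow_mem hc.memT i⟩
  have hn' : (c ^ i) ^ ((2 : ℤ) ^ n) = 1 := by
    have := congrArg Subtype.val hn
    rw [show ((2 : ℤ) ^ n) = ((2 ^ n : ℕ) : ℤ) by push_cast; rfl, zpow_natCast]
    simpa using this
  obtain ⟨q, hq⟩ := hs
  have hco : IsCoprime s ((2 : ℤ) ^ n) := IsCoprime.pow_right ⟨1, -q, by omega⟩
  obtain ⟨a, b, hab⟩ := hco
  calc c ^ i = (c ^ i) ^ (a * s + b * 2 ^ n) := by rw [hab, zpow_one]
    _ = 1 := by
      rw [zpow_add, mul_comm a, mul_comm b, zpow_mul (c ^ i) s a,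
        zpow_mul (c ^ i) ((2 : ℤ) ^ n) b, h, hn', one_zpow, one_zpow, mul_one]

theorem exp_odd {t : G} (ht : t ∈ (C.T : Subgroup G)) {r : ℤ} (h : t * c * t⁻¹ = c ^ r) : Odd r := by
  by_contra hr
  obtain ⟨q, hq⟩ := Int.not_odd_iff_even.1 hr
  obtain ⟨i, hi⟩ := hc.hz
  refine C.z_ne ?_
  calc C.z = t * C.z * t⁻¹ := (C.conj_z ht).symm
    _ = c ^ (r * i) := by rw [hi, conj_pow h]
    _ = (c ^ i * c ^ i) ^ q := by rw [← zpow_add, ← zpow_mul, hq]; congr 1; ring
    _ = 1 := by rw [← hi, C.z_sq, one_zpow]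

/-- Either elements acting as `1 mod 4` centralise the axis, or there is a normal four-group. -/
theorem commute_or_second : ∀ (j : ℕ) (x : G), x ∈ (C.T : Subgroup G) → x ∈ C.A →
    Commute (x ^ 2 ^ j) c → ∀ r : ℤ, x * c * x⁻¹ = c ^ r → 4 ∣ r - 1 → Commute x c ∨
      ∃ y, IsSecond4 C y ∧ (∀ w ∈ (C.T : Subgroup G), Commute (w * y * w⁻¹) y) ∧
        y * c * y⁻¹ = c * C.z ∧ c ^ (4 : ℤ) ≠ 1 := by
  intro j
  induction j with
  | zero => intro x _ _ h r _ _; exact Or.inl (by simpa using h)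
  | succ j ih =>
    intro x hxT hxA hj r hr h4
    by_cases hxc : Commute x c
    · exact Or.inl hxc
    obtain ⟨q, hq⟩ := h4
    rcases ih (x * x) (mul_mem hxT hxT) (mul_mem hxA hxA)
      (by rwa [← pow_two, ← pow_mul, ← pow_succ']) (r * r) (comp hr hr)
      ⟨q * (r + 1), by rw [show r = 4 * q + 1 by omega]; ring⟩ with hsq | hy
    swap
    · exact Or.inr hy
    obtain ⟨l, hl⟩ := hc.cent _ (mul_mem hxT hxT) (mul_mem hxA hxA) hsq
    have hrr : c ^ (r * r) = c := by
      rw [← comp hr hr]; exact conj_eq_iff_commute.2 hsq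
    have hv : c ^ (r - 1) * c ^ (r - 1) = 1 := by
      rw [← zpow_add]
      refine hc.eq_one_of_odd_pow (s := 2 * q + 1) ⟨q, rfl⟩ ?_
      rw [← zpow_mul, show (r - 1 + (r - 1)) * (2 * q + 1) = r * r + -1 by
        rw [show r = 4 * q + 1 by omega]; ring, zpow_add, hrr, zpow_neg_one, mul_inv_cancel]
    rcases hc.inv _ hv with hv1 | hvz
    · refine absurd (conj_eq_iff_commute.1 ?_) hxc
      rw [hr, show r = 1 + (r - 1) by ring, zpow_add, hv1, zpow_one, mul_one]
    have hxcz : x * c * x⁻¹ = c * C.z := by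
      rw [hr, show r = 1 + (r - 1) by ring, zpow_add, hvz, zpow_one]
    have hcz : Commute c C.z := hc.comm_z
    have hc4 : c ^ (4 : ℤ) ≠ 1 := fun h => C.z_ne (by rw [← hvz, hq, zpow_mul, h, one_zpow])
    -- `x c^i = c^i z^i x`
    have hpow : ∀ {y : G}, y * c * y⁻¹ = c * C.z → ∀ i : ℤ, y * c ^ i = c ^ i * C.z ^ i * y :=
      fun {y} hy i => by rw [← mul_inv_eq_iff_eq_mul, ← conj_zpow, hy, hcz.mul_zpow]
    have hzz : ∀ i : ℤ, C.z ^ (2 * i) = 1 := fun i => by
      rw [zpow_mul, zpow_two, C.z_sq, one_zpow]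
    have hzodd : ∀ i : ℤ, C.z ^ (2 * i + 1) = C.z := fun i => by
      rw [zpow_add, hzz, one_mul, zpow_one]
    obtain ⟨l', hl'⟩ : Even l := by
      by_contra hle
      obtain ⟨a, ha⟩ := Int.not_even_iff_odd.1 hle
      have h1 : x * c ^ l = c ^ l * x := by rw [← hl]; group
      rw [hpow hxcz l, ha, hzodd] at h1
      exact C.z_ne (mul_left_cancel ((mul_right_cancel h1).trans (mul_one _).symm))
    have hy0 : (x * c ^ (-l')) * (x * c ^ (-l')) = C.z ^ (-l') := by
      calc (x * c ^ (-l')) * (x * c ^ (-l'))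
          = (x * c ^ (-l')) * x * c ^ (-l') := by group
        _ = c ^ (-l') * C.z ^ (-l') * (x * x) * c ^ (-l') := by rw [hpow hxcz]; group
        _ = C.z ^ (-l') := by
          rw [hl, hl', (hcz.zpow_zpow (-l') (-l')).eq]
          group
    have hy0c : (x * c ^ (-l')) * c * (x * c ^ (-l'))⁻¹ = c * C.z :=
      (show _ = x * c * x⁻¹ by group).trans hxcz
    -- an involution inducing `c ↦ c z`
    obtain ⟨y, hyT, hyA, hy2, hyc⟩ : ∃ y : G, y ∈ (C.T : Subgroup G) ∧ y ∈ C.A ∧ y * y = 1 ∧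
        y * c * y⁻¹ = c * C.z := by
      rcases Int.even_or_odd' (-l') with ⟨a, ha | ha⟩
      · exact ⟨_, mul_mem hxT (zpow_mem hc.memT _), mul_mem hxA (zpow_mem hc.memA _),
          by rw [hy0, ha, hzz], hy0c⟩
      · obtain ⟨i, hi⟩ := hc.hz
        obtain ⟨i', hi'⟩ : Even i := by
          by_contra hie
          refine hc4 ?_
          have h2 : c ^ (2 : ℤ) = 1 := hc.eq_one_of_odd_pow (Int.not_even_iff_odd.1 hie)
            (by rw [← zpow_mul, mul_comm, zpow_mul, ← hi, zpow_two, C.z_sq])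
          rw [show (4 : ℤ) = 2 * 2 by norm_num, zpow_mul, h2, one_zpow]
        obtain ⟨i'', hi''⟩ : Even i' := by
          by_contra hie
          refine hc4 (hc.eq_one_of_odd_pow (Int.not_even_iff_odd.1 hie) ?_)
          rw [← zpow_mul, show (4 : ℤ) * i' = i * 2 by omega, zpow_mul, ← hi, zpow_two, C.z_sq]
        set y₀ := x * c ^ (-l') with hy₀
        refine ⟨y₀ * c ^ i', mul_mem (mul_mem hxT (zpow_mem hc.memT _)) (zpow_mem hc.memT _),
          mul_mem (mul_mem hxA (zpow_mem hc.memA _)) (zpow_mem hc.memA _), ?_,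
          (show _ = y₀ * c * y₀⁻¹ by group).trans hy0c⟩
        have hw : y₀ * c ^ i' = c ^ i' * y₀ := by
          rw [hpow hy0c, hi'', show i'' + i'' = 2 * i'' by ring, hzz, mul_one]
        calc y₀ * c ^ i' * (y₀ * c ^ i') = (y₀ * y₀) * (c ^ i' * c ^ i') := by
              rw [mul_assoc, ← mul_assoc (c ^ i'), ← hw]; simp only [mul_assoc]
          _ = 1 := by rw [hy0, ha, hzodd, ← zpow_add, ← hi', ← hi, C.z_sq]
    have hy1 : y ≠ 1 := by
      rintro rfl
      simp only [one_mul, inv_one, mul_one, left_eq_mul] at hyc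
      exact C.z_ne hyc
    have hyz : y ≠ C.z := by
      rintro rfl
      rw [conj_eq_iff_commute.2 hcz.symm] at hyc
      exact C.z_ne (mul_left_cancel ((mul_one c).trans hyc)).symm
    refine Or.inr ⟨y, ⟨hyT, hyA, hy1, hy2, hyz⟩, fun w hw => ?_, hyc, hc4⟩
    obtain ⟨a, ha⟩ := hc.norm w hw
    obtain ⟨b, hb⟩ := hc.norm w⁻¹ (inv_mem hw)
    obtain ⟨b', hb'⟩ := hc.exp_odd (inv_mem hw) hb
    have hab : w * c ^ b * w⁻¹ = c := by
      rw [← hb]; group
    set y' := w * y * w⁻¹ with hy'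
    have hy'c : y' * c * y'⁻¹ = c * C.z :=
      calc y' * c * y'⁻¹ = w * (y * (w⁻¹ * c * w⁻¹⁻¹) * y⁻¹) * w⁻¹ := by rw [hy']; group
        _ = w * (c ^ b * C.z) * w⁻¹ := by
          rw [hb, ← conj_zpow, hyc, hcz.mul_zpow, hb', hzodd]
        _ = (w * c ^ b * w⁻¹) * (w * C.z * w⁻¹) := by group
        _ = c * C.z := by rw [hab, C.conj_z hw]
    have hy'T : y' ∈ (C.T : Subgroup G) := mul_mem (mul_mem hw hyT) (inv_mem hw)
    have hy'A : y' ∈ C.A := C.conjA hyA w
    obtain ⟨i, hi⟩ := hc.cent (y' * y⁻¹) (mul_mem hy'T (inv_mem hyT)) (mul_mem hy'A (inv_mem hyA))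
      (conj_eq_iff_commute.1 <|
        calc y' * y⁻¹ * c * (y' * y⁻¹)⁻¹ = y' * (y⁻¹ * c * y) * y'⁻¹ := by group
          _ = y' * (c * C.z) * y'⁻¹ := by rw [← hyc, inv_eq_of_mul_eq_one_right hy2]
          _ = (y' * c * y'⁻¹) * (y' * C.z * y'⁻¹) := by group
          _ = c := by rw [hy'c, C.conj_z hy'T, mul_assoc, C.z_sq, mul_one])
    have hey : y' = c ^ i * y := mul_inv_eq_iff_eq_mul.1 hi
    have hsq' : (c ^ i * y) * (c ^ i * y) = 1 := by
      rw [← hey, hy', show w * y * w⁻¹ * (w * y * w⁻¹) = w * (y * y) * w⁻¹ by group, hy2, mul_one,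
        mul_inv_cancel]
    have hsq'' : c ^ i * c ^ i * C.z ^ i = 1 :=
      calc c ^ i * c ^ i * C.z ^ i = c ^ i * (c ^ i * C.z ^ i * y) * y := by
            rw [mul_assoc (c ^ i), mul_assoc (c ^ i), mul_assoc (c ^ i * C.z ^ i), hy2, mul_one]
        _ = 1 := by
          rw [← hpow hyc]
          simpa only [mul_assoc] using hsq'
    rw [hey]
    rcases Int.even_or_odd' i with ⟨i', h | h⟩
    · rw [h, hzz, mul_one, ← h] at hsq''
      rcases hc.inv i hsq'' with h1 | h1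
      · rw [h1, one_mul]
      · rw [h1]
        exact (C.z_comm y hyT).symm.mul_left (Commute.refl y)
    · exfalso
      refine hc4 (hc.eq_one_of_odd_pow (s := i) ⟨i', h⟩ ?_)
      have h2 : c ^ (i + i) = C.z := by
        rw [zpow_add]
        calc c ^ i * c ^ i = c ^ i * c ^ i * (C.z * C.z) := by rw [C.z_sq, mul_one]
          _ = c ^ i * c ^ i * C.z ^ i * C.z := by rw [h, hzodd, mul_assoc _ C.z C.z]
          _ = C.z := by rw [hsq'', one_mul]
      rw [← zpow_mul, show (4 : ℤ) * i = (i + i) * 2 by ring, zpow_mul, h2, zpow_two, C.z_sq]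

end IsPreAxis4

/-- A Sylow 2-subgroup of `A` has an axis or a normal four-group centralised by `r`. -/
theorem exists_axis_or_four (C : Ctx4 G) : (∃ c, IsAxis4 C c) ∨ ∃ e, IsFour C e := by
  have four : ∀ e, IsSecond4 C e → (∀ x ∈ (C.T : Subgroup G), Commute (x * e * x⁻¹) e) →
      IsFour C e ∨ (IsAxis4 C C.r ∧
        ∀ x ∈ (C.T : Subgroup G), x ∈ C.A → Commute x e → x * x = 1) := by
    intro e he h
    have hn := norm_of_commute he h
    by_cases hre : Commute C.r e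
    · exact Or.inl ⟨he, hn, hre⟩
    · obtain ⟨hax, hK⟩ := axis_of_not_commute he hn hre
      refine Or.inr ⟨hax, fun x hxT hxA hx => ?_⟩
      rcases (mem_fourSub he).1 (hK x hxT hxA hx) with h | h | h | h <;> rw [h]
      · exact one_mul 1
      · exact C.z_sq
      · exact he.sq
      · rw [(C.z_comm e he.memT).symm.mul_mul_mul_comm, he.sq, C.z_sq, mul_one]
  rcases exists_preAxis_or_second C with ⟨c, hc⟩ | ⟨e, he, hcomm⟩
  · by_cases hex : ∃ y, IsSecond4 C y ∧ (∀ w ∈ (C.T : Subgroup G), Commute (w * y * w⁻¹) y) ∧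
        y * c * y⁻¹ = c * C.z ∧ c ^ (4 : ℤ) ≠ 1
    · obtain ⟨y, hy, hcomm, hyc, hc4⟩ := hex
      rcases four y hy hcomm with h | ⟨-, hK⟩
      · exact Or.inr ⟨y, h⟩
      · exfalso
        refine hc4 ?_
        have h2 : y * (c * c) * y⁻¹ = c * c := by
          rw [show y * (c * c) * y⁻¹ = (y * c * y⁻¹) * (y * c * y⁻¹) by group, hyc,
            hc.comm_z.symm.mul_mul_mul_comm, C.z_sq, mul_one]
        have h3 := (hK (c * c) (mul_mem hc.memT hc.memT) (mul_mem hc.memA hc.memA)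
          (conj_eq_iff_commute.1 h2).symm)
        rw [show (4 : ℤ) = 1 + 1 + (1 + 1) by norm_num, zpow_add, zpow_add, zpow_one]
        exact h3
    · refine Or.inl ⟨c, hc, fun x hxT hxA q hq h4 => ?_⟩
      obtain ⟨n, hn⟩ := C.T.2 ⟨x, hxT⟩
      have hn' : x ^ 2 ^ n = 1 := by simpa using congrArg Subtype.val hn
      exact (hc.commute_or_second n x hxT hxA (hn' ▸ Commute.one_left c) q hq h4).resolve_right hex
  · rcases four e he hcomm with h | h
    · exact Or.inr ⟨e, h⟩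
    · exact Or.inl ⟨C.r, h.1⟩

end Cfsg.Agent.H7Four
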