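import Cfsg.Agent.PGroups.Basic
import Cfsg.Agent.PGroups.MaxClass
import Cfsg.Agent.PGroups.MaxAbelian

/-!
# A 2-group with an involution fixing two points of an index-two subgroup

`P` is a 2-group, `N` has index two, the involution `t ∉ N` centralises exactly `{1, r}` in `N`.
Then `r` is central, a second involution of `N` generates `P` with `t`, and `N` has a cyclic
subgroup of index at most two.
-/

set_option autoImplicit false

namespace Cfsg.Agent.H7Four

open Subgroup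

universe u

/-- The hypotheses. -/
structure TwoFix {P : Type u} [Group P] (N : Subgroup P) (t r : P) : Prop where
  pgroup : IsPGroup 2 P
  normal : N.Normal
  htN : t ∉ N
  gen : ∀ x, x ∈ N ∨ t * x ∈ N
  ht2 : t * t = 1
  hrN : r ∈ N
  hr1 : r ≠ 1
  hr2 : r * r = 1
  htr : Commute t r
  fix : ∀ x ∈ N, Commute t x → x = 1 ∨ x = r

variable {P : Type u} [Group P] [Finite P] {N : Subgroup P} {t r : P}

namespace TwoFix

variable (h : TwoFix N t r)
include h

theorem central : r ∈ center P := by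
  haveI := Fact.mk Nat.prime_two
  haveI := h.normal
  have hN : N ≠ ⊥ := fun hb => h.hr1 ((mem_bot).1 (hb ▸ h.hrN))
  obtain ⟨y, hyN, hyC, hy⟩ := PGroups.exists_mem_center_orderOf_eq h.pgroup N hN
  rcases h.fix y hyN (mem_center_iff.1 hyC t) with h' | h'
  · rw [h', orderOf_one] at hy
    omega
  · exact h' ▸ hyC

theorem not_commute {y : P} (hyN : y ∈ N) (hy1 : y ≠ 1) (hyr : y ≠ r) : ¬ Commute t y := fun hc =>
  (h.fix y hyN hc).elim hy1 hyr

theorem exists_pow_two (x : P) : ∃ n : ℕ, x ^ 2 ^ n = 1 := h.pgroup x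

/-- A second involution of `N` generates the group together with `t`. -/
theorem gen_two {y : P} (hyN : y ∈ N) (hy2 : y * y = 1) (hy1 : y ≠ 1) (hyr : y ≠ r) :
    ∀ x ∈ N, ∃ i : ℤ, x = (t * y) ^ (2 * i) ∨ x = (t * y) ^ (2 * i) * y := by
  classical
  haveI := Fact.mk Nat.prime_two
  haveI := h.normal
  have hti : t⁻¹ = t := inv_eq_of_mul_eq_one_right h.ht2
  have hyi : y⁻¹ = y := inv_eq_of_mul_eq_one_right hy2
  set γ := t * y with hγ
  have hy' : y = t * γ := by rw [hγ, ← mul_assoc, h.ht2, one_mul]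
  have hinv : ∀ i : ℤ, t * γ ^ i * t = γ ^ (-i) := fun i => by
    have h1 : t * γ * t⁻¹ = γ⁻¹ := by
      rw [hγ, hti, mul_inv_rev, hti, hyi, ← mul_assoc t t y, h.ht2, one_mul]
    rw [zpow_neg, ← inv_zpow, ← h1, conj_zpow, hti]
  have hsw : ∀ i : ℤ, t * γ ^ i = γ ^ (-i) * t := fun i => by
    rw [← hinv i, mul_assoc, h.ht2, mul_one]
  let H : Subgroup P :=
    { carrier := {x | ∃ i : ℤ, x = γ ^ i ∨ x = γ ^ i * t}
      one_mem' := ⟨0, Or.inl (by simp)⟩
      mul_mem' := by
        rintro _ _ ⟨i, rfl | rfl⟩ ⟨k, rfl | rfl⟩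
        · exact ⟨i + k, Or.inl (by rw [zpow_add])⟩
        · exact ⟨i + k, Or.inr (by rw [zpow_add, mul_assoc])⟩
        · exact ⟨i + -k, Or.inr (by rw [mul_assoc, hsw, ← mul_assoc, ← zpow_add])⟩
        · refine ⟨i + -k, Or.inl ?_⟩
          rw [mul_assoc, ← mul_assoc t, hsw, mul_assoc _ t t, h.ht2, mul_one, ← zpow_add]
      inv_mem' := by
        rintro _ ⟨i, rfl | rfl⟩
        · exact ⟨-i, Or.inl (by rw [zpow_neg])⟩
        · exact ⟨i, Or.inr (by rw [mul_inv_rev, hti, ← zpow_neg, hsw, neg_neg])⟩ }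
  have hmem : ∀ {x : P}, x ∈ H ↔ ∃ i : ℤ, x = γ ^ i ∨ x = γ ^ i * t := Iff.rfl
  have hγH : ∀ i : ℤ, γ ^ i ∈ H := fun i => ⟨i, Or.inl rfl⟩
  have htH : t ∈ H := ⟨0, Or.inr (by simp)⟩
  have htN : ∀ {x : P}, x ∈ N → x * t ∉ N := fun {x} hx hxt =>
    h.htN ((N.mul_mem_cancel_left hx).1 hxt)
  have hγN : ∀ i : ℤ, γ ^ (2 * i) ∈ N := fun i => by
    rw [zpow_mul, zpow_two]
    refine zpow_mem ?_ i
    rw [hγ, show t * y * (t * y) = (t * y * t⁻¹) * (t * t) * y by group, h.ht2, mul_one]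
    exact mul_mem (h.normal.conj_mem y hyN t) hyN
  have hγN' : ∀ i : ℤ, γ ^ (2 * i + 1) ∉ N := fun i hmem' => by
    rw [zpow_add, zpow_one, N.mul_mem_cancel_left (hγN i), hγ, N.mul_mem_cancel_right hyN] at hmem'
    exact h.htN hmem'
  have hγ2 : γ ^ (2 : ℤ) ≠ 1 := by
    intro he
    refine h.not_commute hyN hy1 hyr ?_
    rw [zpow_two, hγ] at he
    have h3 := inv_eq_of_mul_eq_one_right he
    rw [mul_inv_rev, hti, hyi] at h3
    exact h3.symm
  have hrH : r ∈ H := by
    obtain ⟨n, hn⟩ := h.exists_pow_two (γ ^ (2 : ℤ))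
    have hex : ∃ n, (γ ^ (2 : ℤ)) ^ 2 ^ n = 1 := ⟨n, hn⟩
    have hmin := Nat.find_spec hex
    obtain ⟨m, hm⟩ : ∃ m, Nat.find hex = m + 1 := by
      refine ⟨Nat.find hex - 1, ?_⟩
      have : Nat.find hex ≠ 0 := fun h0 => by rw [h0, pow_zero, pow_one] at hmin; exact hγ2 hmin
      omega
    have hlt := Nat.find_min hex (show m < Nat.find hex by omega)
    rw [hm] at hmin
    have he : (γ ^ (2 : ℤ)) ^ 2 ^ m = γ ^ (2 * (2 ^ m : ℤ)) := by
      rw [zpow_mul, show (2 : ℤ) ^ m = ((2 ^ m : ℕ) : ℤ) by push_cast; rfl, zpow_natCast]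
    rw [pow_succ, pow_mul, he, pow_two] at hmin
    rw [he] at hlt
    set v := γ ^ (2 * (2 ^ m : ℤ)) with hv
    have hcv : Commute t v := by
      show t * v = v * t
      rw [hv, hsw, zpow_neg, ← hv, inv_eq_of_mul_eq_one_right hmin]
    rcases h.fix v (hγN _) hcv with h' | h'
    · exact absurd h' hlt
    · exact h' ▸ hγH _
  have hH : H = ⊤ := by
    by_contra hne
    haveI := h.pgroup.isNilpotent
    obtain ⟨x, hxn, hxH⟩ := SetLike.exists_of_lt
      (Group.normalizerCondition_of_isNilpotent H (lt_top_iff_ne_top.2 hne))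
    have hu : x * t * x⁻¹ ∈ H := (mem_normalizer_iff.1 hxn t).1 htH
    have huN : x * t * x⁻¹ ∉ N := fun hu' => h.htN (by
      have := h.normal.conj_mem _ hu' x⁻¹
      rwa [show x⁻¹ * (x * t * x⁻¹) * x⁻¹⁻¹ = t by group] at this)
    have hu2 : x * t * x⁻¹ * (x * t * x⁻¹) = 1 := by
      rw [show x * t * x⁻¹ * (x * t * x⁻¹) = x * (t * t) * x⁻¹ by group, h.ht2, mul_one, mul_inv_cancel]
    obtain ⟨i, hi | hi⟩ := hmem.1 hu
    · rcases Int.even_or_odd' i with ⟨k, rfl | rfl⟩
      · exact huN (hi ▸ hγN k)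
      · refine hγ2 ?_
        rw [hi, ← zpow_add] at hu2
        obtain ⟨n, hn⟩ := h.exists_pow_two γ
        have h2 : (γ ^ (2 : ℤ)) ^ (2 * k + 1) = 1 := by
          rw [← zpow_mul, show (2 : ℤ) * (2 * k + 1) = 2 * k + 1 + (2 * k + 1) by ring, hu2]
        have hn' : (γ ^ (2 : ℤ)) ^ ((2 : ℤ) ^ n) = 1 := by
          rw [show ((2 : ℤ) ^ n) = ((2 ^ n : ℕ) : ℤ) by push_cast; rfl, zpow_natCast,
            show γ ^ (2 : ℤ) = γ ^ (2 : ℕ) from zpow_ofNat γ 2, ← pow_mul, mul_comm, pow_mul, hn,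
            one_pow]
        obtain ⟨a, b, hab⟩ : IsCoprime (2 * k + 1) ((2 : ℤ) ^ n) :=
          IsCoprime.pow_right ⟨1, -k, by ring⟩
        calc γ ^ (2 : ℤ) = (γ ^ (2 : ℤ)) ^ (a * (2 * k + 1) + b * 2 ^ n) := by rw [hab, zpow_one]
          _ = 1 := by
            rw [zpow_add, mul_comm a, mul_comm b, zpow_mul _ (2 * k + 1) a, zpow_mul _ ((2 : ℤ) ^ n) b,
              h2, hn', one_zpow, one_zpow, mul_one]
    · rcases Int.even_or_odd' i with ⟨k, rfl | rfl⟩
      · set s := γ ^ (-k) * x with hs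
        have hst : Commute t s := Commute.symm <| conj_eq_iff_commute_two.1 <|
          calc s * t * s⁻¹ = γ ^ (-k) * (x * t * x⁻¹) * γ ^ k := by rw [hs]; group
            _ = γ ^ (-k) * γ ^ (2 * k) * (t * γ ^ k) := by rw [hi]; group
            _ = t := by rw [hsw, ← zpow_add, ← mul_assoc, ← zpow_add]; ring_nf; simp
        have hsH : s ∈ H := by
          rcases h.gen s with hsN | hsN
          · rcases h.fix s hsN hst with h' | h' <;> rw [h']
            exacts [one_mem H, hrH]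
          · have hts : t * s ∈ H := by
              rcases h.fix _ hsN ((Commute.refl t).mul_right hst) with h' | h' <;> rw [h']
              exacts [one_mem H, hrH]
            exact (H.mul_mem_cancel_left htH).1 hts
        exact hxH ((H.mul_mem_cancel_left (hγH (-k))).1 hsH)
      · refine huN ?_
        rw [hi, show γ ^ (2 * k + 1) * t = γ ^ (2 * k) * (γ * t) by rw [zpow_add_one, mul_assoc],
          show γ * t = t * y * t⁻¹ by rw [hγ, hti]]
        exact mul_mem (hγN k) (h.normal.conj_mem y hyN t)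
  intro x hxN
  have hxH : x ∈ H := hH ▸ mem_top x
  obtain ⟨i, hi | hi⟩ := hmem.1 hxH
  · rcases Int.even_or_odd' i with ⟨k, rfl | rfl⟩
    · exact ⟨k, Or.inl hi⟩
    · exact absurd (hi ▸ hxN) (hγN' k)
  · rcases Int.even_or_odd' i with ⟨k, rfl | rfl⟩
    · exact absurd (hi ▸ hxN) (htN (hγN k))
    · refine ⟨k + 1, Or.inr ?_⟩
      rw [hi, show (2 : ℤ) * (k + 1) = 2 * k + 1 + 1 by ring, zpow_add_one γ (2 * k + 1), mul_assoc]
      congr 1
      rw [hγ, mul_assoc, hy2, mul_one]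
where
  conj_eq_iff_commute_two {a b : P} : a * b * a⁻¹ = b ↔ Commute a b := by
    rw [mul_inv_eq_iff_eq_mul]; exact Iff.rfl

/-- `N` has a cyclic subgroup of index at most two. -/
theorem exists_cyclic : ∃ i ∈ N, ∃ y ∈ N, ∀ x ∈ N, (∃ k : ℤ, x = i ^ k) ∨ ∃ k : ℤ, x = y * i ^ k := by
  classical
  haveI := Fact.mk Nat.prime_two
  obtain ⟨n, hn⟩ := IsPGroup.iff_card.1 h.pgroup
  set A : Subgroup P := centralizer {t} with hA
  have hAmem : ∀ x, x ∈ A → x = 1 ∨ x = r ∨ x = t ∨ x = t * r := by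
    intro x hx
    have hx' : Commute t x := (mem_centralizer_singleton_iff.1 hx).symm
    rcases h.gen x with hN | hN
    · exact (h.fix x hN hx').elim Or.inl fun h' => Or.inr (Or.inl h')
    · have e : x = t * (t * x) := by rw [← mul_assoc, h.ht2, one_mul]
      rcases h.fix _ hN ((Commute.refl t).mul_right hx') with h' | h' <;> rw [h'] at e
      · exact Or.inr (Or.inr (Or.inl (by rw [e, mul_one])))
      · exact Or.inr (Or.inr (Or.inr e))
  have htA : t ∈ A := mem_centralizer_singleton_iff.2 rfl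
  have hrA : r ∈ A := mem_centralizer_singleton_iff.2 h.htr.symm
  have hAcomm : ∀ x ∈ A, ∀ y ∈ A, x * y = y * x := by
    have hc : ∀ x, x ∈ A → Commute x t ∧ Commute x r := fun x hx =>
      ⟨mem_centralizer_singleton_iff.1 hx, mem_center_iff.1 h.central x⟩
    intro x hx y hy
    rcases hAmem y hy with h' | h' | h' | h' <;> rw [h']
    · simp
    · exact (hc x hx).2
    · exact (hc x hx).1
    · exact (hc x hx).1.mul_right (hc x hx).2
  have hcardA : Nat.card A = 2 ^ 2 := by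
    have hle : (A : Set P) ⊆ ({1, r, t, t * r} : Finset P) := fun x hx => by simpa using hAmem x hx
    have h4 : Nat.card A ≤ 4 := by
      have h' := Nat.card_mono (Finset.finite_toSet _) hle
      rw [Nat.card_eq_fintype_card (α := (({1, r, t, t * r} : Finset P) : Set P))] at h'
      exact h'.trans (by simpa using Finset.card_le_four)
    obtain ⟨m, hm⟩ := IsPGroup.iff_card.1 (h.pgroup.to_subgroup A)
    have h3 : ({1, r, t} : Finset P).card ≤ Nat.card A := by
      rw [← Nat.card_eq_finsetCard]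
      refine Nat.card_mono (Set.toFinite (A : Set P)) fun x hx => ?_
      simp only [Finset.coe_insert, Finset.coe_singleton, Set.mem_insert_iff, Set.mem_singleton_iff] at hx
      rcases hx with rfl | rfl | rfl
      exacts [one_mem A, hrA, htA]
    rw [Finset.card_insert_of_notMem (by
      simp only [Finset.mem_insert, Finset.mem_singleton, not_or]
      exact ⟨fun h' => h.hr1 h'.symm, fun h' => h.htN (by rw [← h']; exact one_mem N)⟩),
      Finset.card_pair (fun h' => h.htN (by rw [← h']; exact h.hrN))] at h3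
    rw [hm] at h3 h4 ⊢
    congr 1
    rcases m with _ | _ | _ | m
    · simp at h3
    · simp at h3
    · rfl
    · exfalso
      have := Nat.pow_le_pow_right (show 0 < 2 by norm_num) (show 3 ≤ m + 3 by omega)
      omega
  have hCA : centralizer (A : Set P) = A := le_antisymm
    (fun x hx => mem_centralizer_singleton_iff.2 (mem_centralizer_iff.1 hx t htA).symm)
    (fun x hx => mem_centralizer_iff.2 fun y hy => hAcomm y hy x hx)
  have hn2 : 2 ≤ n := (Nat.pow_dvd_pow_iff_le_right (by norm_num)).1 (hcardA ▸ hn ▸ A.card_subgroup_dvd_card)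
  rcases hn2.eq_or_lt with h2 | h3
  · refine ⟨r, h.hrN, 1, one_mem N, fun x hx => Or.inl ?_⟩
    have hAt : A = ⊤ := Subgroup.eq_top_of_card_eq _ (by rw [hcardA, hn, h2])
    rcases h.fix x hx (mem_centralizer_singleton_iff.1 (show x ∈ A from hAt ▸ mem_top x)).symm with h' | h'
    · exact ⟨0, by simp [h']⟩
    · exact ⟨1, by simp [h']⟩
  obtain ⟨c, hc⟩ := PGroups.exists_cyclic_index_two n P (by omega) hn
    (PGroups.nilpotencyClass_of_self_centralizing n P hn A hcardA hCA)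
  have hidx : (zpowers c).index = 2 := by
    have h1 := (zpowers c).card_mul_index
    rw [Nat.card_zpowers, hc, hn] at h1
    nth_rw 2 [show n = (n - 1) + 1 by omega] at h1
    rw [pow_succ] at h1
    exact Nat.eq_of_mul_eq_mul_left (by positivity) h1
  set K : Subgroup P := zpowers c ⊓ N with hK
  haveI : IsCyclic K := isCyclic_of_le (inf_le_left : K ≤ zpowers c)
  obtain ⟨i, hi⟩ := IsCyclic.exists_generator (α := K)
  have hgen : ∀ x ∈ K, ∃ k : ℤ, x = (i : P) ^ k := fun x hx => by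
    obtain ⟨k, hk⟩ := mem_zpowers_iff.1 (hi ⟨x, hx⟩)
    exact ⟨k, by simpa using (congrArg Subtype.val hk).symm⟩
  by_cases hall : ∀ x ∈ N, x ∈ zpowers c
  · exact ⟨i, i.2.2, 1, one_mem N, fun x hx => Or.inl (hgen x ⟨hall x hx, hx⟩)⟩
  push Not at hall
  obtain ⟨y, hyN, hyc⟩ := hall
  refine ⟨i, i.2.2, y, hyN, fun x hx => ?_⟩
  by_cases hxc : x ∈ zpowers c
  · exact Or.inl (hgen x ⟨hxc, hx⟩)
  · obtain ⟨k, hk⟩ := hgen (y⁻¹ * x) ⟨(Subgroup.mul_mem_iff_of_index_two hidx).2
      ⟨fun hh => absurd ((zpowers c).inv_mem_iff.1 hh) hyc, fun hh => absurd hh hxc⟩, N.mul_mem (N.inv_mem hyN) hx⟩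
    exact Or.inr ⟨k, by rw [← hk, mul_inv_cancel_left]⟩

end TwoFix

end Cfsg.Agent.H7Four
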