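import Cfsg.Agent.H7FourGroup.FourCtx
import Cfsg.Agent.H7FourGroup.TwoFix
import Cfsg.Agent.S1906
import Cfsg.Agent.S0949

/-!
# The four-group case, central subcase

`⟨z, e⟩` is normal in `T` and centralised by `r`.  Modulo this four-group `t` fixes two points of
`S = T ⊓ A`.  Here: general facts, and the contradiction when `S` centralises `e` (transfer, and
Brauer's theorem when `S` is abelian).
-/

set_option autoImplicit false

namespace Cfsg.Agent.H7Four

open Subgroup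

variable {G : Type*} [Group G] [Finite G] {C : Ctx4 G} {e : G}

omit [Finite G] in
open IsMulCommutative in
theorem comm_ident {M : Subgroup G} [IsMulCommutative M] (x y v w r : M) :
    (x * y)⁻¹ * (x⁻¹ * v * (y⁻¹ * w)) = (x * x)⁻¹ * r * (r⁻¹ * w) * (y * y)⁻¹ * v := by
  apply Additive.ofMul.injective
  simp only [ofMul_mul, ofMul_inv]
  abel

/-- Membership in `T ⊓ A`. -/
abbrev InS (C : Ctx4 G) (x : G) : Prop := x ∈ (C.T : Subgroup G) ⊓ C.A

namespace IsFour

variable (hf : IsFour C e)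

/-- The four-group. -/
abbrev E : Subgroup G := fourSub hf.second

theorem z_mem : C.z ∈ hf.E := Or.inr (Or.inl rfl)

theorem e_mem : e ∈ hf.E := Or.inr (Or.inr (Or.inl rfl))

theorem ez_mem : e * C.z ∈ hf.E := Or.inr (Or.inr (Or.inr rfl))

include hf

theorem conj_t : C.t * e * C.t⁻¹ = e * C.z :=
  (hf.norm C.t C.htT).resolve_left fun h => hf.second.not_fixed (conj_eq_iff_commute.1 h)

theorem t_notMem : C.t ∉ C.A := fun h => by
  rcases C.fixed_inv C.htT h C.ht2 (Commute.refl C.t) with h' | h'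
  · exact hf.second.not_fixed (h' ▸ Commute.one_left e)
  · exact hf.second.not_fixed (h' ▸ (C.z_comm e hf.second.memT).symm)

theorem commute_r {η : G} (hη : η ∈ hf.E) : Commute C.r η := by
  rcases (mem_fourSub hf.second).1 hη with h | h | h | h <;> rw [h]
  · exact Commute.one_right _
  · exact C.z_comm _ C.hrT
  · exact hf.comm
  · exact hf.comm.mul_right (C.z_comm _ C.hrT)

theorem comm_E {η : G} (hη : η ∈ hf.E) {x : G} (hxT : x ∈ (C.T : Subgroup G)) (hx : Commute x e) :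
    Commute x η := by
  rcases (mem_fourSub hf.second).1 hη with h | h | h | h <;> rw [h]
  · exact Commute.one_right _
  · exact C.z_comm _ hxT
  · exact hx
  · exact hx.mul_right (C.z_comm _ hxT)

theorem r_notMem : C.r ∉ hf.E := fun h => by
  rcases (mem_fourSub hf.second).1 h with h | h | h | h
  · exact C.z_ne (by simp [Ctx4.z, h])
  · exact C.z_ne (by
      have := C.z_sq
      rwa [show C.z * C.z = C.r * C.r by rw [← h]] at this)
  · exact C.z_ne (by rw [Ctx4.z, h, hf.second.sq])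
  · exact C.z_ne (by
      rw [Ctx4.z, h, (C.z_comm e hf.second.memT).symm.mul_mul_mul_comm, hf.second.sq, C.z_sq, mul_one])

theorem sq_E {η : G} (hη : η ∈ hf.E) : η * η = 1 := by
  rcases (mem_fourSub hf.second).1 hη with h | h | h | h <;> rw [h]
  · exact one_mul 1
  · exact C.z_sq
  · exact hf.second.sq
  · rw [(C.z_comm e hf.second.memT).symm.mul_mul_mul_comm, hf.second.sq, C.z_sq, mul_one]

/-- An element of `rE` squares to `z`. -/
theorem sq_rE {x : G} (hx : C.r⁻¹ * x ∈ hf.E) : x * x = C.z := by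
  obtain ⟨η, hη, rfl⟩ : ∃ η ∈ hf.E, x = C.r * η := ⟨_, hx, by group⟩
  rw [(hf.commute_r hη).symm.mul_mul_mul_comm, hf.sq_E hη, mul_one]

theorem sq_cases {x : G} (h : x ∈ hf.E ∨ C.r⁻¹ * x ∈ hf.E) : x * x = 1 ∨ x * x = C.z :=
  h.imp hf.sq_E hf.sq_rE

theorem inS_E {η : G} (hη : η ∈ hf.E) : InS C η := fourSub_le hf.second hη

omit hf in
theorem inS_r : InS C C.r := ⟨C.hrT, C.hrA⟩

omit hf in
theorem inS_conj {x g : G} (hx : InS C x) (hg : g ∈ (C.T : Subgroup G)) : InS C (g * x * g⁻¹) :=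
  ⟨(C.T : Subgroup G).mul_mem ((C.T : Subgroup G).mul_mem hg hx.1) ((C.T : Subgroup G).inv_mem hg),
    C.conjA hx.2 g⟩

/-- The four-group inside `T`. -/
def ET : Subgroup ↥(C.T : Subgroup G) := hf.E.subgroupOf (C.T : Subgroup G)

theorem mem_ET {x : ↥(C.T : Subgroup G)} : x ∈ hf.ET ↔ (x : G) ∈ hf.E := Iff.rfl

theorem ET_normal : hf.ET.Normal :=
  ⟨fun _ hk g => fourSub_conj hf.second hf.norm g.2 hk⟩

/-- The hypotheses of `TwoFix` for `T` modulo the four-group. -/
theorem twoFix [hn : hf.ET.Normal] :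
    TwoFix ((C.A.subgroupOf (C.T : Subgroup G)).map (QuotientGroup.mk' hf.ET))
      (QuotientGroup.mk' hf.ET ⟨C.t, C.htT⟩) (QuotientGroup.mk' hf.ET ⟨C.r, C.hrT⟩) := by
  haveI := C.normal
  have hN : ∀ x : ↥(C.T : Subgroup G), QuotientGroup.mk' hf.ET x ∈
      (C.A.subgroupOf (C.T : Subgroup G)).map (QuotientGroup.mk' hf.ET) ↔ (x : G) ∈ C.A := by
    intro x
    refine ⟨?_, fun h => ⟨x, h, rfl⟩⟩
    rintro ⟨y, hy, hxy⟩
    rw [QuotientGroup.mk'_apply, QuotientGroup.mk'_apply, QuotientGroup.eq, hf.mem_ET] at hxy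
    have := mul_mem (show (y : G) ∈ C.A from hy) (hf.inS_E hxy).2
    simpa using this
  refine
    { pgroup := C.T.2.to_quotient _
      normal := Subgroup.Normal.map (C.normal.subgroupOf _) _ (QuotientGroup.mk'_surjective _)
      htN := fun h => hf.t_notMem ((hN _).1 h)
      gen := ?_
      ht2 := ?_
      hrN := (hN _).2 C.hrA
      hr1 := fun h => hf.r_notMem (hf.mem_ET.1 ((QuotientGroup.eq_one_iff _).1 h))
      hr2 := ?_
      htr := ?_
      fix := ?_ }
  · intro q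
    obtain ⟨x, rfl⟩ := QuotientGroup.mk'_surjective _ q
    rcases C.split x.2 with h | ⟨-, h⟩
    · exact Or.inl ((hN _).2 h)
    · exact Or.inr (by rw [← map_mul]; exact (hN _).2 h)
  · rw [← map_mul, show (⟨C.t, C.htT⟩ : ↥(C.T : Subgroup G)) * ⟨C.t, C.htT⟩ = 1 from Subtype.ext C.ht2,
      map_one]
  · rw [← map_mul]
    exact (QuotientGroup.eq_one_iff _).2 hf.z_mem
  · exact Commute.map (show Commute (⟨C.t, C.htT⟩ : ↥(C.T : Subgroup G)) ⟨C.r, C.hrT⟩ from
      Subtype.ext C.htr) _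
  · intro q hq hc
    obtain ⟨x, rfl⟩ := QuotientGroup.mk'_surjective _ q
    have h1 : (x : G)⁻¹ * (C.t * x * C.t⁻¹) ∈ hf.E := by
      have h2 := hc.eq
      rw [← map_mul, ← map_mul, eq_comm, QuotientGroup.mk'_apply, QuotientGroup.mk'_apply,
        QuotientGroup.eq, hf.mem_ET] at h2
      have h3 : ((x : G) * C.t)⁻¹ * (C.t * x) ∈ hf.E := h2
      have h4 := fourSub_conj hf.second hf.norm C.htT h3
      rwa [show C.t * (((x : G) * C.t)⁻¹ * (C.t * x)) * C.t⁻¹ = (x : G)⁻¹ * (C.t * x * C.t⁻¹) by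
        group] at h4
    rcases fixed_mod hf.second hf.norm x.2 ((hN x).1 hq) h1 with h | h
    · exact Or.inl ((QuotientGroup.eq_one_iff _).2 h)
    · exact Or.inr (((QuotientGroup.eq (s := hf.ET)).2 h).symm)

/-- `r` is central modulo the four-group. -/
theorem r_central {x : G} (hx : x ∈ (C.T : Subgroup G)) : C.r⁻¹ * (x * C.r * x⁻¹) ∈ hf.E := by
  haveI := hf.ET_normal
  have h := mem_center_iff.1 hf.twoFix.central (QuotientGroup.mk' hf.ET ⟨x, hx⟩)
  rw [← map_mul, ← map_mul, eq_comm, QuotientGroup.mk'_apply, QuotientGroup.mk'_apply,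
    QuotientGroup.eq, hf.mem_ET] at h
  have h3 : (C.r * x)⁻¹ * (x * C.r) ∈ hf.E := h
  have h4 := fourSub_conj hf.second hf.norm hx h3
  rwa [show x * ((C.r * x)⁻¹ * (x * C.r)) * x⁻¹ = C.r⁻¹ * (x * C.r * x⁻¹) by group] at h4

/-- A further involution of `S/E` generates it together with `t`. -/
theorem gen_two {y : G} (hy : InS C y) (hy2 : y * y ∈ hf.E) (hyE : y ∉ hf.E)
    (hyr : C.r⁻¹ * y ∉ hf.E) {x : G} (hx : InS C x) :
    ∃ i : ℤ, ((C.t * y) ^ (2 * i))⁻¹ * x ∈ hf.E ∨ ((C.t * y) ^ (2 * i) * y)⁻¹ * x ∈ hf.E := by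
  haveI := hf.ET_normal
  set π := QuotientGroup.mk' hf.ET with hπ
  let yT : ↥(C.T : Subgroup G) := ⟨y, hy.1⟩
  let tT : ↥(C.T : Subgroup G) := ⟨C.t, C.htT⟩
  obtain ⟨i, hi | hi⟩ := hf.twoFix.gen_two (y := π yT) ⟨yT, hy.2, rfl⟩
    (by rw [← map_mul]; exact (QuotientGroup.eq_one_iff _).2 hy2)
    (fun h => hyE (hf.mem_ET.1 ((QuotientGroup.eq_one_iff _).1 h)))
    (fun h => hyr (hf.mem_ET.1 ((QuotientGroup.eq (s := hf.ET)).1 h.symm)))
    (π ⟨x, hx.1⟩) ⟨⟨x, hx.1⟩, hx.2, rfl⟩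
  · refine ⟨i, Or.inl ?_⟩
    have h' : π ((tT * yT) ^ (2 * i)) = π ⟨x, hx.1⟩ := by rw [map_zpow, map_mul]; exact hi.symm
    have h2 := (QuotientGroup.eq (s := hf.ET)).1 h'
    rw [hf.mem_ET] at h2
    simpa [tT, yT] using h2
  · refine ⟨i, Or.inr ?_⟩
    have h' : π ((tT * yT) ^ (2 * i) * yT) = π ⟨x, hx.1⟩ := by
      rw [map_mul, map_zpow, map_mul]; exact hi.symm
    have h2 := (QuotientGroup.eq (s := hf.ET)).1 h'
    rw [hf.mem_ET] at h2
    simpa [tT, yT] using h2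

/-- `S/E` has a cyclic subgroup of index at most two. -/
theorem exists_cyclic : ∃ i y : G, InS C i ∧ InS C y ∧ ∀ x, InS C x →
    ∃ k : ℤ, (i ^ k)⁻¹ * x ∈ hf.E ∨ (y * i ^ k)⁻¹ * x ∈ hf.E := by
  haveI := hf.ET_normal
  obtain ⟨_, ⟨i, hiA, rfl⟩, _, ⟨y, hyA, rfl⟩, h⟩ := hf.twoFix.exists_cyclic
  refine ⟨i, y, ⟨i.2, hiA⟩, ⟨y.2, hyA⟩, fun x hx => ?_⟩
  rcases h (QuotientGroup.mk' hf.ET ⟨x, hx.1⟩) ⟨⟨x, hx.1⟩, hx.2, rfl⟩ with ⟨k, hk⟩ | ⟨k, hk⟩
  · refine ⟨k, Or.inl ?_⟩
    rw [← map_zpow, eq_comm, QuotientGroup.mk'_apply, QuotientGroup.mk'_apply, QuotientGroup.eq,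
      hf.mem_ET] at hk
    simpa using hk
  · refine ⟨k, Or.inr ?_⟩
    rw [← map_zpow, ← map_mul, eq_comm, QuotientGroup.mk'_apply, QuotientGroup.mk'_apply,
      QuotientGroup.eq, hf.mem_ET] at hk
    simpa using hk

omit hf in
/-- Transfer: an involution of `Z(S)` fixed by `N_A(S)` lies in every subgroup containing the
commutators of `S`. -/
theorem trc (C : Ctx4 G) {x : G} (hx : InS C x) (hx2 : x * x = 1)
    (hc : ∀ s, InS C s → Commute s x)
    (hfix : ∀ n ∈ C.A, (∀ s, InS C s → InS C (n * s * n⁻¹)) → n * x * n⁻¹ = x)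
    (K : Subgroup G) (hK : ∀ a b, InS C a → InS C b → a * b * a⁻¹ * b⁻¹ ∈ K) : x ∈ K := by
  obtain ⟨P, hP⟩ := C.exists_sylow
  let xA : ↥C.A := ⟨x, hx.2⟩
  have h := S1906.mem_commutator_of_isolated C.index_ne_two P xA ((hP xA).2 hx.1)
    (by rw [pow_two]; exact Subtype.ext hx2)
    (fun s hs => Subtype.ext (hc s ⟨(hP s).1 hs, s.2⟩))
    (fun g hg => Subtype.ext (by
      have h := hfix (g : G)⁻¹ (inv_mem g.2) fun s hs => by
        have := (mem_normalizer_iff.1 (inv_mem hg) ⟨s, hs.2⟩).1 ((hP ⟨s, hs.2⟩).2 hs.1)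
        exact ⟨(hP _).1 this, C.conjA hs.2 _⟩
      simpa using h))
  have hle : commutator ↥(P : Subgroup ↥C.A) ≤
      K.comap (C.A.subtype.comp (P : Subgroup ↥C.A).subtype) := by
    rw [commutator_def, Subgroup.commutator_le]
    intro a _ b _
    simp only [mem_comap, MonoidHom.comp_apply, coe_subtype, commutatorElement_def, coe_mul, coe_inv]
    exact hK _ _ ⟨(hP _).1 a.2, a.1.2⟩ ⟨(hP _).1 b.2, b.1.2⟩
  exact hle h

/-- The involutions of `Z(S)` lie in the four-group. -/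
theorem centralInv {x : G} (hx : InS C x) (hx2 : x * x = 1) (hc : ∀ s, InS C s → Commute s x)
    (hec : Commute x e) : x ∈ hf.E := by
  have hti : C.t⁻¹ = C.t := inv_eq_of_mul_eq_one_right C.ht2
  by_contra hxE
  have hx' : IsSecond4 C x := ⟨hx.1, hx.2, fun h => hxE (h ▸ one_mem _), hx2,
    fun h => hxE (h ▸ hf.z_mem)⟩
  have hcomm : ∀ w ∈ (C.T : Subgroup G), Commute (w * x * w⁻¹) x := fun w hw =>
    hc _ (inS_conj hx hw)
  rcases norm_of_commute hx' hcomm C.t C.htT with h | h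
  · exact hx'.not_fixed (conj_eq_iff_commute.1 h)
  have hfixed : Commute C.t (x * e) := conj_eq_iff_commute.1 <|
    calc C.t * (x * e) * C.t⁻¹ = (C.t * x * C.t⁻¹) * (C.t * e * C.t⁻¹) := by group
      _ = x * e := by
        rw [h, hf.conj_t, (C.z_comm e hf.second.memT).symm.mul_mul_mul_comm, C.z_sq, mul_one]
  rcases C.fixed_inv (x := x * e) (mul_mem hx.1 hf.second.memT) (mul_mem hx.2 hf.second.memA)
    (by rw [hec.symm.mul_mul_mul_comm, hx2, hf.second.sq, mul_one]) hfixed with h' | h'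
  · exact hxE (by rw [mul_eq_one_iff_eq_inv.1 h']; exact inv_mem hf.e_mem)
  · exact hxE (by rw [eq_mul_inv_of_mul_eq h']; exact mul_mem hf.z_mem (inv_mem hf.e_mem))

/-- If `S` centralises `e`, its commutators lie in a cyclic subgroup invariant under its normaliser. -/
theorem exists_commSubgroup (hcen : ∀ x, InS C x → Commute x e) :
    ∃ κ : G, InS C κ ∧ (∀ a b, InS C a → InS C b → a * b * a⁻¹ * b⁻¹ ∈ zpowers κ) ∧
      ∀ g : G, (∀ s, InS C s → InS C (g * s * g⁻¹)) → g * κ * g⁻¹ ∈ zpowers κ := by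
  obtain ⟨i, y, hi, hy, hcov⟩ := hf.exists_cyclic
  have hcE : ∀ {η x : G}, η ∈ hf.E → InS C x → Commute x η := fun hη hx =>
    hf.comm_E hη hx.1 (hcen _ hx)
  set κ := y * i * y⁻¹ * i⁻¹ with hκ
  have hκS : InS C κ := mul_mem (mul_mem (mul_mem hy hi) (inv_mem hy)) (inv_mem hi)
  have hyi : Commute (y * i * y⁻¹) i := by
    obtain ⟨k, hk | hk⟩ := hcov (y * i * y⁻¹) (mul_mem (mul_mem hy hi) (inv_mem hy))
    · rw [show y * i * y⁻¹ = i ^ k * ((i ^ k)⁻¹ * (y * i * y⁻¹)) by group]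
      exact ((Commute.refl i).zpow_left k).mul_left (hcE hk hi).symm
    · obtain ⟨η, hη, h⟩ : ∃ η ∈ hf.E, y * i * y⁻¹ = y * i ^ k * η := ⟨_, hk, by group⟩
      have hy' : y = η⁻¹ * (i ^ k)⁻¹ * i := by
        have h' : i * y⁻¹ = i ^ k * η := mul_left_cancel (a := y) (by rw [← mul_assoc, h, mul_assoc])
        rw [← inv_inj, eq_inv_mul_of_mul_eq h']
        group
      have hyc : Commute y i := by
        rw [hy']
        exact (((hcE hη hi).symm.inv_left).mul_left ((Commute.refl i).zpow_left k).inv_left).mul_left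
          (Commute.refl i)
      rw [conj_eq_iff_commute.2 hyc]
  have hκi : Commute κ i := hyi.mul_left (Commute.refl i).inv_left
  have hM : ∀ (k : ℤ) (η : G), η ∈ hf.E → y * (i ^ k * η) * y⁻¹ = κ ^ k * (i ^ k * η) := by
    intro k η hη
    rw [show y * (i ^ k * η) * y⁻¹ = (y * i ^ k * y⁻¹) * (y * η * y⁻¹) by group, ← conj_zpow,
      conj_eq_iff_commute.2 (hcE hη hy), show y * i * y⁻¹ = κ * i by rw [hκ]; group, hκi.mul_zpow,
      mul_assoc]
  have hmK : ∀ (k : ℤ) (η : G), η ∈ hf.E → y * (i ^ k * η) * y⁻¹ * (i ^ k * η)⁻¹ ∈ zpowers κ := by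
    intro k η hη
    rw [hM k η hη, mul_inv_cancel_right]
    exact zpow_mem (mem_zpowers κ) k
  have hMκ : ∀ (k : ℤ) (η : G), η ∈ hf.E → Commute (i ^ k * η) κ := fun k η hη =>
    (hκi.symm.zpow_left k).mul_left (hcE hη hκS).symm
  have hyκ : y * κ * y⁻¹ ∈ zpowers κ := by
    obtain ⟨k, hk | hk⟩ := hcov κ hκS
    · obtain ⟨η, hη, h⟩ : ∃ η ∈ hf.E, κ = i ^ k * η := ⟨_, hk, by group⟩
      rw [h, hM k η hη, ← h]
      exact mul_mem (zpow_mem (mem_zpowers κ) k) (mem_zpowers κ)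
    · obtain ⟨η, hη, h⟩ : ∃ η ∈ hf.E, κ = y * i ^ k * η := ⟨_, hk, by group⟩
      have hyc : Commute y i := by
        rw [show y = κ * η⁻¹ * (i ^ k)⁻¹ by rw [h]; group]
        exact (hκi.mul_left (hcE hη hi).symm.inv_left).mul_left ((Commute.refl i).zpow_left k).inv_left
      have hκ1 : κ = 1 := by rw [hκ, conj_eq_iff_commute.2 hyc, mul_inv_cancel]
      rw [hκ1, mul_one, mul_inv_cancel]
      exact one_mem _
  have hconj : ∀ {u : G}, u ∈ zpowers κ → y * u * y⁻¹ ∈ zpowers κ := by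
    rintro u ⟨k, rfl⟩
    show y * κ ^ k * y⁻¹ ∈ _
    rw [← conj_zpow]
    exact zpow_mem hyκ k
  have key : ∀ a b, InS C a → InS C b → a * b * a⁻¹ * b⁻¹ ∈ zpowers κ := by
    intro a b ha hb
    have hmm : ∀ (k l : ℤ) (η θ : G), η ∈ hf.E → θ ∈ hf.E → Commute (i ^ k * η) (i ^ l * θ) :=
      fun k l η θ hη hθ => Commute.mul_right
        (((Commute.refl i).zpow_zpow k l).mul_left ((hcE hη hi).zpow_left l).symm)
        (hcE hθ (mul_mem (zpow_mem hi k) (hf.inS_E hη)))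
    have hform : ∀ x, InS C x → ∃ (k : ℤ), ∃ η ∈ hf.E, x = i ^ k * η ∨ x = y * (i ^ k * η) := by
      intro x hx
      obtain ⟨k, hk | hk⟩ := hcov x hx
      · exact ⟨k, _, hk, Or.inl (by group)⟩
      · exact ⟨k, _, hk, Or.inr (by group)⟩
    obtain ⟨k, η, hη, rfl | rfl⟩ := hform a ha <;> obtain ⟨l, θ, hθ, rfl | rfl⟩ := hform b hb
    · rw [conj_eq_iff_commute.2 (hmm k l η θ hη hθ), mul_inv_cancel]
      exact one_mem _
    · set m := i ^ k * η
      set m' := i ^ l * θ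
      rw [show m * (y * m') * m⁻¹ * (y * m')⁻¹ = (y * (m' * m * m'⁻¹) * y⁻¹ * m⁻¹)⁻¹ by group,
        conj_eq_iff_commute.2 (hmm l k θ η hθ hη)]
      exact inv_mem (hmK k η hη)
    · set m := i ^ k * η
      set m' := i ^ l * θ
      rw [show y * m * m' * (y * m)⁻¹ * m'⁻¹ = y * (m * m' * m⁻¹) * y⁻¹ * m'⁻¹ by group,
        conj_eq_iff_commute.2 (hmm k l η θ hη hθ)]
      exact hmK l θ hθ
    · set m := i ^ k * η with hm
      set m' := i ^ l * θ with hm'
      have hu : m' * m⁻¹ = i ^ (l - k) * (θ * η⁻¹) := by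
        rw [hm, hm', zpow_sub, mul_inv_rev, mul_assoc, ← mul_assoc θ,
          ((hcE (mul_mem hθ (inv_mem hη)) hi).zpow_left k).inv_left.eq.symm, ← mul_assoc]
      have hd := hmK (l - k) _ (mul_mem hθ (inv_mem hη))
      rw [← hu] at hd
      obtain ⟨j, hj⟩ := hd
      have hmκ : Commute m (κ ^ j) := (hMκ k η hη).zpow_right j
      rw [show y * m * (y * m') * (y * m)⁻¹ * (y * m')⁻¹
          = y * (m * (y * (m' * m⁻¹) * y⁻¹ * (m' * m⁻¹)⁻¹) * m⁻¹ * (m * (m' * m⁻¹) * m'⁻¹)) * y⁻¹ by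
            group, show y * (m' * m⁻¹) * y⁻¹ * (m' * m⁻¹)⁻¹ = κ ^ j from hj.symm,
        conj_eq_iff_commute.2 hmκ, show m * (m' * m⁻¹) * m'⁻¹ = 1 by
          rw [← mul_assoc, conj_eq_iff_commute.2 (hmm k l η θ hη hθ), mul_inv_cancel], mul_one]
      exact hconj (zpow_mem (mem_zpowers κ) j)
  refine ⟨κ, hκS, key, fun g hg => ?_⟩
  have := key (g * y * g⁻¹) (g * i * g⁻¹) (hg y hy) (hg i hi)
  rwa [show g * y * g⁻¹ * (g * i * g⁻¹) * (g * y * g⁻¹)⁻¹ * (g * i * g⁻¹)⁻¹ = g * κ * g⁻¹ by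
    rw [hκ]; group] at this

/-- `S` abelian with `z` moved by its normaliser: `S ≅ C₄ × C₄`, against Brauer's theorem. -/
theorem false_of_moved (hab : ∀ a b, InS C a → InS C b → Commute a b) {y : G} (hy : InS C y)
    (hy2 : y * y = e ∨ y * y = e * C.z) : False := by
  haveI := Fact.mk Nat.prime_two
  have hti : C.t⁻¹ = C.t := inv_eq_of_mul_eq_one_right C.ht2
  have hyE : y * y ∈ hf.E := hy2.elim (fun h => h ▸ hf.e_mem) fun h => h ▸ hf.ez_mem
  have hyne : y * y ≠ 1 ∧ y * y ≠ C.z := by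
    rcases hy2 with h | h <;> rw [h]
    · exact ⟨hf.second.ne, hf.second.ne_z⟩
    · refine ⟨fun h' => hf.second.ne_z ?_, fun h' => hf.second.ne ?_⟩
      · rw [mul_eq_one_iff_eq_inv.1 h', inv_eq_of_mul_eq_one_right C.z_sq]
      · exact mul_right_cancel (h'.trans (one_mul C.z).symm)
  have htS : ∀ {x : G}, InS C x → InS C (C.t * x * C.t⁻¹) := fun hx => inS_conj hx C.htT
  have hxx : ∀ {x : G}, InS C x →
      x * (C.t * x * C.t⁻¹) = 1 ∨ x * (C.t * x * C.t⁻¹) = C.r ∨ x * (C.t * x * C.t⁻¹) = C.z ∨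
        x * (C.t * x * C.t⁻¹) = C.r * C.z := by
    intro x hx
    refine C.fixed (mul_mem hx (htS hx)).1 (mul_mem hx (htS hx)).2 (conj_eq_iff_commute.1 ?_)
    rw [show C.t * (x * (C.t * x * C.t⁻¹)) * C.t⁻¹
      = (C.t * x * C.t⁻¹) * ((C.t * C.t) * x * (C.t * C.t)⁻¹) by group, C.ht2, one_mul, inv_one, mul_one]
    exact (hab _ _ (htS hx) hx).eq
  have hnot : ∀ {x : G}, InS C x → x * x ∉ hf.E → ¬ (x ∈ hf.E ∨ C.r⁻¹ * x ∈ hf.E) := by
    intro x _ hx2 h
    rcases hf.sq_cases h with h' | h'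
    · exact hx2 (h' ▸ one_mem _)
    · exact hx2 (h' ▸ hf.z_mem)
  have hexp : ∀ x, InS C x → x * x ∈ hf.E := by
    intro x₀ hx₀
    by_contra hx₀2
    classical
    obtain ⟨n, hn⟩ := C.T.2 ⟨x₀, hx₀.1⟩
    have hn' : x₀ ^ 2 ^ n = 1 := by simpa using congrArg Subtype.val hn
    have hex : ∃ m, x₀ ^ 2 ^ m ∈ hf.E := ⟨n, hn' ▸ one_mem _⟩
    have hspec := Nat.find_spec hex
    obtain ⟨m, hm⟩ : ∃ m, Nat.find hex = m + 2 := by
      refine ⟨Nat.find hex - 2, ?_⟩
      have h0 : Nat.find hex ≠ 0 := fun h0 => hx₀2 (by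
        rw [h0, pow_zero, pow_one] at hspec; exact mul_mem hspec hspec)
      have h1 : Nat.find hex ≠ 1 := fun h1 => hx₀2 (by
        rw [h1, pow_one, pow_two] at hspec; exact hspec)
      omega
    have hmin := Nat.find_min hex (show m + 1 < Nat.find hex by omega)
    rw [hm, pow_succ, pow_mul, pow_two] at hspec
    rw [pow_succ, pow_mul, pow_two] at hmin
    set x := x₀ ^ 2 ^ m with hx
    have hx4 : x * x * (x * x) ∈ hf.E := by
      have : x₀ ^ 2 ^ (m + 1) = x * x := by rw [pow_succ, pow_mul, pow_two]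
      rwa [this] at hspec
    have hxS : InS C x := pow_mem hx₀ _
    obtain ⟨v, hv, hvx⟩ : ∃ v, (v = 1 ∨ v = C.r ∨ v = C.z ∨ v = C.r * C.z) ∧
        C.t * x * C.t⁻¹ = x⁻¹ * v := ⟨_, hxx hxS, by group⟩
    have hvS : InS C v := by
      rw [eq_comm, inv_mul_eq_iff_eq_mul] at hvx
      exact hvx ▸ mul_mem hxS (htS hxS)
    have hv2 : v * v ∈ hf.E := by
      rcases hv with h | h | h | h <;> rw [h]
      · exact (one_mul (1 : G)).symm ▸ one_mem _
      · exact hf.z_mem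
      · rw [C.z_sq]; exact one_mem _
      · rw [(C.z_comm _ C.hrT).symm.mul_mul_mul_comm, C.z_sq, mul_one]; exact hf.z_mem
    have hx2S : InS C (x * x) := mul_mem hxS hxS
    have hrx : C.r⁻¹ * (x * x) ∈ hf.E := by
      refine (fixed_mod hf.second hf.norm hx2S.1 hx2S.2 ?_).resolve_left hmin
      rw [show C.t * (x * x) * C.t⁻¹ = (C.t * x * C.t⁻¹) * (C.t * x * C.t⁻¹) by group, hvx,
        (hab v x⁻¹ hvS (inv_mem hxS)).mul_mul_mul_comm,
        show (x * x)⁻¹ * (x⁻¹ * x⁻¹ * (v * v)) = (x * x * (x * x))⁻¹ * (v * v) by group]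
      exact mul_mem (inv_mem hx4) hv2
    have hxnot := hnot hxS hmin
    rcases hv with hv' | hv' | hv' | hv'
    rotate_left 1
    · refine hxnot (fixed_mod hf.second hf.norm hxS.1 hxS.2 ?_)
      rw [hvx, hv', show x⁻¹ * (x⁻¹ * C.r) = (x * x)⁻¹ * C.r by group]
      have := inv_mem hrx
      rwa [mul_inv_rev, inv_inv] at this
    rotate_left 1
    · refine hxnot (fixed_mod hf.second hf.norm hxS.1 hxS.2 ?_)
      rw [hvx, hv', show x⁻¹ * (x⁻¹ * (C.r * C.z)) = (x * x)⁻¹ * C.r * C.z by group]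
      have := inv_mem hrx
      rw [mul_inv_rev, inv_inv] at this
      exact mul_mem this hf.z_mem
    all_goals
      -- `t` inverts `x` modulo `E`, so fixes `x y`
      have hvE : v ∈ hf.E := by rw [hv']; first | exact one_mem _ | exact hf.z_mem
      obtain ⟨v', hv'', hvy⟩ : ∃ v', (v' = 1 ∨ v' = C.r ∨ v' = C.z ∨ v' = C.r * C.z) ∧
          C.t * y * C.t⁻¹ = y⁻¹ * v' := ⟨_, hxx hy, by group⟩
      have hyfix : ∀ {u : G}, u ∈ hf.E → v' = u → False := by
        intro u hu hu'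
        have h := fixed_mod hf.second hf.norm hy.1 hy.2 (by
          rw [hvy, hu', show y⁻¹ * (y⁻¹ * u) = (y * y)⁻¹ * u by group]
          exact mul_mem (inv_mem hyE) hu)
        exact (hf.sq_cases h).elim hyne.1 hyne.2
      have hv'r : C.r⁻¹ * v' ∈ hf.E := by
        rcases hv'' with h | h | h | h
        · exact (hyfix (one_mem _) h).elim
        · rw [h, inv_mul_cancel]; exact one_mem _
        · exact (hyfix hf.z_mem h).elim
        · rw [h, inv_mul_cancel_left]; exact hf.z_mem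
      have hxy : InS C (x * y) := mul_mem hxS hy
      have hv'S : InS C v' := by
        rw [eq_comm, inv_mul_eq_iff_eq_mul] at hvy
        exact hvy ▸ mul_mem hy (htS hy)
      have h := fixed_mod hf.second hf.norm hxy.1 hxy.2 (by
        rw [show C.t * (x * y) * C.t⁻¹ = (C.t * x * C.t⁻¹) * (C.t * y * C.t⁻¹) by group, hvx, hvy]
        haveI : IsMulCommutative ↥((C.T : Subgroup G) ⊓ C.A) :=
          ⟨⟨fun a b => Subtype.ext (hab a b a.2 b.2)⟩⟩
        have hid : (x * y)⁻¹ * (x⁻¹ * v * (y⁻¹ * v'))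
            = (x * x)⁻¹ * C.r * (C.r⁻¹ * v') * (y * y)⁻¹ * v :=
          congrArg Subtype.val (comm_ident (⟨x, hxS⟩ : ↥((C.T : Subgroup G) ⊓ C.A)) ⟨y, hy⟩ ⟨v, hvS⟩
            ⟨v', hv'S⟩ ⟨C.r, inS_r⟩)
        rw [hid]
        refine mul_mem (mul_mem (mul_mem ?_ hv'r) (inv_mem hyE)) hvE
        have := inv_mem hrx
        rwa [mul_inv_rev, inv_inv] at this)
      refine hmin ?_
      have h' : x * y * (x * y) ∈ hf.E := (hf.sq_cases h).elim (fun h => h ▸ one_mem _)
        fun h => h ▸ hf.z_mem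
      rw [(hab y x hy hxS).mul_mul_mul_comm] at h'
      have := mul_mem h' (inv_mem hyE)
      rwa [mul_inv_cancel_right] at this
  -- coordinates
  have hord : ∀ {x : G}, InS C x → x ^ 4 = 1 := fun {x} hx => by
    rw [show (4 : ℕ) = 2 + 2 from rfl, pow_add, pow_two, hf.sq_E (hexp x hx)]
  let W : Subgroup G := zpowers C.r ⊔ zpowers y
  have hrW : C.r ∈ W := mem_sup_left (mem_zpowers _)
  have hyW : y ∈ W := mem_sup_right (mem_zpowers _)
  have hzW : C.z ∈ W := mul_mem hrW hrW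
  have heW : e ∈ W := by
    rcases hy2 with h | h
    · exact h ▸ mul_mem hyW hyW
    · have := mul_mem (mul_mem hyW hyW) hzW
      rwa [h, mul_assoc, C.z_sq, mul_one] at this
  have hEW : hf.E ≤ W := by
    rintro g (rfl | rfl | rfl | rfl)
    exacts [one_mem _, hzW, heW, mul_mem heW hzW]
  have hinW : ∀ x, InS C x → x ∈ W := by
    intro x hx
    have fix : ∀ u, InS C u → u ∈ W → x * x = u * u → x ∈ W := by
      intro u hu huW he
      have h2 : x * u⁻¹ * (x * u⁻¹) = 1 := by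
        rw [(hab u⁻¹ x (inv_mem hu) hx).mul_mul_mul_comm, he]; group
      have hxu : InS C (x * u⁻¹) := mul_mem hx (inv_mem hu)
      have := hEW (hf.centralInv hxu h2 (fun s hs => hab s _ hs hxu)
        (hab _ _ hxu ⟨hf.second.memT, hf.second.memA⟩))
      simpa using mul_mem this huW
    have hyr2 : C.r * y * (C.r * y) = C.z * (y * y) :=
      (hab y C.r hy inS_r).mul_mul_mul_comm _ _
    rcases (mem_fourSub hf.second).1 (hexp x hx) with h | h | h | h
    · exact fix 1 (one_mem _) (one_mem _) (by rw [h, one_mul])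
    · exact fix C.r inS_r hrW h
    · rcases hy2 with h' | h'
      · exact fix y hy hyW (h.trans h'.symm)
      · refine fix (C.r * y) (mul_mem inS_r hy) (mul_mem hrW hyW) ?_
        rw [h, hyr2, h', (C.z_comm e hf.second.memT).symm.left_comm, C.z_sq, mul_one]
    · rcases hy2 with h' | h'
      · refine fix (C.r * y) (mul_mem inS_r hy) (mul_mem hrW hyW) ?_
        rw [h, hyr2, h', (C.z_comm e hf.second.memT).eq]
      · exact fix y hy hyW (h.trans h'.symm)
  obtain ⟨P, hP⟩ := C.exists_sylow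
  have hPS : ∀ x : ↥C.A, x ∈ (P : Subgroup ↥C.A) ↔ InS C (x : G) :=
    fun x => ⟨fun h => ⟨(hP x).1 h, x.2⟩, fun h => (hP x).2 h.1⟩
  let a : ↥(P : Subgroup ↥C.A) := ⟨⟨C.r, C.hrA⟩, (hPS _).2 inS_r⟩
  let b : ↥(P : Subgroup ↥C.A) := ⟨⟨y, hy.2⟩, (hPS _).2 hy⟩
  have hPc : ∀ u v : ↥(P : Subgroup ↥C.A), Commute u v := fun u v =>
    Subtype.ext (Subtype.ext (hab _ _ ((hPS _).1 u.2) ((hPS _).1 v.2)).eq)
  have hP4 : ∀ u : ↥(P : Subgroup ↥C.A), u ^ 4 = 1 := fun u =>
    Subtype.ext (Subtype.ext (hord ((hPS _).1 u.2)))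
  have hmod : ∀ (u : ↥(P : Subgroup ↥C.A)) (i j : ZMod (2 ^ 2)),
      u ^ (i + j).val = u ^ i.val * u ^ j.val := fun u i j => by
    rw [← pow_add, ZMod.val_add]
    exact (pow_eq_pow_mod (i.val + j.val) (hP4 u)).symm
  let f : Multiplicative (ZMod (2 ^ 2) × ZMod (2 ^ 2)) →* ↥(P : Subgroup ↥C.A) :=
    { toFun := fun p => a ^ p.toAdd.1.val * b ^ p.toAdd.2.val
      map_one' := by simp
      map_mul' := fun p q => by
        simp only [toAdd_mul, Prod.fst_add, Prod.snd_add, hmod]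
        exact ((hPc _ _).mul_mul_mul_comm _ _) }
  have hsurj : Function.Surjective f := by
    intro u
    let R : Subgroup G := f.range.map (C.A.subtype.comp (P : Subgroup ↥C.A).subtype)
    have hle : W ≤ R := by
      refine sup_le (zpowers_le.2 ⟨a, ⟨Multiplicative.ofAdd (1, 0), ?_⟩, rfl⟩)
        (zpowers_le.2 ⟨b, ⟨Multiplicative.ofAdd (0, 1), ?_⟩, rfl⟩)
      · show a ^ (1 : ZMod (2 ^ 2)).val * b ^ (0 : ZMod (2 ^ 2)).val = a
        rw [ZMod.val_zero, show (1 : ZMod (2 ^ 2)).val = 1 from rfl, pow_one, pow_zero, mul_one]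
      · show a ^ (0 : ZMod (2 ^ 2)).val * b ^ (1 : ZMod (2 ^ 2)).val = b
        rw [ZMod.val_zero, show (1 : ZMod (2 ^ 2)).val = 1 from rfl, pow_one, pow_zero, one_mul]
    obtain ⟨u', ⟨p, rfl⟩, hu⟩ := hle (hinW _ ((hPS _).1 u.2))
    exact ⟨p, Subtype.ext (Subtype.ext hu)⟩
  have hinj : Function.Injective f := by
    rw [injective_iff_map_eq_one]
    intro p hp
    have hG : C.r ^ p.toAdd.1.val * y ^ p.toAdd.2.val = 1 :=
      congrArg (fun u : ↥(P : Subgroup ↥C.A) => ((u : ↥C.A) : G)) hp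
    have hsq : C.z ^ p.toAdd.1.val * (y * y) ^ p.toAdd.2.val = 1 := by
      have h := congrArg (fun g => g * g) hG
      simp only [mul_one] at h
      rwa [((hab y C.r hy inS_r).pow_pow _ _).mul_mul_mul_comm, ← (Commute.refl C.r).mul_pow,
        ← (Commute.refl y).mul_pow] at h
    have hy1 : p.toAdd.2.val % 2 = 0 := by
      by_contra hodd
      have e1 : (y * y) ^ p.toAdd.2.val = y * y := by
        rw [← Nat.div_add_mod p.toAdd.2.val 2, pow_add, pow_mul, pow_two (y * y), hf.sq_E hyE,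
          one_pow, one_mul, show p.toAdd.2.val % 2 = 1 by omega, pow_one]
      rw [e1] at hsq
      rcases Nat.mod_two_eq_zero_or_one p.toAdd.1.val with h | h
      · rw [← Nat.div_add_mod p.toAdd.1.val 2, h, add_zero, pow_mul, pow_two, C.z_sq, one_pow,
          one_mul] at hsq
        exact hyne.1 hsq
      · rw [← Nat.div_add_mod p.toAdd.1.val 2, h, pow_add, pow_mul, pow_two, C.z_sq, one_pow,
          one_mul, pow_one] at hsq
        exact hyne.2 (mul_left_cancel (hsq.trans C.z_sq.symm))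
    obtain ⟨j, hj⟩ : ∃ j, p.toAdd.2.val = 2 * j := ⟨p.toAdd.2.val / 2, by omega⟩
    have hj2 : j < 2 := by have := ZMod.val_lt p.toAdd.2; omega
    have hi4 : p.toAdd.1.val < 4 := ZMod.val_lt p.toAdd.1
    have hp2 : j = 0 ∧ p.toAdd.1.val = 0 := by
      rw [hj, pow_mul, pow_two y] at hG
      interval_cases j
      · rw [pow_zero, mul_one] at hG
        have := orderOf_dvd_of_pow_eq_one hG
        rw [C.hr4] at this
        exact ⟨rfl, by omega⟩
      · exfalso
        rw [pow_one] at hG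
        have hyr : C.r ^ p.toAdd.1.val = y * y := by
          rw [mul_eq_one_iff_eq_inv.1 hG, inv_eq_of_mul_eq_one_right (hf.sq_E hyE)]
        rcases C.fixed (pow_mem C.hrT p.toAdd.1.val) (pow_mem C.hrA _) (C.htr.pow_right _) with
          h | h | h | h <;> rw [hyr] at h
        · exact hyne.1 h
        · exact hf.r_notMem (h ▸ hyE)
        · exact hyne.2 h
        · exact hf.r_notMem (by
            have := mul_mem hyE hf.z_mem
            rwa [h, mul_assoc, C.z_sq, mul_one] at this)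
    refine Multiplicative.toAdd.injective (Prod.ext ?_ ?_)
    · exact (ZMod.val_eq_zero _).1 hp2.2
    · exact (ZMod.val_eq_zero _).1 (by rw [hj, hp2.1])
  obtain ⟨hPn, -, hidx⟩ := S0949.result P 2 le_rfl (MulEquiv.ofBijective f ⟨hinj, hsurj⟩).symm
    (fun N hN hodd => by
      haveI := hN
      exact le_bot_iff.1 ((Cores.le_oddCore hodd).trans C.core.le))
  haveI := hPn
  have htop : (P : Subgroup ↥C.A) = ⊤ := by
    rcases hidx with h | h
    · exact index_eq_one.1 h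
    · haveI : Fact (Nat.Prime 3) := ⟨Nat.prime_three⟩
      haveI : IsMulCommutative (↥C.A ⧸ (P : Subgroup ↥C.A)) :=
        (isCyclic_of_prime_card (p := 3) h).isMulCommutative
      have hle : commutator ↥C.A ≤ (P : Subgroup ↥C.A) :=
        Subgroup.Normal.quotient_commutative_iff_commutator_le.1 ‹_›
      exact top_le_iff.1 (C.commutator_eq_top ▸ hle)
  have hle : ⁅C.A, C.A⁆ ≤ (⊥ : Subgroup G) := by
    rw [Subgroup.commutator_le]
    intro u hu v hv
    have hu' : InS C u := (hPS ⟨u, hu⟩).1 (htop ▸ mem_top _)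
    have hv' : InS C v := (hPS ⟨v, hv⟩).1 (htop ▸ mem_top _)
    rw [mem_bot, commutatorElement_eq_one_iff_mul_comm]
    exact (hab u v hu' hv').eq
  rw [C.perf] at hle
  exact C.z_ne (mem_bot.1 (hle C.z_memA))

omit hf in
/-- A 2-element of `A` normalising `S` lies in `S`. -/
theorem mem_of_normalizes (C : Ctx4 G) {v : G} (hv : v ∈ C.A) {n : ℕ} (hv2 : v ^ 2 ^ n = 1)
    (hn : ∀ s, InS C s → InS C (v * s * v⁻¹)) : InS C v := by
  haveI := Fact.mk Nat.prime_two
  obtain ⟨P, hP⟩ := C.exists_sylow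
  let vA : ↥C.A := ⟨v, hv⟩
  have hvn : vA ∈ normalizer ((P : Subgroup ↥C.A) : Set ↥C.A) := by
    refine Subgroup.mem_normalizer_iff.2 fun s => ⟨fun hs => (hP _).2 (hn _ ⟨(hP s).1 hs, s.2⟩).1, fun hs => ?_⟩
    have hfin : Set.MapsTo (fun s : ↥C.A => vA * s * vA⁻¹) (P : Subgroup ↥C.A) (P : Subgroup ↥C.A) :=
      fun s hs => (hP _).2 (hn _ ⟨(hP s).1 hs, s.2⟩).1
    obtain ⟨s', hs', he⟩ := ((Set.toFinite _).surjOn_iff_bijOn_of_mapsTo hfin).1
      ((Set.toFinite _).injOn_iff_bijOn_of_mapsTo hfin |>.1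
        (fun a _ b _ h => mul_left_cancel (mul_right_cancel h))).surjOn |>.surjOn hs
    rw [← mul_left_cancel (mul_right_cancel he)]
    exact hs'
  have hsup : IsPGroup 2 ↥(zpowers vA ⊔ (P : Subgroup ↥C.A)) :=
    IsPGroup.to_sup_of_normal_right' (isPGroup_two_zpowers (n := n) (Subtype.ext hv2)) P.2
      (zpowers_le.2 hvn)
  have := P.is_maximal' hsup le_sup_right
  exact ⟨(hP vA).1 (this ▸ mem_sup_left (mem_zpowers vA)), hv⟩

/-- The four-group case with `S` centralising `e` is impossible. -/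
theorem false_of_central (hcen : ∀ x, InS C x → Commute x e) : False := by
  obtain ⟨κ, hκ, hK, hKn⟩ := hf.exists_commSubgroup hcen
  have hzc : ∀ s, InS C s → Commute s C.z := fun s hs => C.z_comm s hs.1
  have heS : InS C e := ⟨hf.second.memT, hf.second.memA⟩
  have uniq : ∀ {u v : G}, u ∈ zpowers κ → v ∈ zpowers κ → u * u = 1 → v * v = 1 → u ≠ 1 → v ≠ 1 →
      u = v := fun hu hv hu2 hv2 hu1 hv1 =>
    PGroups.eq_of_sq_eq_one (H := zpowers κ) inferInstance hu hv ((pow_two _).trans hu2)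
      ((pow_two _).trans hv2) hu1 hv1
  by_cases hκ1 : κ = 1
  · have hab : ∀ a b, InS C a → InS C b → Commute a b := fun a b ha hb => by
      have h := hK a b ha hb
      rw [hκ1, zpowers_one_eq_bot, mem_bot, mul_inv_eq_one] at h
      exact conj_eq_iff_commute.1 h
    by_cases hfix : ∀ n ∈ C.A, (∀ s, InS C s → InS C (n * s * n⁻¹)) → n * C.z * n⁻¹ = C.z
    · have := trc C ⟨C.z_memT, C.z_memA⟩ C.z_sq hzc hfix ⊥ fun a b ha hb => by
        rw [mem_bot, conj_eq_iff_commute.2 (hab a b ha hb), mul_inv_cancel]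
      exact C.z_ne (mem_bot.1 this)
    push Not at hfix
    obtain ⟨n, hnA, hn, hnz⟩ := hfix
    have hw : InS C (n * C.z * n⁻¹) := hn _ ⟨C.z_memT, C.z_memA⟩
    have hw2 : n * C.z * n⁻¹ * (n * C.z * n⁻¹) = 1 := by
      rw [show n * C.z * n⁻¹ * (n * C.z * n⁻¹) = n * (C.z * C.z) * n⁻¹ by group, C.z_sq, mul_one,
        mul_inv_cancel]
    have hwE := hf.centralInv hw hw2 (fun s hs => hab s _ hs hw) (hab _ _ hw heS)
    refine hf.false_of_moved hab (y := n * C.r * n⁻¹) (hn _ inS_r) ?_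
    rw [show n * C.r * n⁻¹ * (n * C.r * n⁻¹) = n * C.z * n⁻¹ by simp only [Ctx4.z]; group]
    rcases (mem_fourSub hf.second).1 hwE with h | h | h | h
    · exact absurd (by simpa using h) C.z_ne
    · exact absurd h hnz
    · exact Or.inl h
    · exact Or.inr h
  -- `z` is the involution of `⟨κ⟩`
  obtain ⟨n, hn⟩ := C.T.2 ⟨κ, hκ.1⟩
  have hn' : κ ^ 2 ^ n = 1 := by simpa using congrArg Subtype.val hn
  classical
  have hex : ∃ m, κ ^ 2 ^ m = 1 := ⟨n, hn'⟩
  obtain ⟨m, hm⟩ : ∃ m, Nat.find hex = m + 1 := by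
    refine ⟨Nat.find hex - 1, ?_⟩
    have : Nat.find hex ≠ 0 := fun h0 => hκ1 (by
      have := Nat.find_spec hex; rwa [h0, pow_zero, pow_one] at this)
    omega
  have hv1 : κ ^ 2 ^ m ≠ 1 := Nat.find_min hex (by omega)
  have hv2 : κ ^ 2 ^ m * κ ^ 2 ^ m = 1 := by
    have := Nat.find_spec hex
    rwa [hm, pow_succ, pow_mul, pow_two] at this
  have hconj : ∀ g : G, (∀ s, InS C s → InS C (g * s * g⁻¹)) → ∀ u ∈ zpowers κ,
      g * u * g⁻¹ ∈ zpowers κ := by
    rintro g hg u ⟨j, rfl⟩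
    show g * κ ^ j * g⁻¹ ∈ _
    rw [← conj_zpow]
    exact zpow_mem (hKn g hg) j
  have hzK : C.z ∈ zpowers κ := by
    set v := κ ^ 2 ^ m with hv
    have hvK : v ∈ zpowers κ := pow_mem (mem_zpowers κ) _
    have htv : C.t * v * C.t⁻¹ = v := uniq (hconj C.t (fun s hs => inS_conj hs C.htT) v hvK) hvK
      (by rw [show C.t * v * C.t⁻¹ * (C.t * v * C.t⁻¹) = C.t * (v * v) * C.t⁻¹ by group, hv2,
        mul_one, mul_inv_cancel]) hv2 (fun h => hv1 (by simpa using h)) hv1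
    rcases C.fixed_inv (pow_mem hκ _).1 (pow_mem hκ _).2 hv2 (conj_eq_iff_commute.1 htv) with h | h
    · exact absurd h hv1
    · exact h ▸ hvK
  have hzfix : ∀ n ∈ C.A, (∀ s, InS C s → InS C (n * s * n⁻¹)) → n * C.z * n⁻¹ = C.z :=
    fun n _ hn => uniq (hconj n hn _ hzK) hzK
      (by rw [show n * C.z * n⁻¹ * (n * C.z * n⁻¹) = n * (C.z * C.z) * n⁻¹ by group, C.z_sq, mul_one,
        mul_inv_cancel]) C.z_sq (fun h => C.z_ne (by simpa using h)) C.z_ne
  have hefix : ∀ n ∈ C.A, (∀ s, InS C s → InS C (n * s * n⁻¹)) → n * e * n⁻¹ = e := by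
    intro n hnA hn
    have hz' := hzfix n hnA hn
    have hw : InS C (n * e * n⁻¹) := hn e heS
    have hw2 : n * e * n⁻¹ * (n * e * n⁻¹) = 1 := by
      rw [show n * e * n⁻¹ * (n * e * n⁻¹) = n * (e * e) * n⁻¹ by group, hf.second.sq, mul_one,
        mul_inv_cancel]
    have hcw : ∀ s, InS C s → Commute s (n * e * n⁻¹) := by
      intro s hs
      have hnormal : InS C (n⁻¹ * s * n⁻¹⁻¹) := by
        -- the inverse is a power of `n`
        have hpow : ∀ k : ℕ, InS C (n ^ k * s * (n ^ k)⁻¹) := by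
          intro k
          induction k with
          | zero => simpa using hs
          | succ k ih =>
            have := hn _ ih
            rwa [show n * (n ^ k * s * (n ^ k)⁻¹) * n⁻¹ = n ^ (k + 1) * s * (n ^ (k + 1))⁻¹ by
              rw [pow_succ']; group] at this
        have := hpow (orderOf n - 1)
        have he : n ^ (orderOf n - 1) = n⁻¹ := by
          refine eq_inv_of_mul_eq_one_left ?_
          rw [← pow_succ, Nat.sub_add_cancel (orderOf_pos n), pow_orderOf_eq_one]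
        rwa [he] at this
      have := Commute.map (hcen _ hnormal) (MulAut.conj n).toMonoidHom
      simp only [MulEquiv.coe_toMonoidHom, MulAut.conj_apply, inv_inv] at this
      rwa [show n * (n⁻¹ * s * n) * n⁻¹ = s by group] at this
    rcases (mem_fourSub hf.second).1 (hf.centralInv hw hw2 hcw (hcen _ hw)) with h | h | h | h
    · exact absurd (by simpa using h) hf.second.ne
    · exact absurd (mul_left_cancel (mul_right_cancel (h.trans hz'.symm))) hf.second.ne_z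
    · exact h
    -- `n` moves `e` to `e z`; so does its 2-part, which lies in `S`
    exfalso
    obtain ⟨a, q, hq, hord⟩ := Nat.exists_eq_two_pow_mul_odd (orderOf_pos n).ne'
    have hez : e * C.z ≠ e := fun h' => C.z_ne (mul_left_cancel (h'.trans (mul_one e).symm))
    have hpow : ∀ k : ℕ, (n ^ k * e * (n ^ k)⁻¹ = if Even k then e else e * C.z) ∧
        ∀ s, InS C s → InS C (n ^ k * s * (n ^ k)⁻¹) := by
      intro k
      induction k with
      | zero => simp
      | succ k ih =>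
        refine ⟨?_, fun s hs => ?_⟩
        · rw [show n ^ (k + 1) * e * (n ^ (k + 1))⁻¹ = n * (n ^ k * e * (n ^ k)⁻¹) * n⁻¹ by
            rw [pow_succ']; group, ih.1]
          by_cases hk : Even k
          · rw [if_pos hk, if_neg (Nat.not_even_iff_odd.2 hk.add_one), h]
          · rw [if_neg hk, if_pos (Nat.even_add_one.2 hk),
              show n * (e * C.z) * n⁻¹ = (n * e * n⁻¹) * (n * C.z * n⁻¹) by group, h, hz', mul_assoc,
              C.z_sq, mul_one]
        · have := hn _ (ih.2 s hs)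
          rwa [show n * (n ^ k * s * (n ^ k)⁻¹) * n⁻¹ = n ^ (k + 1) * s * (n ^ (k + 1))⁻¹ by
            rw [pow_succ']; group] at this
    have hvS := mem_of_normalizes C (pow_mem hnA q) (n := a)
      (by rw [← pow_mul, mul_comm, ← hord, pow_orderOf_eq_one]) (hpow q).2
    have h1 := (hpow q).1
    rw [if_neg (Nat.not_even_iff_odd.2 hq), conj_eq_iff_commute.2 (hcen _ hvS)] at h1
    exact hez h1.symm
  have heK : e ∈ zpowers κ := trc C heS hf.second.sq (fun s hs => hcen s hs) hefix _ hK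
  exact hf.second.ne_z (uniq heK hzK hf.second.sq C.z_sq hf.second.ne C.z_ne)

end IsFour

end Cfsg.Agent.H7Four
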