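import Cfsg.Agent.H7FourGroup.FourE
import Cfsg.Agent.H92.QuotOdd
import Cfsg.Agent.Fusion.Basic
import Cfsg.Agent.H24.CyclicIntersect

/-!
# The four-group case, non-central subcase

Some element of `S = T ⊓ A` moves `e`.  Then `z` is isolated, hence central in `A`; transfer of `r`
(or the Z*-theorem modulo `z`) gives a contradiction.
-/

set_option autoImplicit false

namespace Cfsg.Agent.H7Four

open Subgroup

variable {G : Type*} [Group G] [Finite G] {C : Ctx4 G} {e : G}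

namespace IsFour

variable (hf : IsFour C e) {x₀ : G}
include hf

/-- Squares centralise `e`. -/
theorem sq_commute {u : G} (hu : u ∈ (C.T : Subgroup G)) : Commute (u * u) e := by
  refine conj_eq_iff_commute.1 ?_
  rw [show u * u * e * (u * u)⁻¹ = u * (u * e * u⁻¹) * u⁻¹ by group]
  rcases hf.norm u hu with h | h <;> rw [h]
  · exact h
  · rw [show u * (e * C.z) * u⁻¹ = (u * e * u⁻¹) * (u * C.z * u⁻¹) by group, h, C.conj_z hu, mul_assoc,
      C.z_sq, mul_one]

variable (hx₀ : InS C x₀) (hx₀e : ¬ Commute x₀ e)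
include hx₀ hx₀e

/-- The involutions of `S/E` in the centraliser of `e`. -/
theorem inv_centralizer {u : G} (hu : InS C u) (hue : Commute u e) (hu2 : u * u ∈ hf.E) :
    u ∈ hf.E ∨ C.r⁻¹ * u ∈ hf.E := by
  by_contra h
  push Not at h
  refine hx₀e ?_
  have hc : Commute ((C.t * u) ^ (2 : ℤ)) e := by
    rw [zpow_two]
    exact hf.sq_commute (mul_mem C.htT hu.1)
  have hη : ∀ {η : G}, η ∈ hf.E → Commute η e := fun hη =>
    (hf.comm_E hη hf.second.memT (Commute.refl e)).symm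
  obtain ⟨i, hi | hi⟩ := hf.gen_two hu hu2 h.1 h.2 hx₀
  · rw [show x₀ = (C.t * u) ^ (2 * i) * (((C.t * u) ^ (2 * i))⁻¹ * x₀) by group, zpow_mul]
    exact (hc.zpow_left i).mul_left (by rw [← zpow_mul]; exact hη hi)
  · rw [show x₀ = (C.t * u) ^ (2 * i) * u * (((C.t * u) ^ (2 * i) * u)⁻¹ * x₀) by group, zpow_mul]
    exact ((hc.zpow_left i).mul_left hue).mul_left (by rw [← zpow_mul]; exact hη hi)

/-- The involutions of `C_S(e)` lie in the four-group. -/
theorem inv_mem_E {u : G} (hu : InS C u) (hue : Commute u e) (hu2 : u * u = 1) : u ∈ hf.E :=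
  (hf.inv_centralizer hx₀ hx₀e hu hue (hu2 ▸ one_mem _)).resolve_right fun h =>
    C.z_ne ((hf.sq_rE h).symm.trans hu2)

/-- `z` is the only involution which is a square in `S`. -/
theorem sq_eq_z {u : G} (hu : InS C u) (h4 : u * u * (u * u) = 1) (h2 : u * u ≠ 1) : u * u = C.z := by
  rcases (mem_fourSub hf.second).1 (hf.inv_mem_E hx₀ hx₀e (mul_mem hu hu) (hf.sq_commute hu.1) h4)
    with h | h | h | h
  · exact absurd h h2
  · exact h
  all_goals
    have hue : Commute u e := by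
      have hc : Commute u (u * u) := (Commute.refl u).mul_right (Commute.refl u)
      rw [h] at hc
      first
        | exact hc
        | (have := hc.mul_right (C.z_comm u hu.1); rwa [mul_assoc, C.z_sq, mul_one] at this)
    have hmem : u * u ∈ hf.E := by rw [h]; first | exact hf.e_mem | exact hf.ez_mem
    exact (hf.sq_cases (hf.inv_centralizer hx₀ hx₀e hu hue hmem)).resolve_left h2

/-- Every involution of `S` commutes with a square root of `z` in `S`. -/
theorem exists_root {u : G} (hu : InS C u) (hu2 : u * u = 1) :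
    ∃ y, InS C y ∧ y * y = C.z ∧ Commute u y := by
  by_cases hue : Commute u e
  · exact ⟨C.r, inS_r, rfl, (hf.commute_r (hf.inv_mem_E hx₀ hx₀e hu hue hu2)).symm⟩
  have hui : u⁻¹ = u := inv_eq_of_mul_eq_one_right hu2
  have hue' : u * e * u⁻¹ = e * C.z :=
    (hf.norm u hu.1).resolve_left fun h => hue (conj_eq_iff_commute.1 h)
  have hη := hf.r_central hu.1
  set η := C.r⁻¹ * (u * C.r * u⁻¹) with hηdef
  have hur : u * C.r * u⁻¹ = C.r * η := by rw [hηdef, mul_inv_cancel_left]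
  have htwice : η * (u * η * u⁻¹) = 1 := by
    refine mul_left_cancel (a := C.r) ?_
    rw [mul_one, ← mul_assoc, ← hur,
      show u * C.r * u⁻¹ * (u * η * u⁻¹) = u * (C.r * η) * u⁻¹ by group, ← hur,
      show u * (u * C.r * u⁻¹) * u⁻¹ = (u * u) * C.r * (u * u)⁻¹ by group, hu2, one_mul, inv_one,
      mul_one]
  rcases (mem_fourSub hf.second).1 hη with h | h | h | h
  · exact ⟨C.r, inS_r, rfl, conj_eq_iff_commute.1 (by rw [hur, h, mul_one])⟩
  · refine ⟨C.r * e, mul_mem inS_r (hf.inS_E hf.e_mem),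
      hf.sq_rE (by rw [inv_mul_cancel_left]; exact hf.e_mem), conj_eq_iff_commute.1 ?_⟩
    rw [show u * (C.r * e) * u⁻¹ = (u * C.r * u⁻¹) * (u * e * u⁻¹) by group, hur, h, hue',
      mul_assoc C.r, show C.z * (e * C.z) = e by
        rw [← mul_assoc, (C.z_comm e hf.second.memT).symm.eq, mul_assoc, C.z_sq, mul_one]]
  · rw [h, hue', ← mul_assoc, hf.second.sq, one_mul] at htwice
    exact absurd htwice C.z_ne
  · rw [h, show u * (e * C.z) * u⁻¹ = (u * e * u⁻¹) * (u * C.z * u⁻¹) by group, hue', C.conj_z hu.1,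
      mul_assoc e C.z C.z, C.z_sq, mul_one, mul_assoc, (C.z_comm e hf.second.memT).symm.eq,
      ← mul_assoc, hf.second.sq, one_mul] at htwice
    exact absurd htwice C.z_ne

/-- `z` is central in `A`. -/
theorem z_center : ∀ g ∈ C.A, Commute g C.z := by
  refine C.z_central fun g hg hgT => ?_
  set x := g * C.z * g⁻¹ with hx
  have hx2 : x * x = 1 := by
    rw [hx, show g * C.z * g⁻¹ * (g * C.z * g⁻¹) = g * (C.z * C.z) * g⁻¹ by group, C.z_sq, mul_one,
      mul_inv_cancel]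
  obtain ⟨y, hy, hy2, hxy⟩ := hf.exists_root hx₀ hx₀e ⟨hgT, C.conjA C.z_memA g⟩ hx2
  have hgx : g⁻¹ * x * g = C.z := by rw [hx]; group
  set y' := g⁻¹ * y * g with hy'
  have hy'c : Commute y' C.z := by
    have := Commute.map hxy.symm (MulAut.conj g⁻¹).toMonoidHom
    simp only [MulEquiv.coe_toMonoidHom, MulAut.conj_apply, inv_inv] at this
    rwa [hgx] at this
  have hy'4 : y' ^ 2 ^ 2 = 1 := by
    rw [show (2 : ℕ) ^ 2 = 2 + 2 from rfl, pow_add, pow_two,
      show y' * y' = g⁻¹ * (y * y) * g by rw [hy']; group, hy2,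
      show g⁻¹ * C.z * g * (g⁻¹ * C.z * g) = g⁻¹ * (C.z * C.z) * g by group, C.z_sq, mul_one,
      inv_mul_cancel]
  obtain ⟨k, hk, hkz, hkT⟩ := C.push hy'4 hy'c
  set g' := k * g⁻¹ with hg'
  have hg'A : g' ∈ C.A := mul_mem hk (inv_mem hg)
  have hw : k * y' * k⁻¹ = g' * y * g'⁻¹ := by rw [hy', hg']; group
  rw [hw] at hkT
  have hwS : InS C (g' * y * g'⁻¹) := ⟨hkT, C.conjA hy.2 g'⟩
  have hw2 : g' * y * g'⁻¹ * (g' * y * g'⁻¹) = g' * C.z * g'⁻¹ := by rw [← hy2]; group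
  have h1 : g' * C.z * g'⁻¹ = C.z := by
    rw [← hw2]
    refine hf.sq_eq_z hx₀ hx₀e hwS ?_ ?_
    · rw [hw2, show g' * C.z * g'⁻¹ * (g' * C.z * g'⁻¹) = g' * (C.z * C.z) * g'⁻¹ by group, C.z_sq,
        mul_one, mul_inv_cancel]
    · rw [hw2]
      exact fun h => C.z_ne (by simpa using h)
  have h2 : g' * x * g'⁻¹ = C.z := by
    rw [hg', show k * g⁻¹ * x * (k * g⁻¹)⁻¹ = k * (g⁻¹ * x * g) * k⁻¹ by group, hgx]
    exact conj_eq_iff_commute.2 hkz
  exact mul_left_cancel (mul_right_cancel (h2.trans h1.symm))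

/-- No involution of `S` lies outside the four-group. -/
theorem false_of_outer (hzc : ∀ g ∈ C.A, Commute g C.z) {f : G} (hfS : InS C f) (hf2 : f * f = 1)
    (hfE : f ∉ hf.E) : False := by
  haveI := Fact.mk Nat.prime_two
  have hti : C.t⁻¹ = C.t := inv_eq_of_mul_eq_one_right C.ht2
  have hfi : f⁻¹ = f := inv_eq_of_mul_eq_one_right hf2
  have hfr : C.r⁻¹ * f ∉ hf.E := fun h => C.z_ne ((hf.sq_rE h).symm.trans hf2)
  have hfe : f * e * f⁻¹ = e * C.z := (hf.norm f hfS.1).resolve_left fun h =>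
    hfE (hf.inv_mem_E hx₀ hx₀e hfS (conj_eq_iff_commute.1 h) hf2)
  have hez : e * C.z ≠ e := fun h => C.z_ne (mul_left_cancel (h.trans (mul_one e).symm))
  set c := (C.t * f) ^ (2 : ℤ) with hc
  have hcS : InS C c := by
    have h : C.t * f * C.t⁻¹ * f = c := by rw [hc, hti, zpow_two]; group
    exact h ▸ mul_mem (inS_conj hfS C.htT) hfS
  have hce : Commute c e := by rw [hc, zpow_two]; exact hf.sq_commute (mul_mem C.htT hfS.1)
  have hfc : f * c * f⁻¹ = c⁻¹ := by
    have h : (c⁻¹ : G) = f * C.t * (f * C.t) := by rw [hc, zpow_two, mul_inv_rev, mul_inv_rev, hti, hfi]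
    rw [h, hc, zpow_two, hfi, show f * (C.t * f * (C.t * f)) * f = f * C.t * (f * C.t) * (f * f) by group,
      hf2, mul_one]
  have htc : C.t * c * C.t⁻¹ = c⁻¹ := by
    have h : (c⁻¹ : G) = f * C.t * (f * C.t) := by rw [hc, zpow_two, mul_inv_rev, mul_inv_rev, hti, hfi]
    rw [h, hc, zpow_two, hti, show C.t * (C.t * f * (C.t * f)) * C.t = (C.t * C.t) * f * C.t * (f * C.t) by group,
      C.ht2, one_mul]
  have hcE : ∀ {η : G}, η ∈ hf.E → Commute c η := fun hη => hf.comm_E hη hcS.1 hce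
  have hform : ∀ {x : G}, InS C x → ∃ (i : ℤ), ∃ η ∈ hf.E, x = c ^ i * η ∨ x = c ^ i * f * η := by
    intro x hx
    obtain ⟨i, hi | hi⟩ := hf.gen_two hfS (hf2 ▸ one_mem _) hfE hfr hx
    · exact ⟨i, _, hi, Or.inl (by rw [hc, ← zpow_mul, mul_inv_cancel_left])⟩
    · exact ⟨i, _, hi, Or.inr (by rw [hc, ← zpow_mul, mul_inv_cancel_left])⟩
  -- `r` inside `⟨c⟩ E`
  obtain ⟨k, θ, hθ, hrk⟩ : ∃ (k : ℤ), ∃ θ ∈ hf.E, c ^ k = C.r * θ := by
    obtain ⟨i, η, hη, h | h⟩ := hform inS_r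
    · exact ⟨i, η⁻¹, inv_mem hη, by rw [h, mul_inv_cancel_right]⟩
    · exfalso
      refine hez ?_
      have hre : C.r * e * C.r⁻¹ = e := conj_eq_iff_commute.2 hf.comm
      rw [h, show c ^ i * f * η * e * (c ^ i * f * η)⁻¹ = c ^ i * (f * (η * e * η⁻¹) * f⁻¹) * (c ^ i)⁻¹ by
          group, conj_eq_iff_commute.2 (hf.comm_E hη hf.second.memT (Commute.refl e)).symm, hfe,
        conj_eq_iff_commute.2 ((hce.mul_right (C.z_comm c hcS.1)).zpow_left i)] at hre
      exact hre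
  have hrθ : Commute C.r θ := hf.commute_r hθ
  have hθ2 : θ * θ = 1 := hf.sq_E hθ
  have hck2 : c ^ k * c ^ k = C.z := by
    rw [hrk, hrθ.symm.mul_mul_mul_comm, hθ2, mul_one]
  have hckinv : (c ^ k)⁻¹ = c ^ k * C.z := by
    refine inv_eq_of_mul_eq_one_right ?_
    rw [← mul_assoc, hck2, C.z_sq]
  have hθt : C.t * θ * C.t⁻¹ = θ * C.z := by
    have h1 : C.t * c ^ k * C.t⁻¹ = c ^ k * C.z := by rw [← conj_zpow, htc, inv_zpow, hckinv]
    rw [hrk, show C.t * (C.r * θ) * C.t⁻¹ = (C.t * C.r * C.t⁻¹) * (C.t * θ * C.t⁻¹) by group,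
      conj_eq_iff_commute.2 C.htr, mul_assoc C.r θ C.z] at h1
    exact mul_left_cancel h1
  have hθe : θ = e ∨ θ = e * C.z := by
    rcases (mem_fourSub hf.second).1 hθ with h | h | h | h
    · rw [h, mul_one, mul_inv_cancel, one_mul] at hθt
      exact absurd hθt.symm C.z_ne
    · rw [h, C.conj_z C.htT, C.z_sq] at hθt
      exact absurd hθt C.z_ne
    · exact Or.inl h
    · exact Or.inr h
  have hfθ : f * θ * f⁻¹ = θ * C.z := by
    rcases hθe with h | h <;> rw [h]
    · exact hfe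
    · rw [show f * (e * C.z) * f⁻¹ = (f * e * f⁻¹) * (f * C.z * f⁻¹) by group, hfe, C.conj_z hfS.1]
  have hfr' : Commute f C.r := by
    refine conj_eq_iff_commute.1 ?_
    have hr : C.r = c ^ k * θ := by rw [hrk, mul_assoc, hθ2, mul_one]
    rw [hr, show f * (c ^ k * θ) * f⁻¹ = (f * c ^ k * f⁻¹) * (f * θ * f⁻¹) by group, hfθ, ← conj_zpow,
      hfc, inv_zpow, hckinv, mul_assoc (c ^ k), show C.z * (θ * C.z) = θ by
        rw [← mul_assoc, (C.z_comm θ (hf.inS_E hθ).1).symm.eq, mul_assoc, C.z_sq, mul_one]]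
  have hcr : Commute c C.r := by
    rw [show C.r = c ^ k * θ by rw [hrk, mul_assoc, hθ2, mul_one]]
    exact ((Commute.refl c).zpow_right k).mul_right (hcE hθ)
  have hrc : ∀ {x : G}, InS C x → Commute x C.r := by
    intro x hx
    obtain ⟨i, η, hη, rfl | rfl⟩ := hform hx
    · exact (hcr.zpow_left i).mul_left (hf.commute_r hη).symm
    · exact ((hcr.zpow_left i).mul_left hfr').mul_left (hf.commute_r hη).symm
  -- the dihedral subgroup `⟨c, f⟩`
  obtain ⟨P, hP⟩ := C.exists_sylow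
  have hPS : ∀ x : ↥C.A, x ∈ (P : Subgroup ↥C.A) ↔ InS C (x : G) :=
    fun x => ⟨fun h => ⟨(hP x).1 h, x.2⟩, fun h => (hP x).2 h.1⟩
  have hfpow : ∀ i : ℤ, f * c ^ i = c ^ (-i) * f := fun i => by
    rw [← mul_inv_eq_iff_eq_mul, ← conj_zpow, hfc, inv_zpow, zpow_neg]
  let inD : G → Prop := fun x => ∃ i : ℤ, x = c ^ i ∨ x = c ^ i * f
  let M : Subgroup ↥(P : Subgroup ↥C.A) :=
    { carrier := {x | inD ((x : ↥C.A) : G)}
      one_mem' := ⟨0, Or.inl (by simp)⟩
      mul_mem' := by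
        rintro x y ⟨i, hi | hi⟩ ⟨j, hj | hj⟩ <;>
          simp only [Set.mem_setOf_eq, inD, Subgroup.coe_mul, hi, hj]
        · exact ⟨i + j, Or.inl (by rw [zpow_add])⟩
        · exact ⟨i + j, Or.inr (by rw [zpow_add, mul_assoc])⟩
        · exact ⟨i + -j, Or.inr (by rw [mul_assoc, hfpow, ← mul_assoc, ← zpow_add])⟩
        · refine ⟨i + -j, Or.inl ?_⟩
          rw [mul_assoc, ← mul_assoc f, hfpow, mul_assoc _ f f, hf2, mul_one, ← zpow_add]
      inv_mem' := by
        rintro x ⟨i, hi | hi⟩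
        · exact ⟨-i, Or.inl (by simp only [Subgroup.coe_inv, hi, zpow_neg])⟩
        · exact ⟨i, Or.inr (by
            simp only [Subgroup.coe_inv, hi, mul_inv_rev, hfi, ← zpow_neg]; rw [hfpow, neg_neg])⟩ }
  have hrD : ¬ inD C.r := by
    rintro ⟨i, hi | hi⟩
    · have hq : c ^ (k - i) = θ := by
        rw [zpow_sub, hrk, ← hi, hrθ.eq, mul_inv_cancel_right]
      have hθ1 : θ ≠ 1 := by
        rcases hθe with h | h <;> rw [h]
        · exact hf.second.ne
        · exact fun h' => hf.second.ne_z (by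
            rw [mul_eq_one_iff_eq_inv.1 h', inv_eq_of_mul_eq_one_right C.z_sq])
      have h := PGroups.eq_of_sq_eq_one (H := zpowers c) inferInstance
        (a := θ) (b := C.z) ⟨k - i, hq⟩ ⟨k + k, by dsimp only; rw [zpow_add, hck2]⟩
        ((pow_two _).trans hθ2) ((pow_two _).trans C.z_sq) hθ1 C.z_ne
      rcases hθe with h' | h' <;> rw [h'] at h
      · exact hf.second.ne_z h
      · exact hf.second.ne (mul_right_cancel (h.trans (one_mul C.z).symm))
    · refine C.z_ne ?_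
      rw [Ctx4.z, hi, mul_assoc, ← mul_assoc f, hfpow, mul_assoc _ f f, hf2, mul_one, ← zpow_add,
        add_neg_cancel, zpow_zero]
  let rA : ↥C.A := ⟨C.r, C.hrA⟩
  let rP : ↥(P : Subgroup ↥C.A) := ⟨rA, (hPS rA).2 inS_r⟩
  have hcover : ∀ b : ↥(P : Subgroup ↥C.A), b * rP ∈ M ∨ b ∈ M := by
    intro b
    obtain ⟨i, η, hη, h⟩ := hform ((hPS _).1 b.2)
    have hcz : C.z = c ^ (k + k) := by rw [zpow_add, hck2]
    -- `η` or `η r` lies in `⟨c⟩`
    have key : (∃ m : ℤ, η = c ^ m) ∨ ∃ m : ℤ, η * C.r = c ^ m := by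
      rcases (mem_fourSub hf.second).1 hη with h' | h' | h' | h'
      · exact Or.inl ⟨0, by simp [h']⟩
      · exact Or.inl ⟨k + k, h'.trans hcz⟩
      all_goals
        right
        have hθr : θ * C.r = c ^ k := by rw [hrk, hrθ.eq]
        have heq : η = θ ∨ η = θ * C.z := by
          rcases hθe with h'' | h'' <;> rw [h', h''] <;>
            first
              | exact Or.inl rfl
              | exact Or.inr rfl
              | exact Or.inr (by rw [mul_assoc, C.z_sq, mul_one])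
        rcases heq with h'' | h''
        · exact ⟨k, by rw [h'', hθr]⟩
        · exact ⟨k + (k + k), by
            rw [zpow_add, ← hcz, ← hθr, h'', mul_assoc, (C.z_comm C.r C.hrT).symm.eq, mul_assoc]⟩
    rcases key with ⟨m, hm⟩ | ⟨m, hm⟩
    · right
      rcases h with h | h
      · exact ⟨i + m, Or.inl (by rw [h, hm, zpow_add])⟩
      · exact ⟨i + -m, Or.inr (by rw [h, hm, mul_assoc, hfpow, ← mul_assoc, ← zpow_add])⟩
    · left
      show inD (((b : ↥C.A) : G) * C.r)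
      rcases h with h | h
      · exact ⟨i + m, Or.inl (by rw [h, mul_assoc, hm, zpow_add])⟩
      · exact ⟨i + -m, Or.inr (by rw [h, mul_assoc, hm, mul_assoc, hfpow, ← mul_assoc, ← zpow_add])⟩
  have hM : M.index = 2 := by
    rw [Subgroup.index_eq_two_iff]
    refine ⟨rP, fun b => ?_⟩
    rcases hcover b with h | h
    · exact Or.inl ⟨h, fun hb => hrD ((M.mul_mem_cancel_left hb).1 h)⟩
    · exact Or.inr ⟨h, fun hb => hrD ((M.mul_mem_cancel_left h).1 hb)⟩
  obtain ⟨g, hgP, hgM⟩ : ∃ g : ↥C.A, ∃ h : g⁻¹ * rA * g ∈ (P : Subgroup ↥C.A),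
      (⟨_, h⟩ : ↥(P : Subgroup ↥C.A)) ∈ M := by
    by_contra hno
    push Not at hno
    refine H83.SmallCent.transfer_four P (H83.SmallCent.signHom M hM) C.hom_one rA
      (by rw [Subgroup.orderOf_mk, C.hr4])
      (fun g h h' => hno g h ((H83.SmallCent.signHom_eq_one hM).1 h'))
      fun g h => (H83.SmallCent.signHom_eq_one hM).2 ⟨k + k, Or.inl ?_⟩
    simp only [pow_two, Subgroup.coe_mul, Subgroup.coe_inv, rA, zpow_add, hck2]
    rw [show (C.r * C.r : G) = C.z from rfl, (Commute.inv_left (hzc g g.2)).eq, inv_mul_cancel_right]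
  set w : G := (g : G)⁻¹ * C.r * g with hw
  have hwS : InS C w := (hPS _).1 hgP
  have hw2 : w * w = C.z := by
    rw [hw, show (g : G)⁻¹ * C.r * g * ((g : G)⁻¹ * C.r * g) = (g : G)⁻¹ * C.z * g by
      simp only [Ctx4.z]; group, (Commute.inv_left (hzc g g.2)).eq, inv_mul_cancel_right]
  obtain ⟨i, hi⟩ : ∃ i : ℤ, w = c ^ i := by
    obtain ⟨i, hi | hi⟩ := hgM
    · exact ⟨i, hi⟩
    · refine absurd ?_ C.z_ne
      rw [← hw2, show w = c ^ i * f from hi, mul_assoc, ← mul_assoc f, hfpow, mul_assoc _ f f, hf2,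
        mul_one, ← zpow_add, add_neg_cancel, zpow_zero]
  have hfw : f * w * f⁻¹ = w⁻¹ := by rw [hi, ← conj_zpow, hfc, inv_zpow]
  let wA : ↥C.A := ⟨w, hwS.2⟩
  have himg : ∀ (x : ↥C.A) (a : ↥C.A), (fun y => a * y * a⁻¹) '' ({x, x⁻¹} : Set ↥C.A) =
      {a * x * a⁻¹, (a * x * a⁻¹)⁻¹} := fun x a => by
    rw [Set.image_pair, show a * x⁻¹ * a⁻¹ = (a * x * a⁻¹)⁻¹ by group]
  have hnX : (P : Subgroup ↥C.A) ≤ normalizer ({rA, rA⁻¹} : Set ↥C.A) := fun p hp =>
    Fusion.conj_image_eq_iff.1 (by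
      have h1 : p * rA * p⁻¹ = rA := Subtype.ext (conj_eq_iff_commute.2 (hrc ((hPS p).1 hp)))
      rw [himg, h1])
  have hnY : (P : Subgroup ↥C.A) ≤ normalizer ({wA, wA⁻¹} : Set ↥C.A) := fun p hp =>
    Fusion.conj_image_eq_iff.1 (by
      have h1 : p * wA * p⁻¹ = wA ∨ p * wA * p⁻¹ = wA⁻¹ := by
        obtain ⟨j, η, hη, h | h⟩ := hform ((hPS p).1 hp)
        · refine Or.inl (Subtype.ext ?_)
          show (p : G) * w * (p : G)⁻¹ = w
          refine conj_eq_iff_commute.2 ?_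
          rw [h, hi]
          exact ((Commute.refl c).zpow_zpow j i).mul_left ((hcE hη).zpow_left i).symm
        · refine Or.inr (Subtype.ext ?_)
          show (p : G) * w * (p : G)⁻¹ = w⁻¹
          have hwη : Commute η w := by rw [hi]; exact ((hcE hη).zpow_left i).symm
          rw [h, show c ^ j * f * η * w * (c ^ j * f * η)⁻¹
              = c ^ j * (f * (η * w * η⁻¹) * f⁻¹) * (c ^ j)⁻¹ by group,
            conj_eq_iff_commute.2 hwη, hfw, hi, ← zpow_neg c i]
          exact conj_eq_iff_commute.2 ((Commute.refl c).zpow_zpow j (-i))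
      rcases h1 with h1 | h1 <;> rw [himg, h1]
      rw [inv_inv, Set.pair_comm])
  obtain ⟨n, hn, hnim⟩ := Fusion.burnside_fusion_sets P hnX hnY (g := g⁻¹) (by
    rw [himg, show g⁻¹ * rA * g⁻¹⁻¹ = wA from Subtype.ext (by simp [hw, rA, wA])])
  rw [himg] at hnim
  have hmem : n * rA * n⁻¹ = wA ∨ n * rA * n⁻¹ = wA⁻¹ := by
    have : n * rA * n⁻¹ ∈ ({wA, wA⁻¹} : Set ↥C.A) := hnim ▸ Or.inl rfl
    simpa using this
  -- `n r n⁻¹` is central in `S`, but `f` inverts it
  have hcent : Commute (f : G) ((n * rA * n⁻¹ : ↥C.A) : G) := by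
    let fA : ↥C.A := ⟨f, hfS.2⟩
    have hf' : n⁻¹ * fA * n⁻¹⁻¹ ∈ (P : Subgroup ↥C.A) :=
      (Subgroup.mem_normalizer_iff.1 (inv_mem hn) fA).1 ((hPS fA).2 hfS)
    have h1 : Commute (n⁻¹ * fA * n⁻¹⁻¹) rA := Subtype.ext (hrc ((hPS _).1 hf'))
    have h2 := Commute.map h1 (MulAut.conj n).toMonoidHom
    simp only [MulEquiv.coe_toMonoidHom, MulAut.conj_apply, inv_inv] at h2
    rw [show n * (n⁻¹ * fA * n) * n⁻¹ = fA by group] at h2
    exact congrArg Subtype.val h2.eq
  refine C.z_ne ?_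
  have hcw : Commute f w := by
    rcases hmem with h | h <;> rw [h] at hcent
    · exact hcent
    · exact Commute.inv_right_iff.1 hcent
  rw [conj_eq_iff_commute.2 hcw] at hfw
  rw [← hw2]
  nth_rewrite 1 [hfw]
  exact inv_mul_cancel w

/-- The four-group case is impossible when some element of `S` moves `e`. -/
theorem false_of_move : False := by
  haveI := Fact.mk Nat.prime_two
  have hzc := hf.z_center hx₀ hx₀e
  by_cases hex : ∃ f, InS C f ∧ f * f = 1 ∧ f ∉ hf.E
  · obtain ⟨f, hfS, hf2, hfE⟩ := hex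
    exact hf.false_of_outer hx₀ hx₀e hzc hfS hf2 hfE
  push Not at hex
  obtain ⟨P, hP⟩ := C.exists_sylow
  have hPS : ∀ x : ↥C.A, x ∈ (P : Subgroup ↥C.A) ↔ InS C (x : G) :=
    fun x => ⟨fun h => ⟨(hP x).1 h, x.2⟩, fun h => (hP x).2 h.1⟩
  let zA : ↥C.A := ⟨C.z, C.z_memA⟩
  let eA : ↥C.A := ⟨e, hf.second.memA⟩
  have hzA : zA ∈ center ↥C.A := mem_center_iff.2 fun g => Subtype.ext (hzc g g.2).eq
  haveI hZn : (zpowers zA).Normal := PGroups.normal_of_le_center (zpowers_le.2 hzA)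
  have hzAo : orderOf zA = 2 := orderOf_eq_prime (by rw [pow_two]; exact Subtype.ext C.z_sq)
    fun h => C.z_ne (congrArg Subtype.val h)
  set π := QuotientGroup.mk' (zpowers zA) with hπ
  have hπs : Function.Surjective π := QuotientGroup.mk'_surjective _
  have hker : ∀ {a b : ↥C.A}, π a = π b → ∃ u ∈ zpowers zA, b = a * u := fun {a b} h =>
    ⟨a⁻¹ * b, (QuotientGroup.eq (s := zpowers zA)).1 h, by rw [mul_inv_cancel_left]⟩
  have hZ2 : ∀ {u : ↥C.A}, u ∈ zpowers zA → u = 1 ∨ u = zA := by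
    rintro u ⟨j, rfl⟩
    have h2 : zA ^ (2 : ℤ) = 1 := by rw [zpow_two]; exact Subtype.ext C.z_sq
    rcases Int.even_or_odd' j with ⟨j', rfl | rfl⟩
    · left; show zA ^ (2 * j') = 1; rw [zpow_mul, h2, one_zpow]
    · right; show zA ^ (2 * j' + 1) = zA; rw [zpow_add, zpow_mul, h2, one_zpow, one_mul, zpow_one]
  let P' : Sylow 2 (↥C.A ⧸ zpowers zA) := P.mapSurjective hπs
  have hP' : ∀ {g : ↥C.A}, π g ∈ (P' : Subgroup (↥C.A ⧸ zpowers zA)) → InS C (g : G) := by
    intro g hg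
    obtain ⟨p, hp, hpg⟩ := hg
    obtain ⟨u, hu, rfl⟩ := hker hpg
    refine (hPS _).1 (mul_mem hp ?_)
    rcases hZ2 hu with rfl | rfl
    · exact one_mem _
    · exact (hPS zA).2 ⟨C.z_memT, C.z_memA⟩
  have hu' : orderOf (π eA) = 2 := by
    refine orderOf_eq_prime (by rw [← map_pow, show eA ^ 2 = 1 from by
      rw [pow_two]; exact Subtype.ext hf.second.sq, map_one]) fun h => ?_
    rcases hZ2 ((QuotientGroup.eq_one_iff eA).1 h) with h' | h'
    · exact hf.second.ne (congrArg Subtype.val h')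
    · exact hf.second.ne_z (congrArg Subtype.val h')
  obtain ⟨N, hN, hNodd, hNc⟩ := S0215.result P' (π eA) hu'
    (Subgroup.mem_map_of_mem π ((hPS eA).2 ⟨hf.second.memT, hf.second.memA⟩)) fun q hq => by
    obtain ⟨g, rfl⟩ := hπs q
    rw [← map_inv, ← map_mul, ← map_mul] at hq ⊢
    set x := g * eA * g⁻¹ with hx
    have hxS := hP' hq
    have hx2 : (x : G) * x = 1 := by
      simp only [hx, eA, coe_mul, coe_inv]
      rw [show (g : G) * e * (g : G)⁻¹ * ((g : G) * e * (g : G)⁻¹) = g * (e * e) * (g : G)⁻¹ by group,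
        hf.second.sq, mul_one, mul_inv_cancel]
    rcases (mem_fourSub hf.second).1 (hex _ hxS hx2) with h | h | h | h
    · exact absurd (by simpa [hx, eA] using h) hf.second.ne
    · refine absurd ?_ hf.second.ne_z
      simp only [hx, eA, coe_mul, coe_inv] at h
      exact mul_left_cancel (mul_right_cancel (h.trans (conj_eq_iff_commute.2 (hzc g g.2)).symm))
    · exact congrArg π (Subtype.ext h)
    · rw [show x = eA * zA from Subtype.ext h, map_mul,
        show π zA = 1 from (QuotientGroup.eq_one_iff zA).2 (mem_zpowers zA), mul_one]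
  haveI := hN
  -- the preimage of `N` is `⟨z⟩`
  set M : Subgroup ↥C.A := N.comap π with hMdef
  haveI : M.Normal := hN.comap π
  have hMz : zA ∈ M := by
    rw [hMdef, mem_comap, show π zA = 1 from (QuotientGroup.eq_one_iff zA).2 (mem_zpowers zA)]
    exact one_mem N
  have hcard : Nat.card M = 2 * Nat.card N := by
    have hle : zpowers zA ≤ M := zpowers_le.2 hMz
    have h1 := Subgroup.card_mul_index ((zpowers zA).subgroupOf M)
    rw [Nat.card_congr (subgroupOfEquivOfLe hle).toEquiv, Nat.card_zpowers, hzAo] at h1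
    rw [← h1]
    congr 1
    have h2 : π.ker = zpowers zA := QuotientGroup.ker_mk' _
    show (zpowers zA).relIndex M = Nat.card N
    rw [← congrArg (fun K : Subgroup ↥C.A => K.relIndex M) h2]
    show π.ker.relIndex M = Nat.card N
    rw [Subgroup.relIndex_ker, hMdef, Subgroup.map_comap_eq_self_of_surjective hπs]
  have hMc : ∀ m ∈ M, m ∈ zpowers zA := by
    intro m hm
    let z' : ↥M := ⟨zA, hMz⟩
    have hO : Cfsg.oddCore ↥M = ⊥ := H24.CycInt.oddCore_map_eq_bot C.core M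
    rcases H92.mem_oddCore_or (G := ↥M) (z := z') (by rw [Subgroup.orderOf_mk, hzAo])
      (fun x => Subtype.ext (mem_center_iff.1 hzA x.1))
      (by
        obtain ⟨a, ha⟩ := hNodd
        rw [hcard, ha]; omega) ⟨m, hm⟩ with h | h <;> rw [hO, mem_bot] at h
    · rw [show m = 1 from congrArg Subtype.val h]; exact one_mem _
    · have h' : m * zA = 1 := congrArg Subtype.val h
      rw [mul_eq_one_iff_eq_inv.1 h']
      exact inv_mem (mem_zpowers zA)
  have hcomm : ∀ g : ↥C.A, eA * g * eA⁻¹ * g⁻¹ ∈ zpowers zA := fun g => hMc _ (by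
    rw [hMdef, mem_comap, map_mul, map_mul, map_mul, map_inv, map_inv]
    exact hNc (π g))
  have hcen : ∀ {u : ↥C.A}, u ∈ zpowers zA → ∀ h : ↥C.A, h * u * h⁻¹ = u := fun {u} hu h =>
    mul_inv_eq_iff_eq_mul.2 (mem_center_iff.1 (zpowers_le.2 hzA hu) h)
  letI : CommGroup ↥(zpowers zA) := IsCyclic.commGroup
  let φ : ↥C.A →* ↥(zpowers zA) :=
    { toFun := fun g => ⟨eA * g * eA⁻¹ * g⁻¹, hcomm g⟩
      map_one' := Subtype.ext (by simp)
      map_mul' := fun g h => Subtype.ext (by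
        show eA * (g * h) * eA⁻¹ * (g * h)⁻¹ = (eA * g * eA⁻¹ * g⁻¹) * (eA * h * eA⁻¹ * h⁻¹)
        calc eA * (g * h) * eA⁻¹ * (g * h)⁻¹
            = (eA * g * eA⁻¹ * g⁻¹) * (g * (eA * h * eA⁻¹ * h⁻¹) * g⁻¹) := by group
          _ = _ := by rw [hcen (hcomm h) g]) }
  refine hx₀e ?_
  have h : φ ⟨x₀, hx₀.2⟩ = 1 := by rw [C.hom_one φ]; rfl
  have h' : e * x₀ * e⁻¹ * x₀⁻¹ = 1 :=
    congrArg (fun u : ↥(zpowers zA) => ((u : ↥C.A) : G)) h
  rw [mul_inv_eq_one] at h'
  exact (conj_eq_iff_commute.1 h').symm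

end IsFour

end Cfsg.Agent.H7Four
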