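import Cfsg.Agent.H7FourGroup.FourAxis
import Cfsg.Agent.H7FourGroup.FourMove

/-!
# Commuting involutions coincide

The axis and four-group cases combined, and the reduction to trivial odd core.
-/

set_option autoImplicit false

namespace Cfsg.Agent.H7Four

open Subgroup

variable {G : Type*} [Group G] [Finite G]

/-- The only involution of `T ⊓ A` is `z`. -/
theorem Ctx4.eq_z (C : Ctx4 G) {g : G} (hgT : g ∈ (C.T : Subgroup G)) (hgA : g ∈ C.A)
    (hg : g * g = 1) (hg1 : g ≠ 1) : g = C.z := by
  by_contra hgz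
  have he : IsSecond4 C g := ⟨hgT, hgA, hg1, hg, hgz⟩
  rcases exists_axis_or_four C with ⟨c, hc⟩ | ⟨e, hf⟩
  · exact false_of_axis hc he
  · by_cases h : ∀ x, InS C x → Commute x e
    · exact hf.false_of_central h
    · push Not at h
      obtain ⟨x₀, hx₀, hx₀e⟩ := h
      exact hf.false_of_move hx₀ hx₀e

/-- Commuting involutions of `A` are equal. -/
theorem Ctx4.involution_unique (C : Ctx4 G) {x y : G} (hx : x ∈ C.A) (hy : y ∈ C.A)
    (hx2 : x * x = 1) (hy2 : y * y = 1) (hx1 : x ≠ 1) (hy1 : y ≠ 1) (hxy : Commute x y) : x = y := by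
  have hcsq : ∀ {k g : G}, g * g = 1 → (k * g * k⁻¹) * (k * g * k⁻¹) = 1 := fun {k g} hg =>
    (show _ = k * (g * g) * k⁻¹ by group).trans (by rw [hg, mul_one, mul_inv_cancel])
  have hne : ∀ {k g : G}, g ≠ 1 → k * g * k⁻¹ ≠ 1 := fun {k g} hg h => hg (by simpa using h)
  obtain ⟨a, ha, -, haT⟩ := C.exists_conjA ⊤ le_top (zpowers x)
    (isPGroup_two_zpowers (n := 1) (by rw [pow_one, pow_two, hx2])) le_top
  have hxz : a * x * a⁻¹ = C.z :=
    C.eq_z (haT x (mem_zpowers x)) (C.conjA hx a) (hcsq hx2) (hne hx1)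
  have hyz : Commute (a * y * a⁻¹) C.z := hxz ▸ Commute.map hxy.symm (MulAut.conj a).toMonoidHom
  obtain ⟨b, hb, hbz, hbT⟩ := C.push (n := 1) (by rw [pow_one, pow_two, hcsq hy2]) hyz
  have hbz' : b * C.z * b⁻¹ = C.z := conj_eq_iff_commute.2 hbz
  have h3 : b * (a * y * a⁻¹) * b⁻¹ = C.z :=
    C.eq_z hbT (C.conjA (C.conjA hy a) b) (hcsq (hcsq hy2)) (hne (hne hy1))
  have h4 : a * y * a⁻¹ = C.z := mul_left_cancel (mul_right_cancel (h3.trans hbz'.symm))
  exact mul_left_cancel (mul_right_cancel (hxz.trans h4.symm))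

/-- The same without the hypothesis on the odd core. -/
theorem eq_of_commute_involutions (A : Subgroup G) [A.Normal] (hperf : ⁅A, A⁆ = A) (T : Sylow 2 G)
    (t r : G) (htT : t ∈ (T : Subgroup G)) (ht2 : t * t = 1) (hrT : r ∈ (T : Subgroup G))
    (hrA : r ∈ A) (hr4 : orderOf r = 4) (htr : Commute t r) (hgen : ∀ g : G, g ∈ A ∨ t * g ∈ A)
    (hfix : ∀ P : Subgroup G, P ≤ A → IsPGroup 2 P → (∀ x ∈ P, Commute t x) → Nat.card P ≤ 4)
    {x y : G} (hx : x ∈ A) (hy : y ∈ A) (hx2 : x * x = 1) (hy2 : y * y = 1) (hx1 : x ≠ 1)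
    (hy1 : y ≠ 1) (hxy : Commute x y) : x = y := by
  haveI := Fact.mk Nat.prime_two
  haveI : (Cfsg.oddCore ↥A).Characteristic := Cores.pPrimeCore_characteristic
  set K : Subgroup G := (Cfsg.oddCore ↥A).map A.subtype with hK
  have hKA : K ≤ A := map_subtype_le _
  have hKodd : Odd (Nat.card K) := by
    rw [hK, card_map_of_injective A.subtype_injective]; exact Cores.odd_card_oddCore
  -- a 2-element of `K` is trivial
  have hK1 : ∀ {g : G} {n : ℕ}, g ∈ K → g ^ 2 ^ n = 1 → g = 1 := by
    intro g n hgK hg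
    exact orderOf_eq_one_iff.1 (Nat.eq_one_of_dvd_coprimes
      ((Nat.coprime_two_left.2 hKodd).pow_left n) (orderOf_dvd_of_pow_eq_one hg)
      (Subgroup.orderOf_dvd_natCard K hgK))
  haveI hKn : K.Normal := hK ▸ inferInstance
  set π := QuotientGroup.mk' K with hπ
  have hπs : Function.Surjective π := QuotientGroup.mk'_surjective _
  have hπ1 : ∀ {g : G}, π g = 1 ↔ g ∈ K := fun {g} => QuotientGroup.eq_one_iff g
  have hcomap : ∀ {g : G}, π g ∈ A.map π → g ∈ A := by
    rintro g ⟨a, ha, hag⟩
    have h : a⁻¹ * g ∈ K := (QuotientGroup.eq (s := K)).1 hag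
    simpa using mul_mem ha (hKA h)
  have hcore : Cfsg.oddCore ↥(A.map π) = ⊥ := by
    haveI : (Cfsg.oddCore ↥(A.map π)).Characteristic := Cores.pPrimeCore_characteristic
    set f := π.subgroupMap A with hf
    have hfs : Function.Surjective f := π.subgroupMap_surjective A
    have hker : f.ker = Cfsg.oddCore ↥A := by
      ext a
      rw [MonoidHom.mem_ker, ← Subtype.coe_inj]
      show π (a : G) = 1 ↔ _
      rw [hπ1, hK]
      exact mem_map_iff_mem A.subtype_injective
    set O := (Cfsg.oddCore ↥(A.map π)).comap f with hO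
    haveI : O.Normal := Subgroup.Normal.comap inferInstance f
    have hle : f.ker ≤ O := fun a ha => by
      rw [hO, mem_comap, MonoidHom.mem_ker.1 ha]; exact one_mem _
    have hcard : Odd (Nat.card O) := by
      have h1 := Subgroup.card_mul_index (f.ker.subgroupOf O)
      rw [Nat.card_congr (subgroupOfEquivOfLe hle).toEquiv, ← Subgroup.relIndex,
        Subgroup.relIndex_ker, hO, map_comap_eq_self_of_surjective hfs] at h1
      rw [← h1, hker]
      exact Cores.odd_card_oddCore.mul Cores.odd_card_oddCore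
    have hle' : O ≤ f.ker := hker ▸ Cores.le_oddCore hcard
    rw [← map_comap_eq_self_of_surjective hfs (Cfsg.oddCore ↥(A.map π)), ← hO, eq_bot_iff]
    rintro _ ⟨a, ha, rfl⟩
    exact mem_bot.2 (hle' ha)
  let C : Ctx4 (G ⧸ K) :=
    { A := A.map π
      T := T.mapSurjective hπs
      t := π t
      r := π r
      normal := Subgroup.Normal.map inferInstance π hπs
      perf := by rw [← Subgroup.map_commutator, hperf]
      core := hcore
      htT := mem_map_of_mem π htT
      ht2 := by rw [← map_mul, ht2, map_one]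
      hrT := mem_map_of_mem π hrT
      hrA := mem_map_of_mem π hrA
      hr4 := by
        refine orderOf_eq_prime_pow (p := 2) (n := 1) (fun h => ?_) ?_
        · rw [← map_pow, hπ1] at h
          have h1 := hK1 (n := 1) h (by
            rw [← pow_mul, show 2 ^ 1 * 2 ^ 1 = orderOf r by rw [hr4]; rfl, pow_orderOf_eq_one])
          have := orderOf_dvd_of_pow_eq_one h1
          rw [hr4] at this
          norm_num at this
        · rw [← map_pow, show 2 ^ (1 + 1) = orderOf r by rw [hr4]; rfl, pow_orderOf_eq_one, map_one]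
      htr := htr.map π
      gen := fun q => by
        obtain ⟨g, rfl⟩ := hπs q
        exact (hgen g).imp (mem_map_of_mem π) fun h => by rw [← map_mul]; exact mem_map_of_mem π h
      fix := fun P hPA hP hcomm => by
        have hn : zpowers (π t) ≤ normalizer (P : Set (G ⧸ K)) := by
          refine zpowers_le.2 (mem_normalizer_iff.2 fun m => ⟨fun hm => ?_, fun hm => ?_⟩)
          · rwa [conj_eq_iff_commute.2 (hcomm m hm)]
          · have := hcomm _ hm
            have h2 : π t * π t = 1 := by rw [← map_mul, ht2, map_one]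
            have h3 := conj_eq_iff_commute.2 this
            rwa [← h3, show π t * (π t * m * (π t)⁻¹) * (π t)⁻¹ = (π t * π t) * m * (π t * π t)⁻¹ by
              group, h2, one_mul, inv_one, mul_one] at hm
        have hQ2 : IsPGroup 2 ↥(zpowers (π t) ⊔ P) := IsPGroup.to_sup_of_normal_right'
          (isPGroup_two_zpowers (n := 1) (by rw [pow_one, pow_two, ← map_mul, ht2, map_one])) hP hn
        set Q := zpowers (π t) ⊔ P with hQ
        set L := Q.comap π with hL
        have htL : t ∈ L := mem_sup_left (mem_zpowers (π t))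
        obtain ⟨S, hS⟩ := (isPGroup_two_zpowers (g := (⟨t, htL⟩ : ↥L)) (n := 1)
          (Subtype.ext (by show t ^ 2 ^ 1 = 1; rw [pow_one, pow_two, ht2]))).exists_le_sylow
        let f : ↥L →* ↥Q := (π.comp L.subtype).codRestrict Q fun g => g.2
        have hfs : Function.Surjective f := by
          rintro ⟨q, hq⟩
          obtain ⟨g, rfl⟩ := hπs q
          exact ⟨⟨g, hq⟩, rfl⟩
        have htop : ((S : Subgroup ↥L).map f) = ⊤ := by
          have h := (S.mapSurjective hfs).is_maximal' (Q := ⊤) (hQ2.of_equiv topEquiv.symm) le_top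
          rw [h]; rfl
        set S' : Subgroup G := (S : Subgroup ↥L).map L.subtype with hS'
        have hS'2 : IsPGroup 2 S' := S.2.map _
        have htS : t ∈ S' := ⟨⟨t, htL⟩, hS (mem_zpowers _), rfl⟩
        have h4 := hfix (S' ⊓ A) inf_le_right (hS'2.to_le inf_le_left) fun s hs => by
          -- `[t, s]` is a 2-element of `K`
          have hsK : t * s * t⁻¹ * s⁻¹ ∈ K := by
            rw [← hπ1]
            obtain ⟨⟨s', hs'L⟩, -, rfl⟩ := hs.1
            have hst : Commute (π t) (π s') := by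
              obtain ⟨a, ha, p, hp, hap⟩ : ∃ a ∈ zpowers (π t), ∃ p ∈ P, a * p = π s' := by
                have h : π s' ∈ zpowers (π t) ⊔ P := hs'L
                rw [← SetLike.mem_coe, coe_mul_of_left_le_normalizer_right _ _ hn] at h
                exact Set.mem_mul.1 h
              obtain ⟨i, rfl⟩ := ha
              rw [← hap]
              exact ((Commute.refl _).zpow_right i).mul_right (hcomm p hp)
            rw [map_mul, map_mul, map_mul, map_inv, map_inv]
            show π t * π s' * (π t)⁻¹ * (π s')⁻¹ = 1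
            rw [conj_eq_iff_commute.2 hst, mul_inv_cancel]
          have hmem : t * s * t⁻¹ * s⁻¹ ∈ S' :=
            mul_mem (mul_mem (mul_mem htS hs.1) (inv_mem htS)) (inv_mem hs.1)
          obtain ⟨n, hn'⟩ := hS'2 ⟨_, hmem⟩
          have h1 := hK1 hsK (by simpa using congrArg Subtype.val hn')
          rw [mul_inv_eq_one] at h1
          exact conj_eq_iff_commute.1 h1
        refine le_trans ?_ h4
        refine (Nat.card_le_card_of_surjective (fun s : ↥(S' ⊓ A) => (⟨π s, ?_⟩ : ↥(P ⊔ ((S' ⊓ A).map π)))) ?_).trans'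
          (Subgroup.card_le_of_le le_sup_left)
        · exact mem_sup_right (mem_map_of_mem π s.2)
        · rintro ⟨q, hq⟩
          have hle : P ⊔ (S' ⊓ A).map π ≤ (S' ⊓ A).map π := sup_le (fun p hp => by
            have hpQ : p ∈ Q := mem_sup_right hp
            obtain ⟨s, hs, hsp⟩ := htop.symm ▸ mem_top (⟨p, hpQ⟩ : ↥Q)
            have hsp' : π (s : G) = p := congrArg Subtype.val hsp
            exact ⟨s, ⟨⟨s, hs, rfl⟩, hcomap (by rw [hsp']; exact hPA hp)⟩, hsp'⟩) le_rfl
          obtain ⟨s, hs, rfl⟩ := hle hq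
          exact ⟨⟨s, hs⟩, rfl⟩ }
  have h2 : ∀ {g : G}, g * g = 1 → g ≠ 1 → π g ≠ 1 := fun {g} hg hg1 h =>
    hg1 (hK1 (n := 1) (hπ1.1 h) (by rw [pow_one, pow_two, hg]))
  have h := C.involution_unique (mem_map_of_mem π hx) (mem_map_of_mem π hy)
    (by rw [← map_mul, hx2, map_one]) (by rw [← map_mul, hy2, map_one]) (h2 hx2 hx1) (h2 hy2 hy1)
    (hxy.map π)
  by_contra hne
  refine h2 (g := x⁻¹ * y) ?_ (fun he => hne (inv_mul_eq_one.1 he)) ?_
  · rw [(hxy.inv_left.symm).mul_mul_mul_comm, ← mul_inv_rev, hx2, hy2, inv_one, one_mul]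
  · rw [map_mul, map_inv, h, inv_mul_cancel]

end Cfsg.Agent.H7Four
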